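import Cfsg.Agent.Lib.A10.Lift

/-! # Balance for the involutions of type `2²` in `A1` -/

set_option autoImplicit false
set_option maxRecDepth 100000
set_option linter.unusedSectionVars false

namespace H1.A10

open Subgroup Cfsg H69 H45 Gold T Equiv

universe v

namespace BAL

theorem odd_sq {G : Type*} [Group G] {g : G} (ho : Odd (orderOf g)) : ∃ n, (g * g) ^ n = g := by
  obtain ⟨j, hj⟩ := ho
  exact ⟨j + 1, by rw [← pow_two, ← pow_mul, show 2 * (j + 1) = orderOf g + 1 by omega, pow_succ,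
    pow_orderOf_eq_one, one_mul]⟩

section Pure

variable {α : Type*} [DecidableEq α] {y τ τ' : Perm α} {b c d e : α}

theorem fix_pt (ho : Odd (orderOf y)) (h : y (y c) = c) : y c = c := by
  obtain ⟨n, e⟩ := odd_sq ho
  rw [← e]
  exact Perm.pow_apply_eq_self_of_apply_eq_self (f := y * y) h n

theorem comm_swap (n : b ≠ c) (h : y * swap b c = swap b c * y) : (y b = b ∧ y c = c) ∨ y b = c ∧ y c = b := by
  have k : y c = swap b c (y b) := by simpa using congrArg (· b) h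
  by_cases h1 : y b = b
  · exact Or.inl ⟨h1, by simpa [h1] using k⟩
  by_cases h2 : y b = c
  · exact Or.inr ⟨h2, by simpa [h2] using k⟩
  rw [swap_apply_of_ne_of_ne h1 h2] at k
  exact absurd (y.injective k).symm n

theorem swap_comm' (h1 : d ≠ b) (h2 : d ≠ c) (h3 : e ≠ b) (h4 : e ≠ c) :
    swap d e * swap b c = swap b c * swap d e := by
  rw [← mul_inv_eq_iff_eq_mul, ← swap_apply_apply, swap_apply_of_ne_of_ne h1.symm h3.symm,
    swap_apply_of_ne_of_ne h2.symm h4.symm]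

theorem pureA [Fintype α] (h6 : 6 ≤ Fintype.card α) (hτ : τ.IsSwap) {Y : Subgroup (Perm α)}
    (ho : ∀ y ∈ Y, Odd (orderOf y)) (hc : ∀ y ∈ Y, y * τ = τ * y)
    (hn : ∀ s, s * τ = τ * s → ∀ y ∈ Y, s * y * s⁻¹ ∈ Y) (hy : y ∈ Y) : y = 1 := by
  obtain ⟨b, c, n, rfl⟩ := hτ
  by_contra y1
  obtain ⟨d, hd⟩ := not_forall.1 (mt Equiv.ext y1)
  replace hd : y d ≠ d := hd
  have hb : y b = b ∧ y c = c := (comm_swap n (hc y hy)).elim id fun h =>
    absurd ((fix_pt (ho y hy) (by rw [h.1, h.2])).symm.trans h.1) n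
  have k : ∀ x, y x ≠ x → x ≠ b ∧ x ≠ c := fun x h => ⟨fun e => h (e ▸ hb.1), fun e => h (e ▸ hb.2)⟩
  have h1 : y (y d) ≠ y d := y.injective.ne hd
  have h2 : y (y (y d)) ≠ y (y d) := y.injective.ne h1
  have h3 : y (y d) ≠ d := fun e => hd (fix_pt (ho y hy) e)
  obtain ⟨e, he⟩ : ∃ e, e ∉ ({b, c, d, y d, y (y d)} : Finset α) := by
    by_contra h
    push Not at h
    have := Finset.card_le_card (s := Finset.univ) fun x _ => h x
    have := Finset.card_le_five (a := b) (b := c) (c := d) (d := y d) (e := y (y d))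
    rw [Finset.card_univ] at *
    omega
  simp only [Finset.mem_insert, Finset.mem_singleton, not_or] at he
  obtain ⟨e1, e2, e3, e4, e5⟩ := he
  have g1 := mul_mem (hn _ (swap_comm' (k d hd).1 (k d hd).2 (k _ h1).1 (k _ h1).2) y hy) (inv_mem hy)
  rw [swap_inv, mul_assoc, mul_assoc, ← mul_assoc y, ← swap_apply_apply] at g1
  have g2 := mul_mem g1 (hn _ (swap_comm' (k _ h2).1 (k _ h2).2 e1 e2) _ g1)
  generalize y (y d) = d2 at *
  generalize y d = d1 at *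
  have g3 := fix_pt (ho _ g2) (c := d) (by
    simp [swap_apply_of_ne_of_ne, h1, h3, e3, e4, e5, hd.symm, h1.symm, h3.symm, Ne.symm e3, Ne.symm e4])
  simp [swap_apply_of_ne_of_ne, h1, h3, hd.symm, h1.symm, h3.symm, Ne.symm e3, Ne.symm e4] at g3

theorem pureB (hτ : τ.IsSwap) (hτ' : τ'.IsSwap) (hc : τ' * τ = τ * τ') (h1 : τ * τ' ≠ 1)
    (ho : Odd (orderOf y)) (h : y * (τ * τ') = τ * τ' * y) : y * τ = τ * y := by
  obtain ⟨b, c, n, rfl⟩ := hτ
  obtain ⟨d, e, n', rfl⟩ := hτ'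
  have hb : swap d e b = b ∧ swap d e c = c := (comm_swap n hc).resolve_right fun h => h1 (by
    rcases eq_or_eq_of_swap_apply_ne_self (h.1.trans_ne n.symm) with rfl | rfl
    · rw [← h.1, swap_apply_left, swap_mul_self]
    · rw [← h.1, swap_apply_right, swap_comm, swap_mul_self])
  have b1 : b ≠ d := fun k => n' (by rw [← k, ← hb.1, k, swap_apply_left])
  have b2 : b ≠ e := fun k => n' (by rw [← k, ← hb.1, k, swap_apply_right])
  have c1 : c ≠ d := fun k => n' (by rw [← k, ← hb.2, k, swap_apply_left])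
  have c2 : c ≠ e := fun k => n' (by rw [← k, ← hb.2, k, swap_apply_right])
  have k : y c = swap b c (swap d e (y b)) := by simpa [hb.1] using congrArg (· b) h
  have k2 : y * swap b c * y⁻¹ = swap b c ∨ y * swap b c * y⁻¹ = swap d e := by
    rw [← swap_apply_apply, k]
    by_cases a1 : y b = b
    · simp [a1, hb.1]
    by_cases a2 : y b = c
    · simp [a2, hb.2, swap_comm]
    by_cases a3 : y b = d
    · simp [a3, swap_apply_of_ne_of_ne b2.symm c2.symm]
    by_cases a4 : y b = e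
    · simp [a4, swap_apply_of_ne_of_ne b1.symm c1.symm, swap_comm]
    rw [swap_apply_of_ne_of_ne a3 a4, swap_apply_of_ne_of_ne a1 a2] at k
    exact absurd (y.injective k).symm n
  refine k2.elim mul_inv_eq_iff_eq_mul.1 fun k3 => ?_
  have k4 : y * swap d e * y⁻¹ = swap b c := by
    have := mul_inv_eq_iff_eq_mul.2 h
    rw [← conj_mul, k3, ← hc] at this
    exact mul_left_cancel this
  obtain ⟨m, hm⟩ := odd_sq ho
  have : Commute (y * y) (swap b c) := mul_inv_eq_iff_eq_mul.1 (by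
    rw [show y * y * swap b c * (y * y)⁻¹ = y * (y * swap b c * y⁻¹) * y⁻¹ by group, k3, k4])
  exact hm ▸ (this.pow_left m).eq

end Pure

variable {X : Type v} [Group X] [Finite X] {ι : T →* X} {k : ℕ} {π : 𝐂[ι t] →* Perm (Fin k)}

theorem odd_π {g : 𝐂[ι t]} (h : Odd (orderOf (g : X))) : Odd (orderOf (π g)) :=
  Odd.of_dvd_nat (by rwa [orderOf_coe] at h) (orderOf_map_dvd π g)

theorem tr {g : X} {x y x' y' : T} (p : Cj ι g x x') (q : Cj ι g y y')
    (h : Oc (ι y') ⊓ 𝐂[ι x'] ≤ Oc (ι x')) : Oc (ι y) ⊓ 𝐂[ι x] ≤ Oc (ι x) := by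
  rw [← p.oc_cj, ← q.oc_cj, ← p.cent_cj, ← cj_inf] at h
  exact (map_le_map_iff_of_injective (MulAut.conj g).injective).1 h

theorem F0_le : F0 ≤ Bs := (by decide +kernel : ∀ x ∈ F0, x ∈ Bs)

theorem one (F : Fu ι) (P : Pi ι k π) : Oc (ι u) ⊓ 𝐂[ι t] ≤ Oc (ι t) := fun y hy => by
  have hu : ι u ∈ 𝐂[ι t] := mem_c1 (by decide +kernel)
  refine F.oddJ F0_le ((P.ker ⟨y, hy.2⟩).1 (pureA (Y := ((Oc (ι u)).subgroupOf 𝐂[ι t]).map π)
    (by rcases P.deg with rfl | rfl <;> simp) (P.sw hu) ?_ ?_ ?_ ⟨_, hy.1, rfl⟩)) ((Oc_odd _).odd hy.1)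
  · rintro _ ⟨g, hg, rfl⟩
    exact odd_π ((Oc_odd _).odd hg)
  · rintro _ ⟨g, hg, rfl⟩
    rw [← map_mul, ← map_mul]
    exact congrArg π (Subtype.ext (mem_centralizer_singleton_iff.1 (Oc_le _ hg)))
  · rintro s hs _ ⟨g, hg, rfl⟩
    obtain ⟨s, rfl⟩ := P.sj s
    obtain ⟨s', h1, h2⟩ := F.lift_u P.ker hu hs
    exact ⟨s' * g * s'⁻¹, (mem_normalizer_iff.1 (cent_norm_Oc _ h1) g).1 hg, by
      rw [map_mul, map_mul, map_inv, h2]⟩

theorem one' (F : Fu ι) (P : Pi ι k π) {x y : T} (hx : x ∈ A1) (hy : y ∈ A1) (bx : be x) (by' : be y) (n : x ≠ y)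
    (b : be (x * y)) : Oc (ι y) ⊓ 𝐂[ι x] ≤ Oc (ι x) := by
  obtain ⟨h, p⟩ := F.h1
  obtain ⟨m, -, c1, c2, -⟩ := p.pair (M := ⊤) le_top trivial hx hy bx by' n
  exact tr c1 (c2.resolve_right fun e => e.2.2.2 b).1 (one F P)

theorem two (F : Fu ι) (P : Pi ι k π) : Oc (ι t') ⊓ 𝐂[ι t] ≤ Oc (ι t) := fun y hy => by
  obtain ⟨h, p⟩ := F.h1
  have m : ∀ x, x * t = t * x → ι x ∈ 𝐂[ι t] := fun x e => mem_c1 e
  have hu := m u (by decide +kernel)
  have hs := m (u * u') (by decide +kernel)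
  have hs' := m (u * u' * t') (by decide +kernel)
  have ht := m t' (by decide +kernel)
  have hh : ι σ * (h * ι σ) ∈ 𝐂[ι t] := (p.c3.sig.congr (by decide +kernel) (by decide +kernel)).cent
  have c1 : Cj ι (ι σ * (h * ι σ)) u (u * u') := p.c5.sig.congr (by decide +kernel) (by decide +kernel)
  have c2 : Cj ι (ι σ * (h * ι σ)) (u * u') (u * u' * t') :=
    c1.mul (p.c1.sig.congr (by decide +kernel) (by decide +kernel))
  have sw : ∀ {x x' : T} (h1 : ι x ∈ 𝐂[ι t]) (h2 : ι x' ∈ 𝐂[ι t]), Cj ι (ι σ * (h * ι σ)) x x' →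
      (π ⟨_, h1⟩).IsSwap → (π ⟨_, h2⟩).IsSwap := fun h1 h2 c ⟨b, d, n, e⟩ =>
    ⟨_, _, (π ⟨_, hh⟩).injective.ne n, by
      rw [swap_apply_apply, ← e, ← map_inv, ← map_mul, ← map_mul]
      exact congrArg π (Subtype.ext c.eq.symm)⟩
  have s1 := sw hu hs c1 (P.sw hu)
  have e : π ⟨_, hs⟩ * π ⟨_, hs'⟩ = π ⟨_, ht⟩ := by
    rw [← map_mul]
    exact congrArg π (Subtype.ext ((map_mul ι _ _).symm.trans (congrArg ι (by decide +kernel))))
  have s2 : ι (u * u') * ι (u * u') = 1 := by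
    rw [← map_mul, show u * u' * (u * u') = 1 by decide +kernel, map_one]
  have k1 := pureB s1 (sw hs hs' c2 s1) (y := π ⟨y, hy.2⟩) (by
      rw [← map_mul, ← map_mul]
      exact congrArg π (Subtype.ext (mem_c1 (ι := ι) (by decide +kernel) |> mem_centralizer_singleton_iff.1)))
    (by rw [e, Ne, P.ker, F.memJ F0_le (by decide +kernel)]; decide +kernel) (odd_π ((Oc_odd _).odd hy.1)) (by
      rw [e, ← map_mul, ← map_mul]
      exact congrArg π (Subtype.ext (mem_centralizer_singleton_iff.1 (Oc_le _ hy.1))))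
  have k2 : y⁻¹ * ι (u * u') * y * ι (u * u') ∈ Oc (ι t') := by
    have := (mem_normalizer_iff.1 (cent_norm_Oc _ (mem_c1 (ι := ι) (c := u * u') (x := t') (by decide +kernel))) y).1
      hy.1
    rw [inv_eq_of_mul_eq_one_right s2] at this
    simpa only [mul_assoc] using mul_mem ((Oc (ι t')).inv_mem hy.1) this
  have k3 : y⁻¹ * ι (u * u') * y * ι (u * u') ∈ Oc (ι t) :=
    F.oddJ F0_le ((P.ker (⟨y, hy.2⟩⁻¹ * ⟨_, hs⟩ * ⟨y, hy.2⟩ * ⟨_, hs⟩)).1 (by
      rw [map_mul, map_mul, map_mul, map_inv, mul_assoc (π _)⁻¹, ← k1, inv_mul_cancel_left, ← map_mul]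
      exact (congrArg π (Subtype.ext s2)).trans (map_one π))) ((Oc_odd _).odd k2)
  obtain ⟨r, hr, -, c⟩ := H13.PS.lift (K := Oc (ι t') ⊓ Oc (ι t)) ((Oc_odd _).mono inf_le_left) s2 ⟨k2, k3⟩
  have k4 := one' F P (x := u * u') (y := t') (by decide +kernel) (by decide +kernel) (by decide +kernel)
    (by decide +kernel) (by decide +kernel) (by decide +kernel)
    ⟨(Oc (ι t')).mul_mem hy.1 hr.1, mem_centralizer_singleton_iff.2 c⟩
  have k5 := one' F P (x := t) (y := u * u') (by decide +kernel) (by decide +kernel) (by decide +kernel)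
    (by decide +kernel) (by decide +kernel) (by decide +kernel) ⟨k4, (𝐂[ι t]).mul_mem hy.2 (Oc_le _ hr.2)⟩
  exact (mul_mem_cancel_right (mem_inf.1 hr).2).1 k5

end BAL

variable {X : Type v} [Group X] [Finite X] {ι : T →* X}

theorem Fu.bal (F : Fu ι) {k : ℕ} {π : 𝐂[ι t] →* Perm (Fin k)} (P : Pi ι k π) {x y : T}
    (hx : x ∈ A1) (hy : y ∈ A1) (bx : be x) (by' : be y) : Oc (ι y) ⊓ 𝐂[ι x] ≤ Oc (ι x) := by
  by_cases n : x = y
  · exact n ▸ inf_le_left
  obtain ⟨h, p⟩ := F.h1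
  obtain ⟨m, -, c1, c2 | c2, -⟩ := p.pair (M := ⊤) le_top trivial hx hy bx by' n
  exacts [BAL.tr c1 c2.1 (BAL.one F P), BAL.tr c1 c2.1 (BAL.two F P)]

end H1.A10
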