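import Cfsg.Agent.Lib.A10.Lift
import Cfsg.Agent.Lib.Gold.Top
import Cfsg.Agent.Lib.Char.BurnsidePQ

/-! The centraliser of the central involution (package CA). -/

set_option autoImplicit false
set_option maxRecDepth 100000
set_option linter.unusedSectionVars false

namespace H1.A10

open Subgroup Cfsg H69 H45 Gold T Equiv

universe v

variable {X : Type v} [Group X] [Finite X] {ι : T →* X}

namespace CA

/-- the four-sets other than `a` -/
def E (e : T) : Prop := e ∈ A1 ∧ al e ∧ e ≠ a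
instance : DecidablePred E := fun e => inferInstanceAs (Decidable (e ∈ A1 ∧ al e ∧ e ≠ a))
/-- the two-sets inside `a` -/
def B (v : T) : Prop := v ∈ A1 ∧ be v ∧ be (v * a)
instance : DecidablePred B := fun v => inferInstanceAs (Decidable (v ∈ A1 ∧ be v ∧ be (v * a)))

theorem sc_of {A S H : Subgroup X} (hS : IsSylowIn 2 S H) (hA : A ≤ S)
    (h : ∀ g ∈ H, ∀ a ∈ A, g * a * g⁻¹ ∈ S → g * a * g⁻¹ ∈ A) : SC A H := by
  refine ⟨hA.trans hS.le, fun Q hQ hAQ g hg a ha hq => ?_⟩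
  have hy : g * a * g⁻¹ ∈ H := mul_mem (mul_mem hg (hS.le (hA ha))) (inv_mem hg)
  obtain ⟨k, hk, h1⟩ := hS.exists_cj_le (hQ.to_le (inf_le_left : Q ⊓ H ≤ Q)) inf_le_right
  have h2 : k ∈ 𝐍(A) := by
    refine mem_normalizer_of_cj_le fun x hx => ?_
    obtain ⟨c, hc, rfl⟩ := mem_cj'.1 hx
    exact h k hk c hc (h1 (cj_mem k ⟨hAQ hc, hS.le (hA hc)⟩))
  have e : k * g * a * (k * g)⁻¹ = k * (g * a * g⁻¹) * k⁻¹ := by group
  have h3 := h (k * g) (mul_mem hk hg) a ha (by rw [e]; exact h1 (cj_mem k ⟨hq, hy⟩))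
  have h4 := conj_mem_of_mem_normalizer' h2 h3
  rw [e] at h4
  simpa [mul_assoc] using h4

theorem solv_perm {α : Type*} [Finite α] (h : Nat.card α ≤ 4) : Group.IsSolvable (Perm α) := by
  refine H8.isSolvable_of_two_primes Nat.prime_two Nat.prime_three fun r hr hd => ?_
  rw [Nat.card_perm, hr.dvd_factorial] at hd
  have := hr.two_le
  have h4 : r ≠ 4 := by rintro rfl; norm_num at hr
  omega

variable (F : Fr ι)
include F

theorem sylf : IsSylowIn 2 (P0.map ι) (𝐂[ι a] ⊓ 𝐂[ι f]) := by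
  have := F.syl_cent (x := f) (F.sylIn F.ca) trivial fun g hg y _ p => by
    rw [card_of, card_of]
    exact (by decide +kernel : ∀ y, be y → al (y * a) → cnt (· ∈ ⊤ ⊓ 𝐂[y]) ≤ cnt (· ∈ ⊤ ⊓ 𝐂[f])) y
      (F.ty p (by decide +kernel)) (F.ty' (p.mul (Cj.of_cent hg)) (by decide +kernel))
  rwa [top_inf_eq, cent_f] at this

theorem notf {g : X} (hg : g ∈ 𝐂[ι a]) {x : T} (hx : x ∈ A1) : ¬ Cj ι g x f := fun p => by
  obtain ⟨k, -, -, h⟩ := F.ext (R := A1) (sylf F) hg p ((map_le_range ι A1).trans F.ca)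
    fun c hc => (by decide +kernel : ∀ x ∈ A1, ∀ c ∈ A1, c * x = x * c) x hx c hc
  exact absurd (F.cnt_le (g := k) (P := fun c => c ∈ A1 ∧ be c) (Q := fun c => c ∈ P0 ∧ be c)
    fun c hc => let ⟨c', h1, h2⟩ := h c hc.1; ⟨c', ⟨h1, F.ty h2 hc.2⟩, h2⟩) (by decide +kernel)

theorem inA {g : X} (hg : g ∈ 𝐂[ι a]) {x y : T} (hx : x ∈ A1) (p : Cj ι g x y) : y ∈ A1 := by
  have k : ∀ {x y : T}, x ∈ A1 → be x → Cj ι g x y → y ∈ A1 := fun {x y} hx b p => by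
    rcases (by decide +kernel : ∀ y, be y → y ∈ A1 ∨ ∃ s, s * y * s⁻¹ = f) y (F.ty p b) with h | ⟨s, e⟩
    · exact h
    · exact (notf F (mul_mem (F.ca ⟨s, rfl⟩) hg) hx (p.comp (Cj.of' e))).elim
  have aA : a ∈ A1 := by decide +kernel
  rcases (by decide +kernel : ∀ x ∈ A1, be x ∨ be (x * a) ∨ x = 1 ∨ x = a) x hx with b | b | rfl | rfl
  · exact k hx b p
  · exact (A1.mul_mem_cancel_right aA).1 (k (mul_mem hx aA) b (p.mul (Cj.of_cent hg)))
  · exact F.right (Cj.one g) p ▸ one_mem _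
  · exact F.right (Cj.of_cent hg) p ▸ aA

theorem cx : Ctx (A1.map ι) 𝐂[ι a] :=
  ctx (ea_map (by decide +kernel)) (sc_of (F.sylIn F.ca) (map_mono le_top) (by
    rintro g hg _ ⟨x, hx, rfl⟩ ⟨y, -, e⟩
    exact ⟨y, inA F hg hx e.symm, e⟩))

theorem imgE {g : X} (hg : g ∈ 𝐂[ι a]) (hn : g ∈ 𝐍(A1.map ι)) {e : T} (he : E e) :
    ∃ e', E e' ∧ Cj ι g e e' := by
  obtain ⟨e', h, p⟩ := img hn he.1
  exact ⟨e', ⟨h, F.ty' p he.2.1, F.ne' p (Cj.of_cent hg) he.2.2⟩, p⟩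

omit F in
theorem allE {g : X} (h : ∀ e, E e → Cj ι g e e) {x : T} (hx : x ∈ A1) : Cj ι g x x := by
  obtain ⟨i, j, k, l, rfl⟩ := (by decide +kernel : ∀ x ∈ A1, ∃ i j k l : Fin 2,
    x = (t * u') ^ i.1 * (t * u' * t') ^ j.1 * (u * t') ^ k.1 * (u * t * t') ^ l.1) x hx
  exact ((((h _ (by decide +kernel)).pow i).mul ((h _ (by decide +kernel)).pow j)).mul
    ((h _ (by decide +kernel)).pow k)).mul ((h _ (by decide +kernel)).pow l)

theorem fixB {g : X} (hg : g ∈ 𝐂[ι a]) (hn : g ∈ 𝐍(A1.map ι)) (ho : Odd (orderOf g)) {v : T} (hv : B v)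
    (p : Cj ι g v v) {x : T} (hx : x ∈ A1) : Cj ι g x x := by
  refine allE (fun e he => ?_) hx
  obtain ⟨e', he', q⟩ := imgE F hg hn he
  have k : ∀ {v}, B v → Cj ι g v v → al (e * v) → Cj ι g e e := fun {v} hv p h => by
    rcases (by decide +kernel : ∀ e, E e → ∀ e', E e' → ∀ v, B v → al (e * v) → al (e' * v) →
      e' = e ∨ e' = e * v) e he e' he' v hv h (F.ty' (q.mul p) h) with rfl | rfl
    exacts [q, F.odd_fix ho p q]
  rcases (by decide +kernel : ∀ e, E e → ∀ v, B v → al (e * v) ∨ B (v * a) ∧ al (e * (v * a))) e he v hv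
    with h | h
  exacts [k hv p h, k h.1 (p.mul (Cj.of_cent hg)) h.2]

theorem nofac (C : Subgroup X) : ¬ IsFac (ncl (A1.map ι) 𝐂[ι a]) C := fun hC => by
  have c := cx F
  set A := A1.map ι with hA
  set K := ncl A 𝐂[ι a] with hK
  have mv : ∀ C, IsFac K C → ∃ g ∈ LC K C, g ∈ 𝐍(A) ∧ Odd (orderOf g) ∧ ∃ x ∈ A1, ¬ Cj ι g x x :=
    fun C hC => by
      obtain ⟨_, ⟨x, hx, rfl⟩, h1⟩ := SetLike.not_le_iff_exists.1 (c.not_le hC)
      have m := mem_map_of_mem ι hx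
      obtain ⟨b, hb, h2, h3⟩ := exists_not_mem_two c.ea (c.four_le hC) m
      obtain ⟨g, hg, ho, e⟩ := c.trans hC m h1 (mul_mem m hb) h3
      refine ⟨g, hg.1, hg.2, ho, x, hx, fun p => h2 ?_⟩
      rw [p.eq] at e
      have := conj_mem_of_mem_normalizer' (hC.norm (c.le_K m)) (inv_mem e)
      simpa [mul_assoc] using this
  have noB : ∀ C, IsFac K C → ∀ v, B v → ι v ∉ C := fun C hC v hv h => by
    obtain ⟨g, g1, g2, ho, x, hx, n⟩ := mv C hC
    have m : ι v ∈ A := mem_map_of_mem ι hv.1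
    exact n (fixB F (c.K_le (hC.LC_le g1)) g2 ho hv (mul_inv_eq_one.1 (((Od_odd K).inf_eq_bot c.two).le
      (mem_inf.2 ⟨c.comm_LC_inf hC (commutator_mem_commutator g1 (mem_inf.2 ⟨m, h⟩)),
        mul_mem (conj_mem_of_mem_normalizer g2 m) (inv_mem m)⟩))) hx)
  have uq : ∀ C', IsFac K C' → C = C' := fun C' hC' => by
    by_contra ne
    obtain ⟨g, g1, g2, -, x, hx, n⟩ := mv C hC
    refine n (allE (fun e he => ?_) hx)
    obtain ⟨e', he', q⟩ := imgE F (c.K_le (hC.LC_le g1)) g2 he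
    rcases (by decide +kernel : ∀ e, E e → ∀ e', E e' → e' = e ∨ B (e' * e⁻¹)) e he e' he' with rfl | h
    · exact q
    refine (noB C' hC' _ h ?_).elim
    have gC := hC.LC_le_of_ne c.ft hC' ne g1
    rw [map_mul, map_inv, ← q.eq, mul_assoc, mul_assoc, ← mul_assoc (ι e)]
    exact mul_mem gC (conj_mem_of_mem_normalizer (hC'.norm (c.le_K (mem_map_of_mem ι he.1))) (inv_mem gC))
  have small : ∀ w ∈ A1, ι w ∈ C → w = 1 ∨ w = a := fun w hw h => by
    rcases (by decide +kernel : ∀ w ∈ A1, (w = 1 ∨ w = a) ∨ B w ∨ ∃ s, B (w * (s * w * s⁻¹))) w hw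
      with e | e | ⟨s, e⟩
    · exact e
    · exact (noB C hC w e h).elim
    · have hK' : K ^ᶜ ι s = K := cj_eq_of_mem_normalizer (le_normalizer_ncl A _ (F.ca ⟨s, rfl⟩))
      refine (noB C hC _ e ?_).elim
      rw [map_mul, ← (Cj.of s w).eq]
      exact mul_mem h ((uq _ (hK' ▸ hC.cj (ι s))).ge (cj_mem _ h))
  have tA : t ∈ A1 := by decide +kernel
  have uA : u ∈ A1 := by decide +kernel
  obtain ⟨g, hg, -, e⟩ := c.trans hC (mem_map_of_mem ι tA) (noB C hC t (by decide +kernel))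
    (mem_map_of_mem ι uA) fun h => absurd (small u uA h) (by decide +kernel)
  obtain ⟨y, hy, p⟩ := img hg.2 tA
  rw [p.eq, ← map_inv, ← map_mul] at e
  exact (by decide +kernel : ∀ y, be y → be (y * a) → ¬ (y * u⁻¹ = 1 ∨ y * u⁻¹ = a)) y (F.ty p be_t)
    (F.ty (p.mul (Cj.of_cent (c.K_le (hC.LC_le hg.1)))) (by decide +kernel))
    (small _ (mul_mem hy (inv_mem uA)) e)

theorem le : 𝐂[ι a] ≤ Oc (ι a) ⊔ (𝐂[ι a] ⊓ 𝐍(A1.map ι)) := by
  have c := cx F
  refine (c.sc.ncl_sup c.two).ge.trans (sup_le ?_ le_sup_right)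
  rw [← c.eq_of_no_fac (nofac F)]
  exact sup_le_sup (Od_le_Od c.K_le (le_normalizer_ncl _ _)) (le_inf c.sc.le le_normalizer)

theorem solvC : Group.IsSolvable 𝐂(A1.map ι) := by
  have s := (F.sylIn F.nA1).inf_normal (centralizer_le_normalizer _)
    (normalizer_le_normalizer_centralizer _)
  refine H70.U52.solv_of_syl s (K := A1.map ι) ?_ ?_ (centralizer_le_normalizer _)
    (H1.isSolvable_of_isPGroup (F.two_map A1))
  · rintro _ ⟨⟨x, -, rfl⟩, h⟩
    refine mem_map_of_mem ι ((by decide +kernel : ∀ x : T, (∀ c ∈ A1, c * x = x * c) → x ∈ A1) x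
      fun c hc => F.inj ?_)
    rw [map_mul, map_mul]
    exact h _ (mem_map_of_mem ι hc)
  · rintro _ ⟨x, hx, rfl⟩ _ ⟨c, hc, rfl⟩
    rw [← map_mul, ← map_mul, (by decide +kernel : ∀ x ∈ A1, ∀ c ∈ A1, c * x = x * c) x hx c hc]

theorem solvL : Group.IsSolvable (𝐂[ι a] ⊓ 𝐍(A1.map ι) : Subgroup X) := by
  set L : Subgroup X := 𝐂[ι a] ⊓ 𝐍(A1.map ι)
  let _ : MulAction L (ι '' {e | E e}) :=
    { smul := fun n x => ⟨n * x * (n : X)⁻¹, by
        obtain ⟨_, e, he, rfl⟩ := x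
        obtain ⟨e', h, p⟩ := imgE F n.2.1 n.2.2 he
        exact ⟨e', h, p.eq.symm⟩⟩
      one_smul := fun x => Subtype.ext (show ((1 : L) : X) * x * ((1 : L) : X)⁻¹ = x by simp)
      mul_smul := fun a b x => Subtype.ext (show ((a * b : L) : X) * x * ((a * b : L) : X)⁻¹ =
        a * (b * x * (b : X)⁻¹) * (a : X)⁻¹ by simp [mul_assoc]) }
  have := solv_perm (α := ι '' {e | E e}) (by
    rw [Nat.card_coe_set_eq, Set.ncard_image_of_injective _ F.inj, ← cnt_eq]; decide +kernel)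
  have := H1.isSolvable_subgroupOf (solvC F) L
  refine Group.isSolvable_of_ker_le_range (𝐂(A1.map ι).subgroupOf L).subtype
    (MulAction.toPermHom L (ι '' {e | E e})) fun g hg => ⟨⟨g, ?_⟩, rfl⟩
  rintro _ ⟨x, hx, rfl⟩
  refine (mul_inv_eq_iff_eq_mul.1 (allE (ι := ι) (g := g) (fun e he => ?_) hx).eq).symm
  have h : MulAction.toPermHom L (ι '' {e | E e}) g ⟨ι e, e, he, rfl⟩ = ⟨ι e, e, he, rfl⟩ := by
    rw [MonoidHom.mem_ker.1 hg]; rfl
  exact congrArg Subtype.val h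

end CA

theorem Fr.ca_le (F : Fr ι) : 𝐂[ι a] ≤ Oc (ι a) ⊔ 𝐍(A1.map ι) :=
  (CA.le F).trans (sup_le_sup_left inf_le_right _)

theorem Fr.ca_solv (F : Fr ι) : Group.IsSolvable 𝐂[ι a] :=
  H70.U52.solv_sup ((Oc_odd (ι a)).solv (CA.cx F).ft) (CA.solvL F)
    (inf_le_left.trans (cent_norm_Oc _)) (CA.le F)

end H1.A10
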