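import Cfsg.Agent.Lib.A10.Lift

/-! # A10, package CT1: the four-group `⟨f, t⟩` is normal in `C(t)` modulo the core -/

set_option autoImplicit false
set_option maxRecDepth 100000

namespace H1.A10

open Subgroup Cfsg H69 H45 Gold T Equiv

universe v

variable {X : Type v} [Group X] [Finite X] {ι : T →* X}

theorem Fr.ct1_iso (F : Fr ι) {g : X} (hg : g ∈ 𝐂[ι t]) {y : T} (hy : y ∈ Bs) (p : Cj ι g f y) :
    y = f ∨ y = t * f := by
  have be2 : ∀ {g : X} {y : T}, g ∈ 𝐂[ι t] → Cj ι g f y → be y ∧ be (y * t) := fun hg p =>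
    ⟨F.ty p (by decide +kernel), F.ty (p.mul (Cj.of_cent hg)) (by decide +kernel)⟩
  have hS := F.syl_cent (x := f) F.sylt (by decide +kernel) fun g hg y hy p => by
    rw [card_of, card_of]
    exact (by decide +kernel : ∀ y, be y → be (y * t) → y ∈ Bs →
      cnt (· ∈ Bs ⊓ 𝐂[y]) ≤ cnt (· ∈ Bs ⊓ 𝐂[f])) y (be2 hg p).1 (be2 hg p).2 hy
  refine ((by decide +kernel : ∀ y, be y → be (y * t) → y ∈ Bs → y ∈ A1 ∨ y = f ∨ y = t * f) y
    (be2 hg p).1 (be2 hg p).2 hy).resolve_left fun hA => ?_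
  obtain ⟨k, -, -, h⟩ := F.ext (R := A1) hS (inv_mem hg) p.symm
    (map_cent (by decide +kernel)) fun c hc => (by decide +kernel : ∀ c ∈ A1, ∀ y ∈ A1, c * y = y * c) c hc y hA
  exact absurd (F.cnt_le (g := k) (P := fun c => c ∈ A1 ∧ be c) (Q := fun c => c ∈ Bs ⊓ 𝐂[f] ∧ be c)
    fun c hc => (h c hc.1).imp fun _ e => ⟨⟨e.1, F.ty e.2 hc.2⟩, e.2⟩) (by decide +kernel)

theorem Fr.ct1 (F : Fr ι) : 𝐂[ι t] ≤ Oc (ι t) ⊔ 𝐂[ι t] ⊓ 𝐍(F0.map ι) := by
  have tt : ι t * ι t = 1 := by rw [← map_mul, ← map_one ι]; exact congrArg ι (by decide +kernel)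
  have mt : ι t ∈ Bs.map ι := mem_map_of_mem ι (by decide +kernel)
  obtain ⟨O, h1, h2, h3, h4⟩ := H70.U52.zq (K := 𝐂[ι t] ⊓ 𝐍(F0.map ι)) (t := ι f) F.sylt (zpowers_le.2 mt)
    (le_normalizer_of_le_centralizer (centralizer_zpowers _).ge) (mem_map_of_mem ι (by decide +kernel))
    (fun e => by
      rcases (mem_zpowers_of_mul_self tt).1 e with e | e
      exacts [F.ne (by decide +kernel) e, absurd (F.inj e) (by decide +kernel)])
    (by rw [← map_mul, show f * f = 1 by decide +kernel, map_one]; exact one_mem _)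
    (fun g hg ⟨y, hy, e⟩ => by
      rcases F.ct1_iso hg hy e.symm with d | d <;> rw [← e, d]
      · rw [mul_inv_cancel]; exact one_mem _
      · rw [map_mul, mul_inv_cancel_right]; exact mem_zpowers _)
    fun g hg e => ⟨hg, by
      obtain ⟨y, hy, p⟩ : ∃ y ∈ F0, Cj ι g f y := by
        rcases (mem_zpowers_of_mul_self tt).1 e with e | e
        · exact ⟨f, by decide +kernel, mul_inv_eq_one.1 e⟩
        · exact ⟨t * f, by decide +kernel, (mul_inv_eq_iff_eq_mul.1 e).trans (map_mul ι t f).symm⟩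
      have q := Cj.of_cent hg
      refine norm_of fun x hx => ?_
      rcases (by decide +kernel : ∀ x ∈ F0, x = 1 ∨ x = f ∨ x = t ∨ x = f * t) x hx with rfl | rfl | rfl | rfl
      exacts [⟨1, one_mem _, Cj.one g⟩, ⟨y, hy, p⟩, ⟨t, hx, q⟩, ⟨_, mul_mem hy (by decide +kernel), p.mul q⟩]⟩
  refine h4.trans (sup_le ((H70.U52.burn2 tt h3 h1 h2 h1).trans (sup_le_sup_left (zpowers_le.2 ?_) _))
    le_sup_right)
  exact ⟨mem_cent1_iff.2 rfl, le_normalizer (mem_map_of_mem ι (by decide +kernel))⟩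

end H1.A10
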