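import Cfsg.Agent.Lib.A10.CT3

/-! # The quotient `C(t) / O(C(t)) ⟨f, t⟩` -/

set_option autoImplicit false
set_option maxRecDepth 100000

namespace H1.A10

open Subgroup Cfsg H69 H45 Gold T Equiv

universe v

variable {X : Type v} [Group X] [Finite X] {ι : T →* X}

namespace CT2

theorem bs_gen {L : Subgroup T} (h1 : u ∈ L) (h2 : f ∈ L) (h3 : u' ∈ L) (h4 : f' ∈ L) : Bs ≤ L :=
  fun b hb => by
    obtain ⟨i, j, k, l, rfl⟩ := (by decide +kernel : ∀ b ∈ Bs, ∃ (i : Fin 4) (j : Fin 2) (k : Fin 4)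
      (l : Fin 2), b = (u * f) ^ i.1 * u ^ j.1 * ((u' * f') ^ k.1 * u' ^ l.1)) b hb
    exact mul_mem (mul_mem (pow_mem (mul_mem h1 h2) _) (pow_mem h1 _))
      (mul_mem (pow_mem (mul_mem h3 h4) _) (pow_mem h3 _))

omit [Finite X] in
theorem c0 {g : X} (p : Cj ι g f f) (q : Cj ι g t t) : g ∈ 𝐂(F0.map ι) := by
  rintro _ ⟨x, hx, rfl⟩
  refine (mem_cent1_iff.1 (Cj.cent ?_)).symm
  rcases (by decide +kernel : ∀ x ∈ F0, x = 1 ∨ x = f ∨ x = t ∨ x = f * t) x hx with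
    rfl | rfl | rfl | rfl
  exacts [Cj.one g, p, q, p.mul q]

omit [Finite X] in
theorem nrm (F : Fr ι) {n : X} (hn : n ∈ 𝐂[ι t] ⊓ 𝐍(F0.map ι)) :
    n ∈ 𝐂(F0.map ι) ∨ n * ι u ∈ 𝐂(F0.map ι) := by
  have q : Cj ι n t t := Cj.of_cent hn.1
  obtain ⟨y, hy, p⟩ := img hn.2 (x := f) (by decide +kernel)
  rcases (by decide +kernel : ∀ y ∈ F0, y ≠ 1 → y ≠ t → y = f ∨ y = f * t) y hy
    (F.ne1 p (by decide +kernel)) (F.ne' p q (by decide +kernel)) with rfl | rfl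
  · exact .inl (c0 p q)
  · exact .inr (c0 ((Cj.of' (y := f * t) (by decide +kernel)).comp
      ((p.mul q).congr rfl (by decide +kernel))) ((Cj.of' (by decide +kernel)).comp q))

theorem notK (F : Fr ι) {c : X} (hc : c ∈ 𝐂(F0.map ι)) : ι u * c⁻¹ ∉ Oc (ι t) ⊔ F0.map ι := fun h => by
  have hF : F0 ≤ Bs := (by decide +kernel : ∀ x ∈ F0, x ∈ Bs)
  have n : F0.map ι ≤ 𝐍(Oc (ι t)) := ((map_mono hF).trans F.bs_le).trans (cent_norm_Oc _)
  have fF : ι f ∈ F0.map ι := mem_map_of_mem ι (by decide +kernel)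
  obtain ⟨r, hr, z, hz, e⟩ := (mem_sup_of_le_normalizer_left n).1 h
  have e1 : z * c * ι f = ι f * (z * c) :=
    (mul_mem (ea_cent (ea_map (by decide +kernel)) hz) hc _ fF).symm
  have e2 : ι t = r * (ι f * r⁻¹ * (ι f)⁻¹) := by
    rw [show t = u * f * u⁻¹ * f⁻¹ by decide +kernel, map_mul, map_mul, map_mul, map_inv, map_inv,
      mul_inv_eq_iff_eq_mul.1 e, mul_assoc r z, mul_assoc r _ (ι f), e1]
    group
  exact F.ne (x := t) (by decide +kernel) ((Oc_odd (ι t)).eq_one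
    ((congrArg (· ∈ Oc (ι t)) e2).mpr (mul_mem hr (conj_mem_of_mem_normalizer (n fF) (inv_mem hr))))
    (.of_mul_self (by rw [← map_mul]; exact (congrArg ι (by decide +kernel)).trans (map_one ι))))

end CT2

open CT2 in
theorem Fu.ct2 (F : Fu ι) (hs : Group.IsSolvable 𝐂[ι a])
    (h1 : 𝐂[ι t] ≤ Oc (ι t) ⊔ 𝐂[ι t] ⊓ 𝐍(F0.map ι)) :
    ∃ (Γ : Type v) (_ : Group Γ) (_ : Finite Γ) (π : 𝐂[ι t] →* Γ) (K : Subgroup Γ),
      Function.Surjective π ∧ (∀ g : 𝐂[ι t], π g = 1 ↔ (g : X) ∈ Oc (ι t) ⊔ F0.map ι) ∧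
      ∀ hx hp hq hk, Gm (π ⟨ι u, hx⟩) (π ⟨ι u', hp⟩) (π ⟨ι f', hq⟩) (π ⟨ι t', hk⟩) K := by
  have hF : F0 ≤ Bs := (by decide +kernel : ∀ x ∈ F0, x ∈ Bs)
  have := normal_subgroupOf_of_le_normalizer (h1.trans (sup_le (le_sup_left.trans le_normalizer)
    (le_normalizer_sup (inf_le_left.trans (cent_norm_Oc _)) inf_le_right)) :
    𝐂[ι t] ≤ 𝐍(Oc (ι t) ⊔ F0.map ι))
  set π := QuotientGroup.mk' ((Oc (ι t) ⊔ F0.map ι).subgroupOf 𝐂[ι t])
  have sj : Function.Surjective π := QuotientGroup.mk'_surjective _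
  have ker : ∀ g : 𝐂[ι t], π g = 1 ↔ (g : X) ∈ Oc (ι t) ⊔ F0.map ι :=
    fun x => QuotientGroup.eq_one_iff x
  refine ⟨_, inferInstance, inferInstance, π, (𝐂(F0.map ι).subgroupOf 𝐂[ι t]).map π, sj, ker,
    fun hx hp hq hk => ?_⟩
  clear_value π
  set K := (𝐂(F0.map ι).subgroupOf 𝐂[ι t]).map π with hK
  have p1 : ∀ {x : T} (h), x * x = 1 → π ⟨ι x, h⟩ * π ⟨ι x, h⟩ = 1 := fun h e => by
    rw [← map_mul, ← map_one π]
    exact congrArg π (Subtype.ext ((map_mul ι _ _).symm.trans ((congrArg ι e).trans (map_one ι))))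
  have pm : ∀ {x y : T} (h h'), x * y = y * x → π ⟨ι x, h⟩ * π ⟨ι y, h'⟩ = π ⟨ι y, h'⟩ * π ⟨ι x, h⟩ :=
    fun h h' e => by
      rw [← map_mul, ← map_mul]
      exact congrArg π (Subtype.ext ((map_mul ι _ _).symm.trans ((congrArg ι e).trans (map_mul ι _ _))))
  have c1 : ∀ {g : X} {x y : T} (hg h h'), Cj ι g x y →
      π ⟨g, hg⟩ * π ⟨ι x, h⟩ * (π ⟨g, hg⟩)⁻¹ = π ⟨ι y, h'⟩ := fun hg h h' e => by
    rw [← map_inv, ← map_mul, ← map_mul]; exact congrArg π (Subtype.ext e)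
  have c2 : ∀ {g : X} {x y z : T} (hg h h' h''), Cj ι g x (y * z) →
      π ⟨g, hg⟩ * π ⟨ι x, h⟩ * (π ⟨g, hg⟩)⁻¹ = π ⟨ι y, h'⟩ * π ⟨ι z, h''⟩ := fun hg h h' h'' e => by
    rw [← map_inv, ← map_mul, ← map_mul, ← map_mul]
    exact congrArg π (Subtype.ext (e.eq.trans (map_mul ι _ _)))
  have od : ∀ {g : X} (hg), Odd (orderOf g) → Odd (orderOf (π ⟨g, hg⟩)) := fun hg ho =>
    Odd.of_dvd_nat ho ((orderOf_map_dvd π _).trans (Subgroup.orderOf_mk _ hg).dvd)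
  have xK : π ⟨ι u, hx⟩ ∉ K := by
    rintro ⟨c, hc, e⟩
    exact notK F.toFr hc ((ker (⟨ι u, hx⟩ * c⁻¹)).1 (by rw [map_mul, map_inv, e, mul_inv_cancel]))
  have nK : ∀ {n : 𝐂[ι t]}, (n : X) ∈ 𝐍(F0.map ι) → (n : X) ∈ 𝐂(F0.map ι) ∨ π n * π ⟨ι u, hx⟩ ∈ K :=
    fun {n} hn => (nrm F.toFr ⟨n.2, hn⟩).imp id fun h => ⟨n * ⟨ι u, hx⟩, h, map_mul π _ _⟩
  have idx : K.index = 2 := index_eq_two_iff.2 ⟨π ⟨ι u, hx⟩, fun b => by
    obtain ⟨g, rfl⟩ := sj b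
    obtain ⟨r, hr, n, hn, e⟩ := (mem_sup_of_le_normalizer_left
      (inf_le_left.trans (cent_norm_Oc _))).1 (h1 g.2)
    have e' : π g = π ⟨n, hn.1⟩ := by
      rw [show g = ⟨r, Oc_le _ hr⟩ * ⟨n, hn.1⟩ from Subtype.ext e, map_mul,
        (ker _).2 (mem_sup_left hr), one_mul]
    rw [e']
    rcases nK (n := ⟨n, hn.1⟩) hn.2 with h | h
    · have h' : π ⟨n, hn.1⟩ ∈ K := mem_map_of_mem π h
      exact .inr ⟨h', fun h => xK ((mul_mem_cancel_left h').1 h)⟩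
    · exact .inl ⟨h, fun h' => xK ((mul_mem_cancel_left h').1 h)⟩⟩
  obtain ⟨h, P⟩ := F.h1
  obtain ⟨k, Q⟩ := F.h2
  have hh : ι σ * (h * ι σ) ∈ 𝐂[ι t] := (P.c3.sig.congr (by decide +kernel) (by decide +kernel)).cent
  have hk' : ι σ * (k * ι σ) ∈ 𝐂[ι t] := (Q.c6.sig.congr (by decide +kernel) (by decide +kernel)).cent
  refine ⟨p1 _ (by decide +kernel), p1 _ (by decide +kernel), p1 _ (by decide +kernel),
    pm _ _ (by decide +kernel), pm _ _ (by decide +kernel), ?_, p1 _ (by decide +kernel),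
    fun e => absurd ((F.memJ hF (by decide +kernel)).1 ((ker _).1 e)) (by decide +kernel), ?_, idx,
    mem_map_of_mem π (c0 (Cj.of' (by decide +kernel)) (Cj.of' (by decide +kernel))),
    mem_map_of_mem π (c0 (Cj.of' (by decide +kernel)) (Cj.of' (by decide +kernel))), xK, ?_,
    ⟨_, od hh (sig_odd P.odd), c1 _ _ _ (P.c1.sig.congr (by decide +kernel) (by decide +kernel)),
      c2 _ _ _ _ (P.c2.sig.congr (by decide +kernel) (by decide +kernel)),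
      c2 _ _ _ _ (P.c5.sig.congr (by decide +kernel) (by decide +kernel))⟩,
    ⟨_, od hk' (sig_odd Q.odd), c1 _ _ _ (Q.c1.sig.congr (by decide +kernel) (by decide +kernel)),
      c2 _ _ _ _ (Q.c2.sig.congr (by decide +kernel) (by decide +kernel)),
      c1 _ _ _ (Q.c3.sig.congr (by decide +kernel) (by decide +kernel))⟩,
    (F.ct3 hs sj ker hK hx hq hk).1, (F.ct3 hs sj ker hK hx hq hk).2⟩
  · rw [← map_mul, ← map_mul]
    refine congrArg π (Subtype.ext ?_)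
    change ι u' * ι f' * (ι u' * ι f') = ι t'
    rw [← map_mul, ← map_mul]
    exact congrArg ι (by decide +kernel)
  · have a := map_top_of_surjective π sj ▸ F.sylt.subgroupOf_top.map π
    refine (congrArg (IsSylowIn 2 · ⊤) (le_antisymm ?_ ?_)).mp a
    · rintro _ ⟨⟨_, hb⟩, ⟨b, hB, rfl⟩, rfl⟩
      obtain ⟨c, hc, e⟩ := bs_gen (L := (((closure {π ⟨ι u, hx⟩, π ⟨ι u', hp⟩, π ⟨ι f', hq⟩}).comap π).map
        𝐂[ι t].subtype).comap ι) ⟨⟨_, hx⟩, subset_closure (by simp), rfl⟩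
        ⟨⟨_, F.bs_le (mem_map_of_mem ι (by decide +kernel))⟩, π.ker_le_comap _ ((ker _).2
          (mem_sup_right (mem_map_of_mem ι (by decide +kernel : f ∈ F0)))), rfl⟩
        ⟨⟨_, hp⟩, subset_closure (by simp), rfl⟩ ⟨⟨_, hq⟩, subset_closure (by simp), rfl⟩ hB
      exact (Subtype.ext e : c = ⟨ι b, hb⟩) ▸ hc
    · rw [closure_le]
      rintro _ (rfl | rfl | rfl) <;> exact mem_map_of_mem π (mem_map_of_mem ι (by decide +kernel))
  · set O := Od (⊤ : Subgroup (𝐂[ι t] ⧸ (Oc (ι t) ⊔ F0.map ι).subgroupOf 𝐂[ι t]))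
    have : O.Normal := normal_iff_top_le_normalizer.2 (le_norm_Od _)
    have s : IsSylowIn 2 (F0.map ι) ((O.comap π).map 𝐂[ι t].subtype) := by
      refine ⟨fun z hz => ⟨⟨z, F.bs_le (map_mono hF hz)⟩, ?_, rfl⟩, F.two_map _,
        fun R a b c => (F.sylJ hF).max R a (fun y hy => ?_) c⟩
      · exact (congrArg (· ∈ O) ((ker _).2 (mem_sup_right hz))).mpr (one_mem _)
      · obtain ⟨y, h, rfl⟩ := b hy
        obtain ⟨n, hn⟩ := El2.of_mem c hy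
        exact (ker y).1 ((Od_odd _).eq_one h ⟨n, by
          rw [← map_pow, show y ^ 2 ^ n = 1 from Subtype.ext hn, map_one]⟩)
    have b := H70.TM.burn s (by
      rintro _ ⟨⟨y, hy, rfl⟩, hn⟩
      refine (nK hn).elim id fun h => absurd ((mul_mem_cancel_left ?_).1 h) xK
      obtain ⟨m, hm⟩ := (Od_odd _).odd hy
      have := pow_mem (mul_self_mem_of_index_two idx (π y)) (m + 1)
      rwa [← pow_two, ← pow_mul, show 2 * (m + 1) = 2 * m + 1 + 1 from rfl, ← hm, pow_succ,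
        pow_orderOf_eq_one, one_mul] at this)
    refine eq_bot_iff.2 fun o ho => ?_
    obtain ⟨g, rfl⟩ := sj o
    exact (ker g).2 (sup_le_sup_right (Od_le_Od (map_subtype_le _)
      (normal_iff_le_normalizer_map.1 inferInstance)) _ (b ⟨g, ho, rfl⟩))

end H1.A10
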