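import Cfsg.Agent.Lib.A10.Lift

/-! # A10, package CT3: solvability and the cores in `C(t) / O(C(t)) ⟨f, t⟩` -/

set_option autoImplicit false
set_option maxRecDepth 100000

namespace H1.A10

open Subgroup Cfsg H69 H45 Gold T Equiv

universe v

variable {X : Type v} [Group X] [Finite X] {ι : T →* X}

theorem ct3_cent {g : X} (h1 : g ∈ 𝐂[ι f]) (h2 : g ∈ 𝐂[ι t]) : g ∈ 𝐂(F0.map ι) := by
  rw [mem_centralizer_iff_commute]
  rintro _ ⟨x, hx, rfl⟩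
  have p := Cj.of_cent h1
  have q := Cj.of_cent h2
  refine (mem_cent1_iff.1 (Cj.cent ?_)).symm
  rcases (by decide +kernel : ∀ x ∈ F0, x = 1 ∨ x = f ∨ x = t ∨ x = f * t) x hx with rfl | rfl | rfl | rfl
  exacts [Cj.one g, p, q, p.mul q]

theorem Fu.ct3_od (F : Fu ι) (hs : Group.IsSolvable 𝐂[ι a]) {Γ : Type v} [Group Γ] [Finite Γ]
    {π : 𝐂[ι t] →* Γ} (ker : ∀ g : 𝐂[ι t], π g = 1 ↔ (g : X) ∈ Oc (ι t) ⊔ F0.map ι) {y s : T}
    (hy : y ∈ Bs) (y2 : y * y = 1) (hf : ∀ x ∈ F0, x * y * (x * y) = 1 → (be (x * y) ↔ be y) →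
      ∃ s ∈ F0, s * (x * y) * s⁻¹ = y) (hc : ∀ x ∈ F0, x * y = y * x) (hs0 : s ∈ F0) (he : al (s * y))
    (h : ι y ∈ 𝐂[ι t]) :
    Od (im π 𝐂(F0.map ι) ⊓ 𝐂[π ⟨ι y, h⟩]) ≤ im π (Oc (ι (s * y))) := by
  have hF : F0 ≤ Bs := (by decide +kernel : ∀ x ∈ F0, x ∈ Bs)
  have ab : ∀ x ∈ F0, ∀ z ∈ F0, x * z = z * x := by decide +kernel
  have mf : ι f ∈ F0.map ι := mem_map_of_mem ι (by decide +kernel)
  have c1 : 𝐂(F0.map ι) ≤ 𝐂[ι t] := cent_le_cent1 (mem_map_of_mem ι (by decide +kernel))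
  have c2 : F0.map ι ≤ 𝐂(F0.map ι) := ea_cent (ea_map (by decide +kernel))
  have c3 : F0.map ι ≤ 𝐂[ι y] := map_cent hc
  have nR : F0.map ι ≤ 𝐍(Oc (ι t)) := (c2.trans c1).trans (cent_norm_Oc _)
  have k1 : ∀ {g : X}, g ∈ 𝐂[ι t] → (ap π g = 1 ↔ g ∈ Oc (ι t) ⊔ F0.map ι) := fun hg => by
    rw [ap_of_mem _ hg, ker]
  have hC : 𝐂(F0.map ι) ⊓ 𝐂[ι y] ≤ 𝐂[ι t] := inf_le_left.trans c1
  have up : im π (𝐂(F0.map ι) ⊓ 𝐂[ι y]) ≤ im π 𝐂(F0.map ι) ⊓ 𝐂[π ⟨ι y, h⟩] :=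
    ap_of_mem π h ▸ morphim_subcent1 π _ h
  have on : im π 𝐂(F0.map ι) ⊓ 𝐂[π ⟨ι y, h⟩] ≤ im π (𝐂(F0.map ι) ⊓ 𝐂[ι y]) := by
    rintro _ ⟨⟨c0, h0, rfl⟩, h1⟩
    obtain ⟨c, h2, h3⟩ := F.lift ker hy y2 hf h (mem_cent1_iff.1 h1)
    obtain ⟨r, hr, z, hz, e⟩ := (mem_sup_of_le_normalizer_left nR).1
      ((ker (c0⁻¹ * c)).1 (by rw [map_mul, map_inv, h3, inv_mul_cancel]))
    have ff : ι f * ι f = 1 := by rw [← map_mul, show f * f = 1 by decide +kernel, map_one]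
    have e1 : (c : X) = c0 * (r * z) := by rw [← e]; simp
    have e2 : ι f * c0 = c0 * ι f := mem_centralizer_iff_commute.1 h0 _ mf
    have e3 : ι f * z = z * ι f := mem_centralizer_iff_commute.1 (c2 hz) _ mf
    have m : (c : X)⁻¹ * ι f * c * ι f ∈ Oc (ι t) := by
      have : (c : X)⁻¹ * ι f * c * ι f = z⁻¹ * (r⁻¹ * (ι f * r * (ι f)⁻¹)) * z := by
        calc _ = z⁻¹ * r⁻¹ * (c0 : X)⁻¹ * (ι f * c0) * r * (z * ι f) := by rw [e1]; group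
          _ = _ := by rw [e2, ← e3, inv_eq_of_mul_eq_one_right ff]; group
      rw [this]
      exact conj_mem_of_mem_normalizer' (nR hz)
        (mul_mem (inv_mem hr) (conj_mem_of_mem_normalizer (nR mf) hr))
    obtain ⟨o, ho, -, e4⟩ := H13.PS.lift (K := Oc (ι t) ⊓ 𝐂[ι y]) ((Oc_odd _).mono inf_le_left) ff
      (mem_inf.2 ⟨m, mul_mem (mul_mem (mul_mem (inv_mem (show (c : X) ∈ 𝐂[ι y] from h2)) (c3 mf)) h2) (c3 mf)⟩)
    refine ⟨c * ⟨o, Oc_le _ ho.1⟩, ⟨ct3_cent (mem_cent1_iff.2 e4) (mul_mem c.2 (Oc_le _ ho.1)),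
      mul_mem h2 ho.2⟩, ?_⟩
    rw [map_mul, h3, (ker ⟨o, Oc_le _ ho.1⟩).2 (mem_sup_left ho.1), mul_one]
  set L := Od (im π 𝐂(F0.map ι) ⊓ 𝐂[π ⟨ι y, h⟩])
  set Z := 𝐂(F0.map ι) ⊓ 𝐂[ι y] ⊓ pre π L
  have hZ : Z ≤ 𝐂[ι t] := inf_le_left.trans hC
  have k2 : F0.map ι ≤ kerOf π := fun g hg =>
    (mem_kerOf_ap π).2 ⟨c1 (c2 hg), (k1 (c1 (c2 hg))).2 (mem_sup_right hg)⟩
  have syl : IsSylowIn 2 (F0.map ι) Z :=
    ⟨le_inf (le_inf c2 c3) (k2.trans (kerOf_le_pre π L)), F.two_map _, fun Q h1 h2 h3 =>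
      (F.sylJ hF).max Q h1 (fun g hg => (k1 (hZ (h2 hg))).1 ((Od_odd _).eq_one ((mem_pre π).1 (h2 hg).2).2
        ((El2.of_mem h3 hg).ap π (hZ (h2 hg))))) h3⟩
  have b := H70.TM.burn syl (inf_le_left.trans (inf_le_left.trans inf_le_left))
  have e : 𝐂(F0.map ι) ⊓ 𝐂[ι y] = 𝐂[ι (s * y)] ⊓ 𝐂(F0.map ι) := by
    ext g
    have k : g ∈ 𝐂(F0.map ι) → Cj ι g s s := fun d => Cj.of_cent (cent_le_cent1 (mem_map_of_mem ι hs0) d)
    exact ⟨fun d => ⟨((k d.1).mul (Cj.of_cent d.2)).cent, d.1⟩, fun d => ⟨d.2,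
      (((k d.2).inv.mul (Cj.of_cent d.1)).congr (inv_mul_cancel_left _ _) (inv_mul_cancel_left _ _)).cent⟩⟩
  have o1 : Od Z ≤ Oc (ι (s * y)) :=
    (Od_le_Od inf_le_left (le_normalizer_inf le_normalizer
      (le_normalizer_pre π hC (up.trans (le_norm_Od _))))).trans (e ▸ od_cent_le (F.solv_al hs he)
        (F.two_map _) (map_cent fun x hx => by rw [← mul_assoc, ab x hx s hs0, mul_assoc, hc x hx, mul_assoc]))
  refine (im_inf_pre_of_le π (L := L) ((Od_le _).trans on)).ge.trans ((morphimS π b).trans ?_)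
  rw [morphimY π ((Od_le _).trans hZ) (c2.trans c1), im_eq_bot_of_le π k2, sup_bot_eq]
  exact morphimS π o1

theorem Fu.ct3 (F : Fu ι) (hs : Group.IsSolvable 𝐂[ι a]) {Γ : Type v} [Group Γ] [Finite Γ]
    {π : 𝐂[ι t] →* Γ} (sj : Function.Surjective π)
    (ker : ∀ g : 𝐂[ι t], π g = 1 ↔ (g : X) ∈ Oc (ι t) ⊔ F0.map ι) {K : Subgroup Γ}
    (hK : K = (𝐂(F0.map ι).subgroupOf 𝐂[ι t]).map π) (hx hq hk) :
    Group.IsSolvable 𝐂[π ⟨ι u, hx⟩ * π ⟨ι t', hk⟩] ∧ ∃ W : Subgroup Γ, OddS W ∧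
      Od (K ⊓ 𝐂[π ⟨ι f', hq⟩]) ≤ W ∧ Od (K ⊓ 𝐂[π ⟨ι t', hk⟩]) ≤ W ∧
      Od (K ⊓ 𝐂[π ⟨ι f', hq⟩ * π ⟨ι t', hk⟩]) ≤ W := by
  subst hK
  have mm : ∀ {x y : T} (h1 h2), ∃ h, π ⟨ι x, h1⟩ * π ⟨ι y, h2⟩ = π ⟨ι (x * y), h⟩ := fun {x y} h1 h2 =>
    ⟨map_mul ι x y ▸ mul_mem h1 h2, by rw [← map_mul]; exact congrArg π (Subtype.ext (map_mul ι x y).symm)⟩
  constructor
  · obtain ⟨h, e⟩ := mm hx hk
    rw [e]
    refine solvableS (morphim_sol π (F.solv_al hs (x := u * t') (by decide +kernel))) fun g hg => ?_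
    obtain ⟨g, rfl⟩ := sj g
    obtain ⟨c, h2, h3⟩ := F.lift ker (by decide +kernel) (by decide +kernel) (by decide +kernel) h
      (mem_cent1_iff.1 hg)
    exact ⟨c, h2, h3⟩
  have hE : ∀ x ∈ E1, x ≠ 1 → al x := by decide +kernel
  have ho := (H70.U52.sig2 (A := E1.map ι) (ea_map (by decide +kernel))
    (by rw [F.card, card_of]; decide +kernel) (by
      rintro _ ⟨x, hx, rfl⟩ h1
      exact F.solv_al hs (hE x hx fun e => h1 (by rw [e, map_one])))).1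
  have le : ∀ x ∈ E1, x ≠ 1 → im π (Oc (ι x)) ≤ im π (H70.TM.WO (E1.map ι)) := fun x hx h1 =>
    morphimS π (H70.TM.le_WO (mem_map_of_mem ι hx) (F.ne h1))
  obtain ⟨h, e⟩ := mm hq hk
  rw [e]
  refine ⟨im π (H70.TM.WO (E1.map ι)), ho.im π, ?_, ?_, ?_⟩
  · exact (F.ct3_od hs ker (s := f) (by decide +kernel) (by decide +kernel) (by decide +kernel)
      (by decide +kernel) (by decide +kernel) (by decide +kernel) hq).trans
      (le _ (by decide +kernel) (by decide +kernel))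
  · exact (F.ct3_od hs ker (s := t) (by decide +kernel) (by decide +kernel) (by decide +kernel)
      (by decide +kernel) (by decide +kernel) (by decide +kernel) hk).trans
      (le _ (by decide +kernel) (by decide +kernel))
  · exact (F.ct3_od hs ker (s := f * t) (by decide +kernel) (by decide +kernel) (by decide +kernel)
      (by decide +kernel) (by decide +kernel) (by decide +kernel) h).trans
      (le _ (by decide +kernel) (by decide +kernel))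

end H1.A10
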