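import Cfsg.Agent.Lib.A10.Lift
import Cfsg.Agent.Lib.Block.Dih
import Cfsg.Agent.Lib.FrobC.Perfect
import Cfsg.Agent.S3287
import Cfsg.Agent.S0497

/-! # The normal closure of the dihedral group in the configuration `Gm` -/

set_option autoImplicit false
set_option maxRecDepth 100000
set_option linter.unusedSectionVars false

namespace H1.A10

open Subgroup Cfsg H69 H45 Gold T Equiv

universe v

variable {X : Type v} [Group X] [Finite X] {ι : T →* X}

namespace DS1

variable {x p q k g : X} {K D L N : Subgroup X}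

/-- `D = ⟨p, q⟩` is dihedral of order eight with centre `⟨k⟩` -/
structure Dd (p q k : X) (D : Subgroup X) : Prop where
  dih : H73.DihData D (2 ^ (1 + 1)) (p * q) q
  eq : D = closure {p, q}
  cen : ∀ d ∈ D, d * p = p * d → d * q = q * d → d = 1 ∨ d = k

theorem inv2 (h : g * g = 1) : g⁻¹ = g := inv_eq_of_mul_eq_one_right h

theorem npq (m : Gm x p q k K) : p * q ≠ q * p := fun e => m.k1 (by
  rw [← m.hk, mul_assoc, ← mul_assoc q, ← e, mul_assoc, m.qq, mul_one, m.pp])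

theorem exists_dd (m : Gm x p q k K) : ∃ D, Dd p q k D := by
  have w2 : (p * q) ^ 2 = k := by rw [pow_two, m.hk]
  have w4 : (p * q) ^ 4 = 1 := by rw [show 4 = 2 * 2 from rfl, pow_mul, w2, pow_two, m.kk]
  have wi : (p * q)⁻¹ = q * p := by rw [mul_inv_rev, inv2 m.pp, inv2 m.qq]
  have c : q * (p * q) * q⁻¹ = (p * q)⁻¹ := by rw [wi]; group
  have o : orderOf (p * q) = 4 := orderOf_eq_prime_pow (p := 2) (n := 1) (by rw [pow_one, w2]; exact m.k1) w4
  have n : q ∉ zpowers (p * q) := fun h => by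
    obtain ⟨i, hi⟩ := mem_zpowers_iff.1 h
    have := (Commute.refl (p * q)).zpow_left i
    rw [hi] at this
    rw [this.eq, mul_inv_cancel_right, wi] at c
    exact npq m c
  let δ := H10.dihHom (m := 4) (p * q) q w4 m.qq c
  have inj : Function.Injective δ := H10.dihHom_injective _ _ _ _ _ o n
  have dq : δ (.sr 0) = q := (congrArg (q * ·) (pow_zero _)).trans (mul_one q)
  have dw : δ (.r 1) = p * q := pow_one _
  have dp : δ (.sr 3) = p := by
    rw [show (.sr 3 : DihedralGroup 4) = .r 1 * .sr 0 from rfl, map_mul, dq, dw, mul_assoc, m.qq, mul_one]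
  have dk : δ (.r 2) = k := w2
  refine ⟨δ.range, ⟨o, m.qq, c, n, fun g => ⟨?_, ?_⟩⟩, le_antisymm ?_ ?_, ?_⟩
  · rintro ⟨i | i, rfl⟩
    · exact ⟨i.val, Or.inl (zpow_natCast _ _).symm⟩
    · refine ⟨(-i).val, Or.inr ?_⟩
      rw [zpow_natCast, show (.sr i : DihedralGroup 4) = .r (-i) * .sr 0 by simp, map_mul, dq]
      rfl
  · have a : p * q ∈ δ.range := ⟨_, dw⟩
    have b : q ∈ δ.range := ⟨_, dq⟩
    rintro ⟨i, rfl | rfl⟩
    exacts [zpow_mem a i, mul_mem (zpow_mem a i) b]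
  · have hp : p ∈ closure {p, q} := subset_closure (by simp)
    have hq : q ∈ closure {p, q} := subset_closure (by simp)
    rintro _ ⟨i | i, rfl⟩
    exacts [pow_mem (mul_mem hp hq) _, mul_mem hq (pow_mem (mul_mem hp hq) _)]
  · rw [closure_le]
    rintro _ (rfl | rfl)
    exacts [⟨_, dp⟩, ⟨_, dq⟩]
  · rintro _ ⟨e, rfl⟩ h1 h2
    rw [← dp, ← map_mul, ← map_mul] at h1
    rw [← dq, ← map_mul, ← map_mul] at h2
    exact ((by decide : ∀ e : DihedralGroup 4, e * .sr 3 = .sr 3 * e → e * .sr 0 = .sr 0 * e → e = 1 ∨ e = .r 2)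
      e (inj h1) (inj h2)).imp (fun e => by rw [e, map_one]) fun e => by rw [e, dk]

theorem Dd.hp (d : Dd p q k D) : p ∈ D := d.eq ▸ subset_closure (by simp)
theorem Dd.hq (d : Dd p q k D) : q ∈ D := d.eq ▸ subset_closure (by simp)
theorem Dd.le (d : Dd p q k D) (hp : p ∈ L) (hq : q ∈ L) : D ≤ L := by
  rw [d.eq, closure_le]
  rintro _ (rfl | rfl) <;> assumption
theorem Dd.cent (d : Dd p q k D) (hp : p * g = g * p) (hq : q * g = g * q) : g ∈ 𝐂(D) :=
  mem_centralizer_iff.2 fun _ h => mem_centralizer_singleton_iff.1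
    (d.le (L := 𝐂[g]) (mem_centralizer_singleton_iff.2 hp) (mem_centralizer_singleton_iff.2 hq) h)

variable (m : Gm x p q k K) (d : Dd p q k D)
include m d

theorem hJ : (p * q) ^ 2 ^ 1 = k := by rw [pow_one, pow_two, m.hk]
theorem kD : k ∈ D := m.hk ▸ mul_mem (mul_mem d.hp d.hq) (mul_mem d.hp d.hq)
theorem kc : D ≤ 𝐂[k] := hJ m d ▸ H33.Dih.le_centralizer_J d.dih
theorem xc : x ∈ 𝐂(D) := d.cent m.xp.symm m.xq.symm
theorem nK : K.Normal := normal_of_index_eq_two m.idx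

theorem memQ (hg : g ∈ closure {x, p, q}) : g ∈ D ∨ g * x ∈ D := by
  refine (mem_sup_zpowers m.xx (centralizer_le_normalizer _ (xc m d))).1 (((closure_le _).2 ?_ : _ ≤ _) hg)
  rintro _ (rfl | rfl | rfl)
  exacts [mem_sup_right (mem_zpowers _), mem_sup_left d.hp, mem_sup_left d.hq]

theorem sylK : IsSylowIn 2 D K := by
  have := nK m d
  have h := m.syl.inf_normal (N := K) le_top le_normalizer_of_normal
  rwa [show closure {x, p, q} ⊓ K = D from le_antisymm (fun g hg => (memQ m d hg.1).resolve_right fun e =>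
    m.xK (by simpa using mul_mem (K.inv_mem hg.2) (d.le m.pK m.qK e)))
    (d.le ⟨subset_closure (by simp), m.pK⟩ ⟨subset_closure (by simp), m.qK⟩)] at h

theorem oddK (ho : Odd (orderOf g)) : g ∈ K := by
  obtain ⟨j, hj⟩ := ho
  have := pow_mem (sq_mem_of_index_two m.idx g) (j + 1)
  rwa [← pow_mul, show 2 * (j + 1) = orderOf g + 1 by omega, pow_succ, pow_orderOf_eq_one, one_mul] at this

theorem odd_cent (ho : Odd (orderOf g)) (hg : g ∈ 𝐍(D)) : g ∈ 𝐂(D) := by
  have c : ∀ y ∈ D, g * k * g⁻¹ * y = y * (g * k * g⁻¹) := fun y hy => by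
    have := (show Commute (g⁻¹ * y * g) k from
      mem_centralizer_singleton_iff.1 (kc m d (by simpa using (mem_normalizer_iff.1 (inv_mem hg) y).1 hy))).conj g
    rw [show g * (g⁻¹ * y * g) * g⁻¹ = y by group] at this
    exact this.symm
  have e := (d.cen _ ((mem_normalizer_iff.1 hg k).1 (kD m d)) (c p d.hp) (c q d.hq)).resolve_left
    fun e => m.k1 (by simpa using e)
  refine mem_centralizer_iff.2 fun y hy => ?_
  have := H33.Dih.aut_eq d.dih (β := MulAut.conj g) ho (by rw [← map_pow, pow_orderOf_eq_one, map_one])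
    (by rw [hJ m d]; exact e) le_rfl (fun y hy => (mem_normalizer_iff.1 hg y).1 hy) y hy
  exact (mul_inv_eq_iff_eq_mul.1 this).symm

theorem fr (hD : D ≤ N) (hK : N ≤ K) [N.Normal] (hg : g ∈ K) : ∃ n ∈ N, ∃ c ∈ 𝐂(D), g = n * c := by
  obtain ⟨n, hn, c, hc, rfl⟩ := ((sylK m d).mono hD hK).frattini (g := g) (le_normalizer_of_normal (mem_top g))
  obtain ⟨c1, h1, c2, h2, o1, o2, e⟩ := exists_parts c
  have cK : c ∈ K := by simpa using mul_mem (inv_mem (hK hn)) hg
  have := (sylK m d).le_of_le_normalizer' o2.isPGroup (zpowers_le.2 (zpowers_le.2 cK h2))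
    (zpowers_le.2 (zpowers_le.2 hc h2)) (mem_zpowers c2)
  have k1 := odd_cent m d o1 (zpowers_le.2 hc h1)
  exact ⟨n * c2, mul_mem hn (hD this), c1, k1, by rw [e, mul_assoc, mem_centralizer_iff.1 k1 c2 this]⟩

theorem fr' (hD : D ≤ N) (hK : N ≤ K) [N.Normal] (ho : Odd (orderOf g)) :
    ∃ n ∈ N, ∀ y ∈ D, n * y * n⁻¹ = g * y * g⁻¹ := by
  obtain ⟨n, hn, c, hc, rfl⟩ := fr m d hD hK (oddK m d ho)
  exact ⟨n, hn, fun y hy => by rw [mul_assoc n c, ← mem_centralizer_iff.1 hc y hy]; group⟩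

theorem simple : IsSimpleGroup (ncl D ⊤) := by
  have : (ncl D ⊤).Normal := ncl_top D ▸ normalClosure_normal
  have := nK m d
  have hD : D ≤ ncl D ⊤ := le_ncl D ⊤
  have hK : ncl D ⊤ ≤ K := ncl_le (sylK m d).le le_normalizer_of_normal
  have : Nontrivial (ncl D ⊤) := ⟨⟨k, hD (kD m d)⟩, 1, fun e => m.k1 (congrArg Subtype.val e)⟩
  refine ⟨fun L hL => ?_⟩
  have hn := normal_iff_le_normalizer_map.1 hL
  have hle := map_subtype_le L
  by_cases ho : OddS (L.map (ncl D ⊤).subtype)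
  · have := ((le_Od hle ho hn).trans (Od_le_Od le_top le_normalizer_of_normal)).trans m.od.le
    exact Or.inl ((map_eq_bot_iff_of_injective _ (subtype_injective _)).1 (le_bot_iff.1 this))
  refine Or.inr (map_injective (subtype_injective _) (le_antisymm (map_mono le_top) ?_))
  rw [← MonoidHom.range_eq_map, range_subtype]
  generalize L.map (ncl D ⊤).subtype = L at hn hle ho
  have s := ((sylK m d).mono hD hK).inf_normal hle hn
  obtain ⟨⟨y, hy, yc⟩, y1⟩ := ne_bot_iff_exists_ne_one.1 (inf_centralizer_ne_bot s.isP (sylK m d).isP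
    (H70.le_normalizer_inf le_normalizer (hD.trans hn)) (s.dvd_card_iff.1 (not_not.1 ho)))
  obtain rfl := (d.cen y hy.1 (mem_centralizer_iff.1 yc p d.hp).symm (mem_centralizer_iff.1 yc q d.hq).symm).resolve_left
    fun e => y1 (Subtype.ext e)
  have b : ∀ h, Odd (orderOf h) → ∀ z ∈ D, h * z * h⁻¹ = y → z ∈ L := fun h ho z hz e => by
    obtain ⟨n, h1, h2⟩ := fr' m d hD hK ho
    exact (mem_normalizer_iff.1 (hn h1) z).2 (by rw [h2 z hz, e]; exact hy.2)
  obtain ⟨h1, o1, e1, -⟩ := m.h1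
  obtain ⟨h2, o2, e2, -⟩ := m.h2
  have DL := d.le (b h1 o1 p d.hp e1) (b h2 o2 q d.hq e2)
  have c : ∀ g ∈ K, ∀ z ∈ D, g * z * g⁻¹ ∈ L := fun g hg z hz => by
    obtain ⟨n, h1, c, hc, rfl⟩ := fr m d hD hK hg
    rw [mul_assoc n c, ← mem_centralizer_iff.1 hc z hz, show n * (z * c) * (n * c)⁻¹ = n * z * n⁻¹ by group]
    exact (mem_normalizer_iff.1 (hn h1) z).1 (DL hz)
  refine ncl_le_iff.2 fun g _ => ?_
  rintro _ ⟨z, hz, rfl⟩
  by_cases hg : g ∈ K
  · exact c g hg z hz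
  · have := c (g * x) ((mul_mem_iff_of_index_two m.idx).2 (iff_of_false hg m.xK)) z hz
    rwa [mul_assoc g x, ← mem_centralizer_iff.1 (xc m d) z hz,
      show g * (z * x) * (g * x)⁻¹ = g * z * g⁻¹ by group] at this

theorem cent_bot (hD : D ≤ N) [N.Normal] : 𝐂(N) = ⊥ := by
  have s := m.syl.inf_normal (N := 𝐂(N)) le_top le_normalizer_of_normal
  have c : ∀ g, ∀ y ∈ 𝐂(N), g * y * g⁻¹ ∈ 𝐂(N) := fun g y hy => Normal.conj_mem inferInstance y hy g
  obtain ⟨h1, o1, -, -, e1⟩ := m.h1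
  obtain ⟨h2, o2, -, e2, e3⟩ := m.h2
  have np : p ∉ 𝐂(N) := fun h => npq m (mem_centralizer_iff.1 h q (hD d.hq)).symm
  have nq : q ∉ 𝐂(N) := fun h => npq m (mem_centralizer_iff.1 h p (hD d.hp))
  refine le_bot_iff.1 ((le_Od le_top (fun h => s.dvd_card_iff.1 h (eq_bot_iff.2 fun y hy => ?_))
    le_normalizer_of_normal).trans m.od.le)
  have y1 := (mem_centralizer_iff.1 hy.2 p (hD d.hp)).symm
  have y2 := (mem_centralizer_iff.1 hy.2 q (hD d.hq)).symm
  rcases memQ m d hy.1 with h | h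
  · refine (d.cen y h y1 y2).resolve_right fun e => nq ?_
    have := mul_mem (c h2 y hy.2) (inv_mem (mem_inf.1 hy).2)
    rwa [e, e2, mul_inv_cancel_right] at this
  · rcases d.cen _ h (Commute.mul_left y1 m.xp) (Commute.mul_left y2 m.xq) with e | e
    · obtain rfl : y = x := by rw [eq_inv_of_mul_eq_one_left e, inv2 m.xx]
      have := mul_mem (inv_mem (mem_inf.1 hy).2) (c h1 y hy.2)
      rw [e1, inv_mul_cancel_left] at this
      exact (np this).elim
    · obtain rfl : y = k * x := by rw [eq_mul_inv_of_mul_eq e, inv2 m.xx]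
      have := mul_mem (c h2 _ hy.2) (inv_mem (mem_inf.1 hy).2)
      rw [← conj_mul, e2, e3, mul_assoc q, mul_inv_cancel_right] at this
      exact (nq this).elim

theorem npc (hP : IsSylowIn 2 D L) (h : L ≤ 𝐂[k]) : L ≤ Od L ⊔ D := by
  obtain ⟨S, hS⟩ := hP.exists_sylow_subgroupOf
  have a := H33.Dih.hasNormalPComplement_of_central (P := S) (hS ▸ H33.Dih.subgroupOf d.dih hP.le) fun g =>
    Subtype.ext (show (g : X) * (p * q) ^ 2 ^ 1 = (p * q) ^ 2 ^ 1 * g from
      (hJ m d).symm ▸ mem_centralizer_singleton_iff.1 (h g.2))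
  exact hP.res_sup.ge.trans (sup_le_sup_right (le_Od (res_le L)
    ((H4.hasNormalPComplement_iff_card_map L).1 a) (le_normalizer_res L)) D)

/-- a solvable subgroup properly containing `C_N(k)` -/
theorem ovr (hD : D ≤ N) (hK : N ≤ K) [N.Normal] :
    ∃ H ≤ N, Group.IsSolvable H ∧ N ⊓ 𝐂[k] ≤ H ∧ ∃ n ∈ H, n ∉ 𝐂[k] := by
  obtain ⟨W, hW, w1, w2, w3⟩ := m.W
  obtain ⟨h2, o2, e1, e2, -⟩ := m.h2
  obtain ⟨n, hn, c⟩ := fr' m d hD hK o2
  rw [← c q d.hq] at e1
  rw [← c k (kD m d)] at e2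
  have qk : q * k = k * q := mem_centralizer_singleton_iff.1 (kc m d d.hq)
  have q1 : q ≠ 1 := fun e => npq m (by rw [e, mul_one, one_mul])
  have nq : q ≠ k := fun e => npq m (e ▸ mem_centralizer_singleton_iff.1 (kc m d d.hp))
  have f := H19.isKleinFour_closure_pair q1 m.k1 nq m.qq m.kk qk
  have m1 : q ∈ closure {q, k} := subset_closure (by simp)
  have m2 : k ∈ closure {q, k} := subset_closure (by simp)
  have nF : ∀ g, g * q * g⁻¹ ∈ closure {q, k} → g * k * g⁻¹ ∈ closure {q, k} → g ∈ 𝐍(closure {q, k}) :=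
    fun g a b => mem_normalizer_of_cj_le (by
      rw [map_le_iff_le_comap, closure_le]
      rintro _ (rfl | rfl)
      exacts [a, b])
  have DF : D ≤ 𝐍(closure {q, k}) := d.le (nF p (by
      rw [show p * q * p⁻¹ = p * q * (p * q) * q⁻¹ by rw [inv2 m.pp]; group, m.hk]
      exact mul_mem m2 (inv_mem m1))
    (by rw [mem_centralizer_singleton_iff.1 (kc m d d.hp), mul_inv_cancel_right]; exact m2)) (le_normalizer m1)
  have a := npc m d (((sylK m d).mono hD hK).mono (le_inf hD (kc m d)) inf_le_left) inf_le_right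
  have s1 : Group.IsSolvable (N ⊓ 𝐂[k] : Subgroup X) :=
    H70.U52.solv_sup ((Od_odd _).solv key_ft) (solv2 (sylK m d).isP) ((le_inf hD (kc m d)).trans (le_norm_Od _)) a
  have s2 : Group.IsSolvable (N ⊓ 𝐍(closure {q, k}) : Subgroup X) := by
    have := H82.isSolvable_perm (α := closure {q, k}) f.card_four.le
    have := Group.isSolvable_of_isSolvable_injective (f := MulAut.toPerm (closure {q, k})) fun _ _ e =>
      MulEquiv.toEquiv_injective e
    let φ := (normalizerMonoidHom (closure {q, k})).comp (inclusion (inf_le_right (a := N)))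
    have : Group.IsSolvable φ.ker := H1.isSolvable_of_le (H1.isSolvable_subgroupOf s1 _) fun g hg =>
      ⟨g.2.1, mem_centralizer_singleton_iff.2 (mul_inv_eq_iff_eq_mul.1
        (congrArg Subtype.val (DFunLike.congr_fun (MonoidHom.mem_ker.1 hg) ⟨k, m2⟩) :))⟩
    exact Group.isSolvable_of_ker_le_range φ.ker.subtype φ (range_subtype _).ge
  let W0 : Subgroup X := ⨆ y : {y // y ∈ closure {q, k} ∧ y ≠ 1}, Od (N ⊓ 𝐂[(y : X)])
  have l0 : ∀ y ∈ closure {q, k}, y ≠ 1 → Od (N ⊓ 𝐂[y]) ≤ W0 := fun y h1 h2 =>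
    le_iSup (fun y : {y // y ∈ closure {q, k} ∧ y ≠ 1} => Od (N ⊓ 𝐂[(y : X)])) ⟨y, h1, h2⟩
  have l1 : ∀ y, Od (N ⊓ 𝐂[y]) ≤ Od (K ⊓ 𝐂[y]) := fun y => Od_le_Od (inf_le_inf_right _ hK)
    (H70.le_normalizer_inf le_normalizer_of_normal (inf_le_right.trans le_normalizer))
  have l2 : W0 ≤ W := iSup_le fun ⟨y, h1, h2⟩ => (l1 y).trans (by
    rcases four_cases f.card_four m1 m2 q1 m.k1 nq.symm m.qq h1 with rfl | rfl | rfl | rfl
    exacts [absurd rfl h2, w1, w2, w3])
  have l3 : N ⊓ 𝐍(closure {q, k}) ≤ 𝐍(W0) := le_normalizer_of_cj_le fun g hg => by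
    rw [Subgroup.map_iSup]
    refine iSup_le fun ⟨y, h1, h2⟩ => ?_
    rw [Od_cj, cj_inf, cj_centralizer_singleton, cj_eq_of_mem_normalizer (le_normalizer hg.1)]
    exact l0 _ ((mem_normalizer_iff.1 hg.2 y).1 h1) (by simpa using h2)
  refine ⟨W0 ⊔ N ⊓ 𝐍(closure {q, k}), sup_le (iSup_le fun y => (Od_le _).trans inf_le_left) inf_le_left,
    H70.U52.solv_sup ((hW.mono l2).solv key_ft) s2 l3 le_rfl,
    a.trans (sup_le_sup (l0 k m2 m.k1) (le_inf hD DF)), n,
    mem_sup_right ⟨hn, nF n (e1 ▸ m2) (e2 ▸ mul_mem m1 m2)⟩, fun h => q1 ?_⟩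
  rw [mem_centralizer_singleton_iff.1 h, mul_inv_cancel_right] at e2
  exact mul_eq_right.1 e2.symm

end DS1

open DS1

theorem Gm.ds1 {x p q k : X} {K : Subgroup X} (m : Gm x p q k K) :
    ∃ N : Subgroup X, N.Normal ∧ p ∈ N ∧ q ∈ N ∧ N ≤ K ∧ 𝐂(N) = ⊥ ∧ IsSimpleGroup N ∧
      (Nat.card N = 168 ∨ Nonempty (N ≃* alternatingGroup (Fin 6)) ∨
        Nonempty (N ≃* alternatingGroup (Fin 7))) := by
  obtain ⟨D, d⟩ := exists_dd m
  have hs := simple m d
  have hN : (ncl D ⊤).Normal := ncl_top D ▸ normalClosure_normal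
  have := nK m d
  have hD : D ≤ ncl D ⊤ := le_ncl D ⊤
  have hK : ncl D ⊤ ≤ K := ncl_le (sylK m d).le le_normalizer_of_normal
  generalize ncl D ⊤ = N at hs hN hD hK
  refine ⟨N, hN, hD d.hp, hD d.hq, hK, cent_bot m d hD, hs, ?_⟩
  obtain ⟨H, h1, h2, h3, n, h4, h5⟩ := ovr m d hD hK
  obtain ⟨S, hS⟩ := ((sylK m d).mono hD hK).exists_sylow_subgroupOf
  obtain ⟨e⟩ := (H33.Dih.subgroupOf d.dih hD).nonempty_mulEquiv (by norm_num)
  have := H1.isSolvable_subgroupOf h2 N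
  rcases Cfsg.Agent.S3287.result S _ (hS ▸ e) ⟨k, hD (kD m d)⟩
    (by rw [← orderOf_coe]; exact H13.PS.ord2 m.kk m.k1) (H.subgroupOf N)
    (lt_of_le_of_ne (fun g hg => h3 ⟨g.2, mem_centralizer_singleton_iff.2
        (congrArg Subtype.val (mem_centralizer_singleton_iff.1 hg))⟩)
      fun e => h5 (mem_centralizer_singleton_iff.2
        (congrArg Subtype.val (mem_centralizer_singleton_iff.1 (e.ge (show (⟨n, h1 h4⟩ : N) ∈ _ from h4))))))
    H23.fStar_eq_fitting_of_isSolvable with ⟨⟨e⟩⟩ | h | ⟨F, _, _, hF, ⟨e⟩⟩ | ⟨F, _, _, hF, ⟨e⟩⟩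
  · have := card_dvd_of_le hD
    rw [d.dih.card, Nat.card_congr e.toEquiv, nat_card_alternatingGroup] at this
    simp [Nat.factorial] at this
  · exact Or.inr (Or.inr h)
  · have := H10.card_PSL_fin (F := F) 3 (by norm_num)
    rw [Nat.card_eq_fintype_card (α := F), hF, ← Nat.card_congr e.toEquiv] at this
    exact Or.inl (by simpa [Fin.prod_univ_three] using this)
  · have := H10.card_PSL_two (F := F)
    rw [Nat.card_eq_fintype_card (α := F), hF, ← Nat.card_congr e.toEquiv] at this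
    exact Or.inr (Or.inl (Cfsg.Agent.S0497.result (by norm_num at this; omega)))

end H1.A10
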