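import Cfsg.Agent.Lib.A10.Lift
import Cfsg.Agent.Lib.H4.G168
import Cfsg.Agent.Lib.InvChar.SymSix
import Cfsg.Agent.Lib.A9.A6

set_option autoImplicit false
set_option maxRecDepth 100000

namespace H1.A10

open Subgroup Cfsg H69 H45 Gold T Equiv

universe v

variable {X : Type v} [Group X] [Finite X] {ι : T →* X}

namespace DS2

omit [Finite X] in
theorem dih {a b : X} {n : ℕ} (h1 : orderOf a = n) (h2 : b * b = 1) (h3 : b * a * b⁻¹ = a⁻¹)
    (h4 : b ∉ zpowers a) : ∃ D : Subgroup X, H73.DihData D n a b := by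
  have c : ∀ j : ℤ, b * a ^ j = a ^ (-j) * b := fun j => by
    rw [zpow_neg, ← inv_zpow, ← h3, conj_zpow, inv_mul_cancel_right]
  refine ⟨{ carrier := {g | ∃ i : ℤ, g = a ^ i ∨ g = a ^ i * b}
            one_mem' := ⟨0, Or.inl (zpow_zero a).symm⟩
            mul_mem' := ?_
            inv_mem' := ?_ }, h1, h2, h3, h4, fun _ => Iff.rfl⟩
  · rintro _ _ ⟨i, rfl | rfl⟩ ⟨j, rfl | rfl⟩
    · exact ⟨i + j, Or.inl (zpow_add a i j).symm⟩
    · exact ⟨i + j, Or.inr (by rw [zpow_add, mul_assoc])⟩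
    · exact ⟨i + -j, Or.inr (by rw [zpow_add, mul_assoc, c, mul_assoc])⟩
    · exact ⟨i + -j, Or.inl (by rw [zpow_add, mul_assoc, ← mul_assoc b, c, mul_assoc, h2, mul_one])⟩
  · rintro _ ⟨i, rfl | rfl⟩
    · exact ⟨-i, Or.inl (zpow_neg a i).symm⟩
    · exact ⟨i, Or.inr (by
        rw [mul_inv_rev, inv_eq_of_mul_eq_one_right h2, ← zpow_neg, c, neg_neg])⟩

theorem inv_supp {n : ℕ} {σ : Perm (Fin n)} (h2 : σ ^ 2 = 1) (hs : Perm.sign σ = -1) :
    ∃ j, Odd j ∧ σ.support.card = j * 2 ∧ j * 2 ≤ n := by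
  have h3 : σ.support.card ≤ n := by simpa using σ.support.card_le_univ
  have e := Perm.cycleType_of_pow_prime_eq_one h2
  rw [Perm.sign_of_cycleType] at hs
  rw [← Perm.sum_cycleType] at *
  generalize σ.cycleType.card = j at e hs
  rw [e, Multiset.sum_replicate, smul_eq_mul] at h3 hs ⊢
  refine ⟨j, Nat.not_even_iff_odd.1 fun h => ?_, rfl, h3⟩
  rw [Even.neg_one_pow (Even.add (even_two.mul_left j) h)] at hs
  exact absurd hs (by decide)

theorem isConj_of_sq {n : ℕ} {p q : Perm (Fin n)} (hp : p ^ 2 = 1)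
    (hq : q ^ 2 = 1) (h : p.support.card = q.support.card) : IsConj p q := by
  have h1 := Perm.cycleType_of_pow_prime_eq_one hp
  have h2 := Perm.cycleType_of_pow_prime_eq_one hq
  rw [← Perm.sum_cycleType, ← Perm.sum_cycleType, h1, h2, Multiset.sum_replicate, Multiset.sum_replicate,
    smul_eq_mul, smul_eq_mul] at h
  rw [Perm.isConj_iff_cycleType_eq, h1, h2]
  congr 1; omega

instance sm7 : H58.Cd.Sm 7 := ⟨by norm_num⟩

def σ0 : Perm (Fin 7) := swap 0 1 * swap 2 3 * swap 4 5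

open H58.Cd in
theorem key7 {r : Perm (Fin 7)} (h : r * σ0 = σ0 * r) : r * r ≠ 1 → r * r * (r * r) = 1 →
    (σ0 * (r * r)).support.card = 2 := by
  simp only [ne_eq, H58.Cd.eq_iff (n := 7), code_mul, card_support]
  refine fc 7 _ (code r) ⟨σ0, r, rfl, rfl, h⟩ ?_
  decide +kernel

omit [Finite X] in
theorem ns_swap (e : X ≃* Perm (Fin 7)) {y : X} (h : (e y).IsSwap) : ¬ Group.IsSolvable 𝐂[y] := fun s => by
  obtain ⟨a, b, ab, h⟩ := h
  let f : Perm {t : Fin 7 // t ≠ a ∧ t ≠ b} →* 𝐂[y] :=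
    (e.symm.toMonoidHom.comp Perm.ofSubtype).codRestrict _ fun g => mem_centralizer_singleton_iff.2 (e.injective (by
      simp only [map_mul, h, MonoidHom.comp_apply, MulEquiv.coe_toMonoidHom, MulEquiv.apply_symm_apply]
      rw [Equiv.mul_swap_eq_swap_mul, Perm.ofSubtype_apply_of_not_mem _ (fun k => k.1 rfl),
        Perm.ofSubtype_apply_of_not_mem _ (fun k => k.2 rfl)]))
  refine Perm.not_isSolvable {t : Fin 7 // t ≠ a ∧ t ≠ b} ?_ (Group.isSolvable_of_isSolvable_injective (f := f) fun u v k =>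
    Perm.ofSubtype_injective (e.symm.injective (congrArg Subtype.val k)))
  rw [Cardinal.mk_fintype, show Fintype.card {t : Fin 7 // t ≠ a ∧ t ≠ b} = 5 from
    (by decide : ∀ a b : Fin 7, a ≠ b → Fintype.card {t : Fin 7 // t ≠ a ∧ t ≠ b} = 5) a b ab]
  rfl

theorem fix3 {α : Type*} [Fintype α] [DecidableEq α] {σ c : Perm α} (h2 : σ * σ = 1) (hc : c.IsThreeCycle)
    (h : σ * c = c * σ) : ∃ a, σ a = a := by
  obtain ⟨a, b, d, ab, ad, bd, rfl⟩ := H29.exists_eq_cyc hc
  have k := H29.cyc_apply ab ad bd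
  have h1 : ∀ t, σ (H29.cyc a b d t) = H29.cyc a b d (σ t) := fun t => congrArg (· t) h
  have h3 : ∀ t, σ (σ t) = t := fun t => congrArg (· t) h2
  have ka : H29.cyc a b d a = b := by simp [k]
  have kb : H29.cyc a b d b = d := by simp [k, ab.symm]
  have kd : H29.cyc a b d d = a := by simp [k, ad.symm, bd.symm]
  refine ⟨a, by_contra fun n => ?_⟩
  have := h1 a
  rw [ka] at this
  by_cases e1 : σ a = b
  · rw [e1, kb, ← e1, h3] at this; exact ad this
  by_cases e2 : σ a = d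
  · have t := h1 d
    rw [kd, show σ d = a by rw [← e2, h3], ka] at t; exact e1 t
  · rw [k, if_neg n, if_neg e1, if_neg e2] at this
    exact ab (σ.injective this).symm

abbrev A (n : ℕ) := alternatingGroup (Fin n)

theorem sq3 (φ : MulAut (A 6)) (y : A 6) (hy : y.1.IsThreeCycle) : ((φ * φ) y).1.IsThreeCycle := by
  have o : ∀ z : A 6, z.1.IsThreeCycle → orderOf z = 3 := fun z hz => by rw [← Subgroup.orderOf_coe, hz.orderOf]
  have oy := o y hy
  by_cases h : (φ y).1.IsThreeCycle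
  · exact H72.isThreeCycle_of_isConj (φ.toMonoidHom.map_isConj
      (H72.isConj_alt_six oy (o _ h) (iff_of_true hy h))) h
  · by_contra n
    have := φ.symm.toMonoidHom.map_isConj (H72.isConj_alt_six (x := φ y) (y := φ (φ y)) (by rw [φ.orderOf_eq, oy])
      (by rw [φ.orderOf_eq, φ.orderOf_eq, oy]) (iff_of_false h n))
    change IsConj (φ.symm (φ y)) (φ.symm (φ (φ y))) at this
    rw [φ.symm_apply_apply, φ.symm_apply_apply] at this
    exact h (H72.isThreeCycle_of_isConj this hy)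

section
variable {N : Subgroup X} [N.Normal] {n : ℕ} (e : N ≃* A n)

/-- the action on the alternating group -/
def Φ : X →* MulAut (A n) := (MulAut.congr e).toMonoidHom.comp MulAut.conjNormal

omit [Finite X] in
theorem Φ_ap (g : X) (y : N) : Φ e g (e y) = e (MulAut.conjNormal g y) := by simp [Φ]

/-- the elements which act as permutations -/
def PP : Subgroup X := (MulAut.conjNormal : Perm (Fin n) →* MulAut (A n)).range.comap (Φ e)

omit [Finite X] in
theorem Φ_N (y : N) : Φ e y = MulAut.conjNormal (e y).1 := MulEquiv.ext fun z => by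
  obtain ⟨z, rfl⟩ := e.surjective z
  rw [Φ_ap, MulAut.conjNormal_val, MulAut.conjNormal_val, MulAut.conj_apply, MulAut.conj_apply, map_mul, map_mul,
    map_inv]

omit [Finite X] in
theorem mem_PP {g : X} (h : ∃ σ : Perm (Fin n), ∀ x, (Φ e g x).1 = σ * x.1 * σ⁻¹) : g ∈ PP e :=
  h.imp fun σ hσ => MulEquiv.ext fun y => Subtype.ext (by rw [hσ]; simp)

theorem cn_inj (h4 : 4 ≤ n) : Function.Injective (MulAut.conjNormal : Perm (Fin n) →* MulAut (A n)) := by
  rw [injective_iff_map_eq_one]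
  intro g hg
  refine H29.eq_one_of_centralizes_alt (by simpa) fun y hy => ?_
  simpa using congrArg (fun φ : MulAut (A n) => (φ ⟨y, hy⟩).1) hg

omit [Finite X] in
theorem ext (h4 : 4 ≤ n) (hC : 𝐂(N) = ⊥) (h : ∀ g, g ∈ PP e) {x : X} (hx : x ∉ N) :
    ∃ e' : X ≃* Perm (Fin n), (∀ y : N, e' y = e y) ∧ Perm.sign (e' x) = -1 := by
  have hι := cn_inj h4
  let F : X →* Perm (Fin n) := (MonoidHom.ofInjective hι).symm.toMonoidHom.comp ((Φ e).codRestrict _ h)
  have F1 : ∀ g, MulAut.conjNormal (F g) = Φ e g := fun g =>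
    congrArg Subtype.val ((MonoidHom.ofInjective hι).apply_symm_apply ((Φ e).codRestrict _ h g))
  have F2 : ∀ y : N, F y = e y := fun y => hι (by rw [F1, Φ_N])
  have hF : Function.Injective F := by
    rw [injective_iff_map_eq_one]
    intro g hg
    rw [← mem_bot, ← hC, mem_centralizer_iff]
    intro y hy
    have h5 := Φ_ap e g ⟨y, hy⟩
    rw [← F1, hg, map_one, MulAut.one_apply] at h5
    exact (mul_inv_eq_iff_eq_mul.1 (congrArg Subtype.val (e.injective h5)).symm).symm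
  have F3 : ∀ σ, Perm.sign σ = 1 → ∃ y : N, F y = σ := fun σ hσ =>
    ⟨e.symm ⟨σ, hσ⟩, by rw [F2, e.apply_symm_apply]⟩
  have s : Perm.sign (F x) = -1 := (Int.units_eq_one_or _).resolve_left fun k => by
    obtain ⟨y, hy⟩ := F3 _ k
    exact hx (hF hy ▸ y.2)
  refine ⟨MulEquiv.ofBijective F ⟨hF, fun σ => ?_⟩, F2, s⟩
  rcases Int.units_eq_one_or (Perm.sign σ) with k | k
  · exact (F3 σ k).elim fun y hy => ⟨y, hy⟩
  · obtain ⟨y, hy⟩ := F3 (σ * (F x)⁻¹) (by rw [map_mul, map_inv, k, s]; rfl)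
    exact ⟨y * x, by rw [map_mul, hy, inv_mul_cancel_right]⟩

end

section
variable {N : Subgroup X} [N.Normal] (e : N ≃* A 6)

omit [Finite X] in
theorem sq_PP (g : X) : g * g ∈ PP e :=
  mem_PP e (H29.exists_perm_of_isThreeCycle (by simp) _ (by rw [map_mul]; exact sq3 _))

omit [Finite X] in
theorem odd_PP {g : X} (h : Odd (orderOf g)) : g ∈ PP e := by
  obtain ⟨j, hj⟩ := h
  have : g = (g * g) ^ (j + 1) := by
    rw [← pow_two, ← pow_mul, show 2 * (j + 1) = orderOf g + 1 by omega, pow_succ, pow_orderOf_eq_one, one_mul]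
  exact this ▸ pow_mem (sq_PP e g) _

include e in
theorem three {x h k : X} (hk : k ∈ N) (ho : Odd (orderOf h)) (hx : h * x * h⁻¹ = x) (h1 : h * k * h⁻¹ ≠ k)
    (h3 : h ^ 3 * k * (h ^ 3)⁻¹ = k) : ∃ c : N, orderOf c = 3 ∧ x * c * x⁻¹ = c := by
  obtain ⟨σ, hσ⟩ := odd_PP e ho
  have hι := cn_inj (n := 6) (by norm_num)
  have o : Odd (orderOf σ) := by
    rw [← orderOf_injective _ hι, hσ]; exact ho.of_dvd_nat (orderOf_map_dvd _ _)
  have s : Perm.sign σ = 1 := (Int.units_eq_one_or _).resolve_right fun k => by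
    have := congrArg Perm.sign (pow_orderOf_eq_one σ)
    rw [map_pow, k, o.neg_one_pow, map_one] at this
    exact absurd this (by decide)
  obtain ⟨y, hy⟩ := e.surjective ⟨σ, s⟩
  have e1 : Φ e y = Φ e h := by rw [Φ_N, hy, hσ]
  have e2 : ∀ (j : ℕ) (z : N), y ^ j * z * (y ^ j)⁻¹ = MulAut.conjNormal (h ^ j) z := fun j z => e.injective (by
    rw [← Φ_ap, map_pow (Φ e), ← e1, ← map_pow, ← Subgroup.coe_pow, Φ_ap, MulAut.conjNormal_val, MulAut.conj_apply])
  have e3 : MulAut.conjNormal x y = y := e.injective (Subtype.ext (hι (by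
    rw [← Φ_N, ← Φ_N, MulAut.conjNormal_apply, map_mul, map_mul, e1, ← map_mul, ← map_mul,
      ← mul_inv_eq_iff_eq_mul.1 hx, mul_inv_cancel_right])))
  have oy : 3 ∣ orderOf y := by
    by_contra n
    have c : Commute (y ^ 3) ⟨k, hk⟩ := mul_inv_eq_iff_eq_mul.1 ((e2 3 _).trans (Subtype.ext h3))
    obtain ⟨j, hj⟩ := exists_pow_eq_self_of_coprime (x := y) (n := 3)
      ((Nat.Prime.coprime_iff_not_dvd Nat.prime_three).2 n)
    have c1 := c.pow_left j
    rw [hj] at c1
    have := e2 1 ⟨k, hk⟩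
    rw [pow_one, pow_one, c1.eq, mul_inv_cancel_right] at this
    exact h1 (congrArg Subtype.val this).symm
  refine ⟨y ^ (orderOf y / 3), orderOf_pow_orderOf_div (orderOf_pos y).ne' oy, ?_⟩
  have := congrArg Subtype.val ((map_pow (MulAut.conjNormal x) y (orderOf y / 3)).trans (by rw [e3]))
  exact this

end

end DS2

open DS2

theorem Gm.not168 {x p q k : X} {K N : Subgroup X} (m : Gm x p q k K) [N.Normal] (hp : p ∈ N)
    (hq : q ∈ N) (hK : N ≤ K) (hC : 𝐂(N) = ⊥) [IsSimpleGroup N] : Nat.card N ≠ 168 := fun h => by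
  have : Fact (Nat.Prime 7) := ⟨by norm_num⟩
  let f : X →* Perm (Sylow 7 N) := (MulAction.toPermHom (MulAut N) (Sylow 7 N)).comp MulAut.conjNormal
  have sm : ∀ (d : N) (P : Sylow 7 N), f d P = d • P := fun d P => by
    simp only [f, MonoidHom.comp_apply, MulAut.conjNormal_val, MulAction.toPermHom_apply, MulAction.toPerm_apply]; rfl
  have free : ∀ d ∈ N, d ^ 4 = 1 → ∀ P, f d P = P → d = 1 := fun d hd d4 P e => by
    have m1 := Sylow.smul_eq_iff_mem_normalizer.1 ((sm ⟨d, hd⟩ P).symm.trans e)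
    have c := (normalizer (P : Set N)).card_mul_index
    rw [← Sylow.card_eq_index_normalizer, (H4.G168.seven h P).1, h] at c
    have o1 := orderOf_dvd_natCard _ m1
    rw [show Nat.card (normalizer (P : Set N)) = 21 by omega, orderOf_mk] at o1
    exact orderOf_eq_one_iff.1 (Nat.eq_one_of_dvd_coprimes (by norm_num) o1 (orderOf_dvd_of_pow_eq_one d4))
  have ip := inv_eq_of_mul_eq_one_right m.pp
  have iq := inv_eq_of_mul_eq_one_right m.qq
  have a2 : (p * q) ^ 2 = k := (pow_two _).trans m.hk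
  have a4 : (p * q) ^ 4 = 1 := by rw [show 4 = 2 * 2 from rfl, pow_mul, a2, pow_two, m.kk]
  have o4 : orderOf (p * q) = 4 := orderOf_eq_prime_pow (p := 2) (n := 1) (a2 ▸ m.k1) a4
  have cj : q * (p * q) * q⁻¹ = (p * q)⁻¹ := by rw [mul_inv_rev, ip, iq, mul_assoc, mul_assoc, m.qq, mul_one]
  obtain ⟨D, hD⟩ := dih o4 m.qq cj fun ⟨i, e⟩ => m.k1 (by
    have c : Commute q (p * q) := by
      conv_lhs => rw [← e]
      exact (Commute.refl _).zpow_left i
    rw [c.eq, mul_inv_cancel_right] at cj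
    rw [← m.hk]; exact mul_eq_one_iff_eq_inv.2 cj)
  have hk : k ∈ N := m.hk ▸ mul_mem (mul_mem hp hq) (mul_mem hp hq)
  have DN : ∀ d ∈ D, d ∈ N ∧ d ^ 4 = 1 ∧ ∀ c, c * p = p * c → c * q = q * c → c * d = d * c := fun d hd => by
    obtain ⟨i, rfl | rfl⟩ := (hD.mem d).1 hd
    · exact ⟨zpow_mem (mul_mem hp hq) i, by rw [← zpow_natCast, zpow_comm, zpow_natCast, a4, one_zpow],
        fun c c1 c2 => (Commute.mul_right c1 c2).zpow_right i⟩
    · exact ⟨mul_mem (zpow_mem (mul_mem hp hq) i) hq,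
        by rw [show 4 = 2 * 2 from rfl, pow_mul, pow_two (_ * q), hD.refl_mul_self, one_pow],
        fun c c1 c2 => ((Commute.mul_right c1 c2).zpow_right i).mul_right c2⟩
  have tr : ∀ P P' : Sylow 7 N, ∃ d ∈ D, f d P = P' := fun P P' => by
    obtain ⟨d, e⟩ := ((Nat.bijective_iff_injective_and_card fun d : D => f d P).2 ⟨fun a b e => by
      have := free _ (DN _ (a⁻¹ * b).2).1 (DN _ (a⁻¹ * b).2).2.1 P (by
        rw [Subgroup.coe_mul, map_mul, Perm.mul_apply, ← show f a P = f b P from e, Subgroup.coe_inv, map_inv]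
        simp)
      exact inv_mul_eq_one.1 (Subtype.ext this), by rw [hD.card, (H4.G168.seven h P).1]⟩).2 P'
    exact ⟨d, d.2, e⟩
  have J : ∀ y ∈ N, f y = 1 → y = 1 := fun y hy e => by
    rcases (inferInstance : (f.ker.subgroupOf N).Normal).eq_bot_or_eq_top with r | r
    · have t : (⟨y, hy⟩ : N) ∈ f.ker.subgroupOf N := e
      rw [r, mem_bot] at t
      exact congrArg Subtype.val t
    · have t : (⟨k, hk⟩ : N) ∈ f.ker.subgroupOf N := by rw [r]; exact mem_top _
      have : f k = 1 := t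
      exact absurd (free k hk (by rw [show 4 = 2 * 2 from rfl, pow_mul, pow_two k, m.kk, one_pow]) default
        (by rw [this]; rfl)) m.k1
  have A : ∀ c, c ∉ K → c * p = p * c → c * q = q * c → ∀ g P, f (g * c * g⁻¹) P ≠ P := fun c cK c1 c2 g P e => by
    have e1 : f c (f g⁻¹ P) = f g⁻¹ P := by
      conv_rhs => rw [← e]
      simp [map_mul]
    have e2 : f c = 1 := Equiv.ext fun P' => by
      obtain ⟨d, hd, rfl⟩ := tr (f g⁻¹ P) P'
      rw [← Perm.mul_apply, ← map_mul, (DN d hd).2.2 c c1 c2, map_mul, Perm.mul_apply, e1]; rfl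
    refine cK ((show c = 1 from mem_bot.1 (hC ▸ mem_centralizer_iff.2 fun y hy => ?_)) ▸ one_mem K)
    have := J (c * y * c⁻¹ * y⁻¹) (mul_mem (‹N.Normal›.conj_mem y hy c) (inv_mem hy)) (by simp [map_mul, e2])
    exact (mul_inv_eq_iff_eq_mul.1 (mul_inv_eq_one.1 this)).symm
  have kq : k * q = q * k := by
    have := hD.conj_zpow 2
    rw [zpow_ofNat, a2, inv_eq_of_mul_eq_one_right m.kk] at this
    exact (mul_inv_eq_iff_eq_mul.1 this).symm
  have kp : k * p = p * k := by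
    have c : Commute k (p * q) := a2 ▸ (Commute.refl _).pow_left 2
    simpa [mul_assoc, m.qq] using (c.mul_right kq).eq
  have xk : x * k = k * x := m.hk ▸ (Commute.mul_right (Commute.mul_right m.xp m.xq) (Commute.mul_right m.xp m.xq))
  have A1 := A x m.xK m.xp m.xq
  have A2 := A (x * k) (fun e => m.xK ((K.mul_mem_cancel_right (hK hk)).1 e)) (Commute.mul_left m.xp kp)
    (Commute.mul_left m.xq kq)
  obtain ⟨h1, -, -, -, r1⟩ := m.h1
  obtain ⟨h2, -, -, r2, r3⟩ := m.h2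
  have r4 : h2 * (x * k) * h2⁻¹ = x * (q * k) := by rw [← conj_mul, r2, r3]
  obtain ⟨d, hd, e⟩ := tr default (f x default)
  have e1 : f (x * d) default = default := by
    rw [map_mul, Perm.mul_apply, e, ← Perm.mul_apply, ← map_mul, m.xx, map_one]; rfl
  have e2 : d * d = 1 := free _ (DN _ (mul_mem hd hd)).1 (DN _ (mul_mem hd hd)).2.1 default (by
    rw [map_mul, Perm.mul_apply, e, ← Perm.mul_apply, ← map_mul, ← (DN d hd).2.2 x m.xp m.xq, e1])
  have a3 : (p * q) ^ 3 = k * (p * q) := by rw [pow_succ, a2]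
  have z : ∀ i : ℤ, (p * q) ^ i = 1 ∨ (p * q) ^ i = p * q ∨ (p * q) ^ i = k ∨ (p * q) ^ i = k * (p * q) := fun i => by
    rw [← zpow_mod_orderOf, o4]
    rcases (show i % (4 : ℕ) = 0 ∨ i % (4 : ℕ) = 1 ∨ i % (4 : ℕ) = 2 ∨ i % (4 : ℕ) = 3 by omega) with r | r | r | r <;>
      rw [r] <;> simp [zpow_ofNat, a2, a3]
  have pqp : p * (q * k) * p⁻¹ = q := by
    rw [← kq, ← mul_assoc, ← kp, ← m.hk, ip]
    calc p * q * (p * q) * p * q * p = p * q * (p * q) * (p * q) * (p * q) * q⁻¹ := by group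
      _ = q := by rw [m.hk, mul_assoc k, m.hk, m.kk, one_mul, iq]
  have qpq : q * p * q⁻¹ = k * p := by
    rw [kp, ← m.hk, iq, ← mul_assoc, ← mul_assoc, ← mul_assoc, m.pp, one_mul]
  obtain ⟨i, rfl | rfl⟩ := (hD.mem d).1 hd <;> rcases z i with r | r | r | r <;> rw [r] at e1 e2
  · exact A1 1 _ (by simpa using e1)
  · exact m.k1 (m.hk.symm.trans e2)
  · exact A2 1 _ (by simpa using e1)
  · refine m.k1 (m.hk.symm.trans ?_)
    rwa [(Commute.mul_right kp kq).symm.mul_mul_mul_comm, m.kk, one_mul] at e2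
  · refine A2 (p * h2) default ?_
    rwa [show p * h2 * (x * k) * (p * h2)⁻¹ = p * (h2 * (x * k) * h2⁻¹) * p⁻¹ by group, r4, ← conj_mul, pqp, ← m.xp,
      mul_inv_cancel_right, ← one_mul q]
  · exact A1 h1 default (by rwa [r1, ← mul_one p, ← m.qq, ← mul_assoc p])
  · exact A2 h2 default (by rwa [r4, ← kq])
  · refine A1 (q * h1) default ?_
    rwa [show q * h1 * x * (q * h1)⁻¹ = q * (h1 * x * h1⁻¹) * q⁻¹ by group, r1, ← conj_mul, qpq, ← m.xq,
      mul_inv_cancel_right, ← mul_one p, ← m.qq, ← mul_assoc p, ← mul_assoc k]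

theorem Gm.alt {x p q k : X} {K N : Subgroup X} (m : Gm x p q k K) [N.Normal] (hp : p ∈ N)
    (hq : q ∈ N) (hK : N ≤ K) (hC : 𝐂(N) = ⊥) {n : ℕ} (hn : n = 6 ∨ n = 7)
    (e : N ≃* alternatingGroup (Fin n)) : ∃ e' : X ≃* Perm (Fin n), (e' x).IsSwap := by
  have xN : x ∉ N := fun h => m.xK (hK h)
  have hk : k ∈ N := m.hk ▸ mul_mem (mul_mem hp hq) (mul_mem hp hq)
  have x2 : ∀ e' : X ≃* Perm (Fin n), e' x * e' x = 1 := fun e' => by rw [← map_mul, m.xx, map_one]
  rcases hn with rfl | rfl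
  · obtain ⟨h, ho, r1, r2, r3⟩ := m.h2
    have kq : k * (q * k) = q := by
      have iq := inv_eq_of_mul_eq_one_right m.qq
      have c : q * k * q = k⁻¹ := by
        rw [← m.hk, mul_inv_rev, mul_inv_rev, iq, inv_eq_of_mul_eq_one_right m.pp]
        simp [mul_assoc, m.qq]
      rw [← mul_inv_cancel_right (q * k) q, c, mul_inv_cancel_left, iq]
    obtain ⟨c, c3, hc⟩ := three e hk ho r3 (fun t => m.k1 (by
        have q1 : q = 1 := mul_eq_right.1 (r2.symm.trans t)
        rw [← m.hk, q1, mul_one, m.pp])) (by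
      rw [show h ^ 3 * k * (h ^ 3)⁻¹ = h * (h * (h * k * h⁻¹) * h⁻¹) * h⁻¹ by simp [pow_succ, mul_assoc],
        r2, show h * (q * k) * h⁻¹ = h * q * h⁻¹ * (h * k * h⁻¹) by group, r1, r2, kq, r1])
    obtain ⟨e, he⟩ : ∃ e : N ≃* A 6, (e c).1.IsThreeCycle := by
      by_cases t : (e c).1.IsThreeCycle
      · exact ⟨e, t⟩
      obtain ⟨ω, hω⟩ := H58.N9.outer
      obtain ⟨g, hg⟩ := isConj_iff.1 (H72.isConj_alt_six (x := e c)
        (y := ⟨H58.N9.d1 * H58.N9.d2, Perm.mem_alternatingGroup.2 (by decide)⟩) (by rw [e.orderOf_eq, c3])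
        (orderOf_eq_prime (by decide) (by decide)) (iff_of_false t fun k => absurd k.card_support (by decide)))
      refine ⟨(e.trans (MulAut.conj g)).trans ω, ?_⟩
      rw [MulEquiv.trans_apply, hω ((e.trans (MulAut.conj g)) c) (congrArg Subtype.val hg)]
      exact card_support_eq_three_iff.1 (by decide)
    have NP : ∀ y ∈ N, y ∈ PP e := fun y hy => ⟨_, (Φ_N e ⟨y, hy⟩).symm⟩
    have xP : x ∈ PP e := mem_PP e (H29.exists_perm_of_isThreeCycle (by simp) _
      (H72.isThreeCycle_of_fix _ (x := e c) (by rw [e.orderOf_eq, c3]) (by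
        rw [Φ_ap]; exact congrArg e (Subtype.ext hc))))
    obtain ⟨e', h1, h2⟩ := DS2.ext e (by norm_num) hC (fun g => by
      obtain ⟨g1, -, g2, -, o1, o2, rfl⟩ := exists_parts g
      obtain ⟨a, -, l⟩ := m.syl.exists_cj_le o2.isPGroup le_top
      have := (closure_le (PP e)).2 (by
        rintro _ (rfl | rfl | rfl)
        exacts [xP, NP _ hp, NP _ hq]) (l (cj_mem a (mem_zpowers g2)))
      refine mul_mem (odd_PP e o1) ?_
      rw [show g2 = (a⁻¹ * (a * g2 * a⁻¹)) * (a⁻¹ * (a * g2 * a⁻¹)) * (a * g2 * a⁻¹)⁻¹ * (a * a) by group]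
      exact mul_mem (mul_mem (sq_PP e _) (inv_mem this)) (sq_PP e _)) xN
    obtain ⟨j, j1, j2, j3⟩ := inv_supp ((pow_two _).trans (x2 e')) h2
    obtain ⟨a, ha⟩ := fix3 (x2 e') he (by
      rw [← h1, ← map_mul, ← map_mul, mul_inv_eq_iff_eq_mul.1 hc])
    refine ⟨e', Perm.card_support_eq_two.1 ?_⟩
    have : (e' x).support.card < 6 := by
      simpa using (Finset.card_lt_iff_ne_univ (e' x).support).2 fun t =>
        Perm.mem_support.1 (by rw [t]; exact Finset.mem_univ a) ha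
    obtain ⟨i, rfl⟩ := j1
    omega
  · obtain ⟨e', -, h2⟩ := DS2.ext e (by norm_num) hC
      (fun g => mem_PP e (H29.exists_perm_of_aut (by simp) (by simp) _)) xN
    obtain ⟨j, ⟨i, rfl⟩, j2, j3⟩ := inv_supp ((pow_two _).trans (x2 e')) h2
    refine ⟨e', Perm.card_support_eq_two.1 (by_contra fun t => ?_)⟩
    obtain ⟨g, hg⟩ := isConj_iff.1 (isConj_of_sq (q := σ0) ((pow_two _).trans (x2 e')) (by decide)
      (by rw [show σ0.support.card = 6 by decide]; omega))
    have hx : (e'.trans (MulAut.conj g)) x = σ0 := hg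
    generalize e'.trans (MulAut.conj g) = E at hx
    have := key7 (r := E (p * q)) (by
      rw [← hx, ← map_mul, ← map_mul, (Commute.mul_right m.xp m.xq).eq])
    rw [← map_mul, m.hk, ← map_mul, m.kk, map_one, ← hx, ← map_mul] at this
    exact ns_swap E (Perm.card_support_eq_two.1 (this (by simpa using m.k1) rfl)) m.sol

end H1.A10
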