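import Cfsg.Agent.Lib.A10.T
import Cfsg.Agent.Lib.A10.Cj

/-! # Groups with a Sylow 2-subgroup `D₈ ≀ C₂` and the fusion pattern of `A₁₀`: vocabulary

See `blueprint/A10.md`. -/

set_option autoImplicit false
set_option maxRecDepth 100000

namespace H1.A10

open Subgroup Cfsg H69 H45 Gold T Equiv

universe v

variable {X : Type v} [Group X] {ι : T →* X}

/-- `T` is a Sylow 2-subgroup and involutions of type `2²` are not fused to those of type `2⁴` -/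
structure Fr (ι : T →* X) : Prop extends Sy ι where
  ty : ∀ {g x y}, Cj ι g x y → be x → be y

/-- the element `((9 10) (1 2) (3 4))` permuting three pairs of points -/
structure Ha (ι : T →* X) (h : X) : Prop where
  odd : Odd (orderOf h)
  c1 : Cj ι h u t
  c2 : Cj ι h t (u * t)
  c3 : Cj ι h t' t'
  c4 : Cj ι h f' f'
  c5 : Cj ι h u' (u * u')

/-- a three-cycle on `{1, 2, 3, 4}` -/
structure Hb (ι : T →* X) (h : X) : Prop where
  odd : Odd (orderOf h)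
  c1 : Cj ι h f t
  c2 : Cj ι h t (f * t)
  c3 : Cj ι h u' u'
  c4 : Cj ι h f' f'

/-- the full fusion pattern -/
structure Fu (ι : T →* X) : Prop extends Fr ι where
  h1 : ∃ h, Ha ι h
  h2 : ∃ h, Hb ι h
  sg : ∃ g, Cj ι g σ a

/-- the centraliser of `t` modulo `O(C(t)) ⟨f, t⟩` is the symmetric group of degree 6 or 7 -/
structure Pi (ι : T →* X) (k : ℕ) (π : 𝐂[ι t] →* Perm (Fin k)) : Prop where
  deg : k = 6 ∨ k = 7
  sj : Function.Surjective π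
  ker : ∀ g : 𝐂[ι t], π g = 1 ↔ (g : X) ∈ Oc (ι t) ⊔ F0.map ι
  sw : ∀ h : ι u ∈ 𝐂[ι t], (π ⟨ι u, h⟩).IsSwap

/-- The abstract configuration in `C(t) / O(C(t)) ⟨f, t⟩`: the Sylow 2-subgroup is `⟨x⟩ × ⟨p, q⟩`
with `⟨p, q⟩` dihedral of order eight and with central involution `k`. -/
structure Gm {Γ : Type v} [Group Γ] (x p q k : Γ) (K : Subgroup Γ) : Prop where
  xx : x * x = 1
  pp : p * p = 1
  qq : q * q = 1
  xp : x * p = p * x
  xq : x * q = q * x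
  hk : p * q * (p * q) = k
  kk : k * k = 1
  k1 : k ≠ 1
  syl : IsSylowIn 2 (closure {x, p, q}) ⊤
  idx : K.index = 2
  pK : p ∈ K
  qK : q ∈ K
  xK : x ∉ K
  od : Od (⊤ : Subgroup Γ) = ⊥
  h1 : ∃ h, Odd (orderOf h) ∧ h * p * h⁻¹ = k ∧ h * k * h⁻¹ = p * k ∧ h * x * h⁻¹ = x * p
  h2 : ∃ h, Odd (orderOf h) ∧ h * q * h⁻¹ = k ∧ h * k * h⁻¹ = q * k ∧ h * x * h⁻¹ = x
  sol : Group.IsSolvable 𝐂[x * k]
  W : ∃ W : Subgroup Γ, OddS W ∧ Od (K ⊓ 𝐂[q]) ≤ W ∧ Od (K ⊓ 𝐂[k]) ≤ W ∧ Od (K ⊓ 𝐂[q * k]) ≤ W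

/-- the join of the cores of the centralisers of the ten involutions of type `2²` in `A1` -/
def WW (ι : T →* X) : Subgroup X := ⨆ y : {y : T // y ∈ A1 ∧ be y}, Oc (ι y)

theorem Sy.cnt_le (s : Sy ι) {g : X} {P Q : T → Prop} [DecidablePred P] [DecidablePred Q]
    (h : ∀ x, P x → ∃ y, Q y ∧ Cj ι g x y) : cnt P ≤ cnt Q := by
  rw [cnt_eq, cnt_eq]; exact s.count h

instance (x y : T) : Decidable (x ∈ 𝐂[y]) := decidable_of_iff _ mem_cent1_iff.symm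
instance (P Q : Subgroup T) [DecidablePred (· ∈ P)] [DecidablePred (· ∈ Q)] (x : T) :
    Decidable (x ∈ P ⊓ Q) := inferInstanceAs (Decidable (x ∈ P ∧ x ∈ Q))
instance (x : T) : Decidable (x ∈ (⊤ : Subgroup T)) := isTrue trivial

theorem cent_t : 𝐂[t] = Bs := Subgroup.ext (by decide +kernel)
theorem cent_u : 𝐂[u] = P1 := Subgroup.ext (by decide +kernel)
theorem cent_f : 𝐂[f] = P0 := Subgroup.ext (by decide +kernel)
theorem al_a : al a := by decide +kernel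
theorem be_t : be t := by decide +kernel

namespace Fr

variable {g : X} {x y : T} (F : Fr ι)
include F

theorem ty_iff (p : Cj ι g x y) : be x ↔ be y := ⟨F.ty p, F.ty p.symm⟩
theorem ty' (p : Cj ι g x y) (h : al x) : al y :=
  ⟨F.sq p h.1, F.ne1 p h.2.1, fun e => h.2.2 (F.ty p.symm e)⟩
theorem not_ta : ¬ Cj ι g t a := fun p => al_a.2.2 (F.ty p be_t)
theorem nA1 : ι.range ≤ 𝐍(A1.map ι) := range_norm (by decide +kernel)
theorem ca : ι.range ≤ 𝐂[ι a] := range_cent a_comm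

/-- the base group is a Sylow 2-subgroup of `C(t)` -/
theorem sylt [Finite X] : IsSylowIn 2 (Bs.map ι) 𝐂[ι t] := by
  have := F.syl_cent (x := t) F.sylT trivial fun g _ y _ p => by
    rw [card_of, card_of]
    exact (by decide +kernel : ∀ y, be y → cnt (· ∈ ⊤ ⊓ 𝐂[y]) ≤ cnt (· ∈ ⊤ ⊓ 𝐂[t])) y (F.ty p be_t)
  rwa [top_inf_eq, top_inf_eq, cent_t] at this

end Fr

namespace Ha

variable {h : X} (p : Ha ι h)
include p

theorem c6 : Cj ι h (u * t) u := (p.c1.mul p.c2).congr rfl (by decide +kernel)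
theorem c7 : Cj ι h (t * u') (t * u') := (p.c2.mul p.c5).congr rfl (by decide +kernel)
theorem nA1 [Finite X] : h ∈ 𝐍(A1.map ι) := norm_of fun x hx => by
  obtain ⟨i, j, k, l, rfl⟩ := (by decide +kernel : ∀ x ∈ A1, ∃ i j k l : Fin 2,
    x = u ^ i.1 * t ^ j.1 * u' ^ k.1 * t' ^ l.1) x hx
  exact ⟨_, (by decide +kernel : ∀ i j k l : Fin 2,
    t ^ i.1 * (u * t) ^ j.1 * (u * u') ^ k.1 * t' ^ l.1 ∈ A1) i j k l,
    (((p.c1.pow i).mul (p.c2.pow j)).mul (p.c5.pow k)).mul (p.c3.pow l)⟩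

end Ha

theorem sig_odd {h : X} (ho : Odd (orderOf h)) : Odd (orderOf (ι σ * (h * ι σ))) := by
  have : ι σ = (ι σ)⁻¹ := by rw [← map_inv]; exact congrArg ι (by decide +kernel)
  rwa [← mul_assoc, show ι σ * h * ι σ = MulAut.conj (ι σ) h by rw [MulAut.conj_apply, ← this],
    MulEquiv.orderOf_eq]

/-- conjugation by `σ h σ` -/
theorem Cj.sig {h : X} {x y : T} (q : Cj ι h x y) :
    Cj ι (ι σ * (h * ι σ)) (σ * x * σ⁻¹) (σ * y * σ⁻¹) :=
  ((Cj.of' ((by decide +kernel : ∀ x, σ * (σ * x * σ⁻¹) * σ⁻¹ = x) x)).comp q).comp (Cj.of σ y)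

theorem Hb.c5 {h : X} (p : Hb ι h) : Cj ι h (f * t) f := (p.c1.mul p.c2).congr rfl (by decide +kernel)
theorem Hb.c6 {h : X} (p : Hb ι h) : Cj ι h t' t' :=
  ((p.c3.mul p.c4).mul (p.c3.mul p.c4)).congr (by decide +kernel) (by decide +kernel)

theorem le_WW {y : T} (h : y ∈ A1) (hb : be y) : Oc (ι y) ≤ WW ι :=
  le_iSup (fun y : {y : T // y ∈ A1 ∧ be y} => Oc (ι y)) ⟨y, h, hb⟩

theorem Fr.norm_WW [Finite X] (F : Fr ι) : 𝐍(A1.map ι) ≤ 𝐍(WW ι) :=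
  le_normalizer_of_cj_le fun g hg => by
    rw [WW, Subgroup.map_iSup]
    refine iSup_le fun y => ?_
    obtain ⟨y', h, p⟩ := img hg y.2.1
    exact p.oc_cj.le.trans (le_WW h (F.ty p y.2.2))

end H1.A10
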