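import Cfsg.Agent.Lib.A10.Lift

/-! # The fusion pattern -/

set_option autoImplicit false
set_option maxRecDepth 100000

namespace H1.A10

open Subgroup Cfsg H69 H45 Gold T Equiv

universe v

variable {X : Type v} [Group X] [Finite X] {ι : T →* X}

/-- images of involutions of type `2²` -/
theorem Fr.imB (F : Fr ι) {g : X} {K : Subgroup T} (h : ∀ c ∈ K, ∃ c' ∈ Bs, Cj ι g c c') {x : T}
    (hx : x ∈ K) (b : be x) : ∃ y ∈ beL, y ∈ Bs ∧ Cj ι g x y :=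
  (h x hx).imp fun _ e => ⟨(mem_beL _).1 (F.ty e.2 b), e⟩

/-- a three-cycle of odd order -/
theorem cyc_odd {g : X} {K : Subgroup T} (hg : g ∈ 𝐍(K.map ι)) {x y c : T} (p : Cj ι g x y)
    (q : Cj ι g y (x * y)) (e : y * (x * y) = x) (r : Cj ι g c c) :
    ∃ h ∈ 𝐍(K.map ι), Odd (orderOf h) ∧ Cj ι h x y ∧ Cj ι h y (x * y) ∧ Cj ι h c c := by
  obtain ⟨n, hn⟩ := exists_odd_pow g
  have q' := (p.mul q).congr rfl e
  exact ⟨_, pow_mem hg _, hn, p.pow4 q q' n, q.pow4 q' p n, r.fix_pow _⟩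

theorem gen_P1 {K : Subgroup T} (h1 : u ∈ K) (h2 : t ∈ K) (h3 : u' ∈ K) (h4 : f' ∈ K) : P1 ≤ K :=
  fun x hx => by
    obtain ⟨i, j, k, l, n, rfl⟩ := (by decide +kernel : ∀ x ∈ P1, ∃ i j k l n : Fin 2,
      x = u ^ i.1 * t ^ j.1 * u' ^ k.1 * f' ^ l.1 * (u' * f' * (u' * f')) ^ n.1) x hx
    exact mul_mem (mul_mem (mul_mem (mul_mem (pow_mem h1 _) (pow_mem h2 _)) (pow_mem h3 _))
      (pow_mem h4 _)) (pow_mem (mul_mem (mul_mem h3 h4) (mul_mem h3 h4)) _)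

theorem gen_P0 {K : Subgroup T} (h1 : f ∈ K) (h2 : t ∈ K) (h3 : u' ∈ K) (h4 : f' ∈ K) : P0 ≤ K :=
  fun x hx => by
    obtain ⟨i, j, k, l, n, rfl⟩ := (by decide +kernel : ∀ x ∈ P0, ∃ i j k l n : Fin 2,
      x = f ^ i.1 * t ^ j.1 * u' ^ k.1 * f' ^ l.1 * (u' * f' * (u' * f')) ^ n.1) x hx
    exact mul_mem (mul_mem (mul_mem (mul_mem (pow_mem h1 _) (pow_mem h2 _)) (pow_mem h3 _))
      (pow_mem h4 _)) (pow_mem (mul_mem (mul_mem h3 h4) (mul_mem h3 h4)) _)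

/-- the elements conjugated by `g` into `K` -/
def Into (ι : T →* X) (g : X) (K : Subgroup T) : Subgroup T where
  carrier := {x | ∃ y ∈ K, Cj ι g x y}
  one_mem' := ⟨1, one_mem _, Cj.one g⟩
  mul_mem' := fun ⟨_, a, p⟩ ⟨_, b, q⟩ => ⟨_, mul_mem a b, p.mul q⟩
  inv_mem' := fun ⟨_, a, p⟩ => ⟨_, inv_mem a, p.inv⟩

theorem Fr.ha (F : Fr ι) {g : X} (p : Cj ι g u t) : ∃ h, Ha ι h := by
  obtain ⟨g, -, p, hg⟩ := F.ext (Y := ⊤) (R := P1) (by rw [top_inf_eq]; exact F.sylt) trivial p le_top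
    (by decide +kernel)
  obtain ⟨y1, m1, b1, p1⟩ := F.imB hg (x := t) (by decide +kernel) (by decide +kernel)
  obtain ⟨y3, m3, b3, p3⟩ := F.imB hg (x := u') (by decide +kernel) (by decide +kernel)
  obtain ⟨y4, m4, b4, p4⟩ := F.imB hg (x := f') (by decide +kernel) (by decide +kernel)
  have p2 := (p3.mul p4).mul (p3.mul p4)
  obtain ⟨e1, e2, e3, e4⟩ := (by decide +kernel : ∀ y1 ∈ beL, y1 ∈ Bs → be (t * y1) → ∀ y3 ∈ beL,
    y3 ∈ Bs → y1 * y3 = y3 * y1 → be (t * y3) → ∀ y4 ∈ beL, y4 ∈ Bs → y1 * y4 = y4 * y1 →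
    be (y3 * y4 * (y3 * y4)) → y3 * y4 * (y3 * y4) ≠ t →
    (y1 = u ∨ y1 = u * t) ∧ y3 * y4 * (y3 * y4) = t' ∧ y3 ∈ P1 ∧ y4 ∈ P1) y1 m1 b1
    (F.ty (p.mul p1) (by decide +kernel)) y3 m3 b3 (F.comm p1 p3 (by decide +kernel))
    (F.ty (p.mul p3) (by decide +kernel)) y4 m4 b4 (F.comm p1 p4 (by decide +kernel))
    (F.ty p2 (by decide +kernel)) (F.ne' p2 p (by decide +kernel))
  have n : g ∈ 𝐍(P1.map ι) := norm_of (gen_P1 (K := Into ι g P1) ⟨t, by decide +kernel, p⟩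
    ⟨y1, by rcases e1 with rfl | rfl <;> decide +kernel, p1⟩ ⟨_, e3, p3⟩ ⟨_, e4, p4⟩)
  replace p2 : Cj ι g t' t' := p2.congr (by decide +kernel) e2
  obtain ⟨h, n, ho, c1, c2, c3⟩ : ∃ h ∈ 𝐍(P1.map ι), Odd (orderOf h) ∧ Cj ι h u t ∧ Cj ι h t (u * t) ∧
      Cj ι h t' t' := by
    rcases e1 with rfl | rfl
    · exact cyc_odd (mul_mem (map_norm (P := Bs) (by decide +kernel)
        (mem_map_of_mem ι (x := f) (by decide +kernel))) n) (p.comp (Cj.of' (by decide +kernel)))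
        (p1.comp (Cj.of' (by decide +kernel))) (by decide +kernel) (p2.comp (Cj.of' (by decide +kernel)))
    · exact cyc_odd n p p1 (by decide +kernel) p2
  obtain ⟨y, hy, q⟩ := img n (x := f') (by decide +kernel)
  obtain ⟨w, hw, r⟩ := img n (x := t * u') (by decide +kernel)
  have c4 : Cj ι h f' f' := ((by decide +kernel : ∀ y ∈ P1, be y → al (t * y) → al (u * t * y) →
    y ≠ t' → y = f' ∨ y = f' * t') y hy (F.ty q (by decide +kernel)) (F.ty' (c1.mul q) (by decide +kernel))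
    (F.ty' (c2.mul q) (by decide +kernel)) (F.ne' q c3 (by decide +kernel))).elim (· ▸ q)
    fun e => F.odd_fix ho c3 (e ▸ q)
  have c5 : Cj ι h (t * u') (t * u') := ((by decide +kernel : ∀ y ∈ P1, al y → be (t * y) →
    be (u * t * y) → y = t * u' ∨ y = t * u' * t') w hw (F.ty' r (by decide +kernel))
    (F.ty (c1.mul r) (by decide +kernel)) (F.ty (c2.mul r) (by decide +kernel))).elim (· ▸ r)
    fun e => F.odd_fix ho c3 (e ▸ r)
  exact ⟨h, ho, c1, c2, c3, c4, (c2.mul c5).congr (by decide +kernel) (by decide +kernel)⟩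

theorem Fr.hb (F : Fr ι) {g : X} (p : Cj ι g f t) : ∃ h, Hb ι h := by
  obtain ⟨g, -, p, hg⟩ := F.ext (Y := ⊤) (R := P0) (by rw [top_inf_eq]; exact F.sylt) trivial p le_top
    (by decide +kernel)
  obtain ⟨y1, m1, b1, p1⟩ := F.imB hg (x := t) (by decide +kernel) (by decide +kernel)
  obtain ⟨y3, m3, b3, p3⟩ := F.imB hg (x := u') (by decide +kernel) (by decide +kernel)
  obtain ⟨y4, m4, b4, p4⟩ := F.imB hg (x := f') (by decide +kernel) (by decide +kernel)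
  have p2 := (p3.mul p4).mul (p3.mul p4)
  obtain ⟨e1, e2, e3, e4⟩ := (by decide +kernel : ∀ y1 ∈ beL, y1 ∈ Bs → be (t * y1) → ∀ y3 ∈ beL,
    y3 ∈ Bs → al (y1 * y3) → al (t * y3) → ∀ y4 ∈ beL, y4 ∈ Bs → al (y1 * y4) → al (t * y4) →
    al (t * y1 * y3) → al (t * y1 * y4) → be (y3 * y4 * (y3 * y4)) →
    (y1 = f ∨ y1 = f * t) ∧ y3 * y4 * (y3 * y4) = t' ∧ y3 ∈ P0 ∧ y4 ∈ P0) y1 m1 b1
    (F.ty (p.mul p1) (by decide +kernel)) y3 m3 b3 (F.ty' (p1.mul p3) (by decide +kernel))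
    (F.ty' (p.mul p3) (by decide +kernel)) y4 m4 b4 (F.ty' (p1.mul p4) (by decide +kernel))
    (F.ty' (p.mul p4) (by decide +kernel)) (F.ty' ((p.mul p1).mul p3) (by decide +kernel))
    (F.ty' ((p.mul p1).mul p4) (by decide +kernel)) (F.ty p2 (by decide +kernel))
  have n : g ∈ 𝐍(P0.map ι) := norm_of (gen_P0 (K := Into ι g P0) ⟨t, by decide +kernel, p⟩
    ⟨y1, by rcases e1 with rfl | rfl <;> decide +kernel, p1⟩ ⟨_, e3, p3⟩ ⟨_, e4, p4⟩)
  replace p2 : Cj ι g t' t' := p2.congr (by decide +kernel) e2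
  obtain ⟨h, n, ho, c1, c2, c3⟩ : ∃ h ∈ 𝐍(P0.map ι), Odd (orderOf h) ∧ Cj ι h f t ∧ Cj ι h t (f * t) ∧
      Cj ι h t' t' := by
    rcases e1 with rfl | rfl
    · exact cyc_odd (mul_mem (map_norm (P := Bs) (by decide +kernel)
        (mem_map_of_mem ι (x := u) (by decide +kernel))) n) (p.comp (Cj.of' (by decide +kernel)))
        (p1.comp (Cj.of' (by decide +kernel))) (by decide +kernel) (p2.comp (Cj.of' (by decide +kernel)))
    · exact cyc_odd n p p1 (by decide +kernel) p2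
  have ho2 : Odd (orderOf (h * h)) := odd_mul ho ho rfl
  have k0 : ∀ x ∈ [u', u' * t', f', f' * t'], ∃ y ∈ [u', u' * t', f', f' * t'], Cj ι h x y := fun x hx => by
    obtain ⟨a1, a2, a3, a4, a5⟩ := (by decide +kernel : ∀ x ∈ [u', u' * t', f', f' * t'], x ∈ P0 ∧ be x ∧
      al (f * x) ∧ al (t * x) ∧ x ≠ t') x hx
    obtain ⟨y, hy, q⟩ := img n a1
    exact ⟨y, (by decide +kernel : ∀ y ∈ P0, be y → al (t * y) → al (f * t * y) → y ≠ t' →
      y ∈ [u', u' * t', f', f' * t']) y hy (F.ty q a2) (F.ty' (c1.mul q) a3) (F.ty' (c2.mul q) a4)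
      (F.ne' q c3 a5), q⟩
  have k1 : ∀ x ∈ [u', u' * t', f', f' * t'], Cj ι h x x := fun x hx => by
    obtain ⟨y, hy, q⟩ := k0 x hx
    obtain ⟨w, hw, r⟩ := k0 y hy
    by_cases c : x * y = y * x
    · exact ((by decide +kernel : ∀ x ∈ [u', u' * t', f', f' * t'], ∀ y ∈ [u', u' * t', f', f' * t'],
        x * y = y * x → y = x ∨ y = x * t') x hx y hy c).elim (· ▸ q) fun e => F.odd_fix ho c3 (e ▸ q)
    · exact Sy.odd_sq ho (((by decide +kernel : ∀ x ∈ [u', u' * t', f', f' * t'],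
        ∀ y ∈ [u', u' * t', f', f' * t'], ∀ w ∈ [u', u' * t', f', f' * t'], x * y ≠ y * x →
        y * w ≠ w * y → w = x ∨ w = x * t') x hx y hy w hw c (F.ncomm q r c)).elim (· ▸ q.comp r)
        fun e => F.odd_fix ho2 (c3.comp c3) (e ▸ q.comp r))
  exact ⟨h, ho, c1, c2, k1 _ (by simp), k1 _ (by simp)⟩

theorem Fr.fu (F : Fr ι) (hX : ∀ N : Subgroup X, N.index ≠ 2) : Fu ι := by
  obtain ⟨h, p⟩ : ∃ h, Ha ι h := by
    obtain ⟨g, y, m, q, -, r⟩ := F.thompson hX (sgn M1 (by decide +kernel)) (y := u) (by decide +kernel)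
    have := F.cnt_le (g := g) (P := fun c => c * u = u * c ∧ be c) (Q := fun c => c * y = y * c ∧ be c)
      fun c hc => (r c hc.1).imp fun _ e => ⟨⟨F.comm e q hc.1, F.ty e hc.2⟩, e⟩
    obtain ⟨s, e⟩ := (by decide +kernel : ∀ y ∈ M1, be y → cnt (fun c => c * u = u * c ∧ be c) ≤
      cnt (fun c => c * y = y * c ∧ be c) → ∃ s, s * y * s⁻¹ = t) y (sgn_eq_one.1 m)
      (F.ty q (by decide +kernel)) this
    exact F.ha (q.comp (Cj.of' e))
  obtain ⟨k, q⟩ : ∃ h, Hb ι h := by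
    obtain ⟨g, y, m, q, -, -⟩ := F.thompson hX (sgn R1 (by decide +kernel)) (y := f) (by decide +kernel)
    have b := F.ty q (by decide +kernel)
    obtain ⟨n, -, e⟩ := p.inA1 (M := ⊤) le_top trivial ((by decide +kernel : ∀ y ∈ R1, be y → y ∈ A1) y
      (sgn_eq_one.1 m) b) (be_inv y b).2
    exact F.hb (q.comp (e.elim (·.2) fun e => absurd b e.1.2.2))
  obtain ⟨g, y, m, r, -, -⟩ := F.thompson hX (sgn Bs (by decide +kernel)) (y := σ) (by decide +kernel)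
  obtain ⟨n, -, e⟩ := p.al_base (M := ⊤) le_top trivial q trivial (sgn_eq_one.1 m)
    (F.ty' r (by decide +kernel))
  exact ⟨F, ⟨h, p⟩, ⟨k, q⟩, _, r.comp e⟩

theorem Fr.sylA1 (F : Fr ι) : IsSylowIn 2 (A1.map ι) (𝐍(A1.map ι) ⊓ 𝐂(A1.map ι)) := by
  have := (F.sylIn F.nA1).inf_normal (N := 𝐍(A1.map ι) ⊓ 𝐂(A1.map ι)) inf_le_left
    (le_normalizer_inf le_normalizer (normalizer_le_normalizer_centralizer _))
  convert this using 1
  refine le_antisymm (le_inf (map_mono le_top) (le_inf le_normalizer (ea_cent (ea_map (by decide +kernel))))) ?_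
  rintro _ ⟨⟨x, -, rfl⟩, -, h⟩
  exact mem_map_of_mem ι ((by decide +kernel : ∀ x, (∀ y ∈ [u, t, u', t'], y * x = x * y) → x ∈ A1) x
    fun y hy => F.inj (by
      rw [map_mul, map_mul]
      exact h _ (mem_map_of_mem ι ((by decide +kernel : ∀ y ∈ [u, t, u', t'], y ∈ A1) y hy))))

theorem Fr.no2 (F : Fr ι) {g k : X} (p : Cj ι g (t * u') a) (q : Cj ι k (t * f') a) (N : Subgroup X) :
    N.index ≠ 2 := fun hN => by
  have := normal_of_index_eq_two hN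
  have cj : ∀ {g x y}, Cj ι g x y → ι y ∈ N → ι x ∈ N := fun r m => r.symm.eq ▸ this.conj_mem _ m _
  have sq : ∀ x y, x * x = y → ι y ∈ N := fun x y e => by
    rw [← e, map_mul]; exact mul_self_mem_of_index_two hN _
  have mt : ι t ∈ N := sq (u * f) t (by decide +kernel)
  have ma : ι a ∈ N := sq (u * f * (u' * f')) a (by decide +kernel)
  have m1 : ι u' ∈ N := (mul_mem_cancel_left mt).1 (map_mul ι t u' ▸ cj p ma)
  have m2 : ι f' ∈ N := (mul_mem_cancel_left mt).1 (map_mul ι t f' ▸ cj q ma)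
  have m3 : ι u ∈ N := cj (Cj.of' (t := σ) (by decide +kernel)) m1
  have od : ∀ c : X, Odd (orderOf c) → c ∈ N := fun c ⟨m, e⟩ => by
    have := pow_mem (mul_self_mem_of_index_two hN c) (m + 1)
    rwa [← pow_two, ← pow_mul, show 2 * (m + 1) = 2 * m + 1 + 1 from rfl, ← e, pow_succ,
      pow_orderOf_eq_one, one_mul] at this
  obtain ⟨h, r⟩ : ∃ h, Ha ι h := by
    obtain ⟨g, -, p, r⟩ := F.extZ (Y := ⊤) le_top a_comm trivial p
    obtain ⟨y, r1⟩ := r t (by decide +kernel)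
    have r2 : Cj ι g u' (y⁻¹ * a) := (r1.inv.mul p).congr (by decide +kernel) rfl
    obtain ⟨s, e⟩ := (by decide +kernel : ∀ y, be y → be (y⁻¹ * a) → ∃ s, s * (y⁻¹ * a) * s⁻¹ = y) y
      (F.ty r1 be_t) (F.ty r2 (by decide +kernel))
    exact F.ha ((((Cj.of' (t := σ) (by decide +kernel)).comp r2).comp (Cj.of' e)).comp r1.symm)
  have c : ∀ x ∈ A1, Cj ι (ι σ * wX ι h [0, 64, 64, 64, 64]) x x := fun x hx => (r.cjW _ hx).comp (Cj.of'
    ((by decide +kernel : ∀ x ∈ A1, σ * wA [0, 64, 64, 64, 64] x * σ⁻¹ = x) x hx))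
  have c1 : ι σ * wX ι h [0, 64, 64, 64, 64] ∈ 𝐍(A1.map ι) ⊓ 𝐂(A1.map ι) :=
    ⟨norm_of fun x hx => ⟨x, hx, c x hx⟩, by
      rintro _ ⟨x, hx, rfl⟩; exact (mem_cent1_iff.1 (c x hx).cent).symm⟩
  obtain ⟨g1, -, g2, h2, o1, o2, e⟩ := exists_parts (ι σ * wX ι h [0, 64, 64, 64, 64])
  have h3 := zpowers_le.2 c1 h2
  obtain ⟨x, hx, rfl⟩ := F.sylA1.le_of_le_normalizer' o2.isPGroup (zpowers_le.2 h3) (zpowers_le.2 h3.1)
    (mem_zpowers g2)
  have mx : ι x ∈ N := gen_P1 (K := N.comap ι) m3 mt m1 m2 ((by decide +kernel : ∀ x ∈ A1, x ∈ P1) x hx)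
  have mw : wX ι h [0, 64, 64, 64, 64] ∈ N := by
    have := mul_self_mem_of_index_two hN (h * ι (T.of 64))
    simp only [wX, one_mul]
    refine mul_mem ?_ (mul_mem (od h r.odd) (show ι 1 ∈ N from map_one ι ▸ one_mem N))
    rw [mul_assoc]
    exact mul_mem this this
  have ms : ι σ ∈ N := (mul_mem_cancel_right mw).1 (e ▸ mul_mem (od g1 o1) mx)
  refine F.syl.not_dvd_relIndex_of_le (K := N) ?_ le_top (by rw [relIndex_top_right, hN])
  rintro _ ⟨y, rfl⟩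
  exact gen (K := N.comap ι) m3 (cj (Cj.of' (t := σ) (by decide +kernel)) m2) ms y

end H1.A10
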