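import Cfsg.Agent.Lib.A10.Orb
import Cfsg.Agent.Lib.U52.Gen

/-! # Lifting from quotients of the centraliser of `t` -/

set_option autoImplicit false
set_option maxRecDepth 100000

namespace H1.A10

open Subgroup Cfsg H69 H45 Gold T

universe v

variable {X : Type v} [Group X] [Finite X] {ι : T →* X}

/-- a 2-group acting on a group of odd order is a Sylow 2-subgroup of the product -/
theorem syl_sup {R P : Subgroup X} (hR : OddS R) (hP : IsPGroup 2 P) (hn : P ≤ 𝐍(R)) :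
    IsSylowIn 2 P (R ⊔ P) :=
  isSylowIn_of_not_dvd_relIndex hP le_sup_right fun h => hR (by
    have h1 := (mulEq_of_norm hn).card_dvd
    rw [← card_mul_index (P.subgroupOf (R ⊔ P)), Nat.card_congr (subgroupOfEquivOfLe le_sup_right).toEquiv,
      mul_comm (Nat.card R)] at h1
    exact h.trans (Nat.dvd_of_mul_dvd_mul_left Nat.card_pos h1))

/-- in a solvable group `O(C(P))` lies in the core -/
theorem od_cent_le {H P : Subgroup X} (hH : Group.IsSolvable H) (hP : IsPGroup 2 P) (h : P ≤ H) :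
    Od (H ⊓ 𝐂(P)) ≤ Od H := by
  have h2 := (H44.local_of_pLayer_eq_bot (H44.isPConstrained_iff_pLayer_eq_bot.mp
    (H23.isPConstrained_of_isSolvable (G := H) (p := 2))) (isPGroup_subgroupOf hP H)).2
  have h3 : 𝐂(P.subgroupOf H) = (H ⊓ 𝐂(P)).subgroupOf H := by
    ext g
    simp only [mem_subgroupOf, mem_inf, mem_centralizer_iff, SetLike.mem_coe, Subtype.ext_iff]
    exact ⟨fun k => ⟨g.2, fun y hy => k ⟨y, h hy⟩ hy⟩, fun k y hy => k.2 y hy⟩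
  change H44.coreOf 2 _ ≤ H44.coreOf 2 _
  rw [← H44.coreOf_subgroupOf_map (inf_le_left : H ⊓ 𝐂(P) ≤ H), ← h3, H44.coreOf_def 2 H]
  exact Subgroup.map_mono h2

namespace Fr

variable (F : Fr ι) {P : Subgroup T}
include F

theorem bs_le : Bs.map ι ≤ 𝐂[ι t] := F.sylt.le

theorem sylJ (hP : P ≤ Bs) : IsSylowIn 2 (P.map ι) (Oc (ι t) ⊔ P.map ι) :=
  syl_sup (Oc_odd _) (F.two_map P) (((map_mono hP).trans F.bs_le).trans (cent_norm_Oc _))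

theorem memJ (hP : P ≤ Bs) {x : T} (hx : x ∈ Bs) : ι x ∈ Oc (ι t) ⊔ P.map ι ↔ x ∈ P :=
  ⟨fun h => F.mem_map.1 (((F.sylJ hP).max (Bs.map ι ⊓ (Oc (ι t) ⊔ P.map ι))
    (le_inf (map_mono hP) le_sup_right) inf_le_right (F.two_map Bs).to_inf_left).le
    ⟨mem_map_of_mem ι hx, h⟩), fun h => mem_sup_right (mem_map_of_mem ι h)⟩

theorem oddJ (hP : P ≤ Bs) {g : X} (hg : g ∈ Oc (ι t) ⊔ P.map ι) (ho : Odd (orderOf g)) :
    g ∈ Oc (ι t) :=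
  mem_of_odd (F.two_map P) (((map_mono hP).trans F.bs_le).trans (cent_norm_Oc _)) hg ho

/-- centralisers of involutions in a quotient of `C(t)` by `O(C(t)) ⟨f, t⟩` -/
theorem lift {Γ : Type*} [Group Γ] {π : 𝐂[ι t] →* Γ}
    (ker : ∀ g : 𝐂[ι t], π g = 1 ↔ (g : X) ∈ Oc (ι t) ⊔ F0.map ι) {x : T} (hx : x ∈ Bs)
    (x2 : x * x = 1) (hf : ∀ y ∈ F0, y * x * (y * x) = 1 → (be (y * x) ↔ be x) →
      ∃ s ∈ F0, s * (y * x) * s⁻¹ = x) (h : ι x ∈ 𝐂[ι t]) {g : 𝐂[ι t]}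
    (c : π g * π ⟨ι x, h⟩ = π ⟨ι x, h⟩ * π g) : ∃ g' : 𝐂[ι t], (g' : X) ∈ 𝐂[ι x] ∧ π g' = π g := by
  have hF : F0 ≤ Bs := (by decide +kernel : ∀ x ∈ F0, x ∈ Bs)
  have m0 : (g : X) * ι x * (g : X)⁻¹ * (ι x)⁻¹ ∈ Oc (ι t) ⊔ F0.map ι :=
    (ker (g * ⟨ι x, h⟩ * g⁻¹ * ⟨ι x, h⟩⁻¹)).1 (by
      rw [map_mul, map_mul, map_mul, map_inv, map_inv, c]; group)
  let P : Subgroup T := F0 ⊔ zpowers x
  have hP : P ≤ Bs := sup_le hF (zpowers_le.2 hx)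
  have le1 : Oc (ι t) ⊔ F0.map ι ≤ Oc (ι t) ⊔ P.map ι := sup_le_sup_left (map_mono le_sup_left) _
  have xP : x ∈ P := mem_sup_right (mem_zpowers x)
  obtain ⟨l, hl, y, hy, e⟩ := F.into (F.sylJ hP) (c := g * ι x * (g : X)⁻¹)
    (by simpa using mul_mem (le1 m0) (mem_sup_right (mem_map_of_mem ι xP)))
    ((El2.of_mul_self (by rw [← map_mul, x2, map_one])).conj _)
  obtain ⟨r, hr, _, ⟨s, hs, rfl⟩, e0⟩ := (mem_sup_of_le_normalizer_left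
    (((map_mono hP).trans F.bs_le).trans (cent_norm_Oc _))).1 (inv_mem hl)
  obtain rfl := inv_eq_iff_eq_inv.1 e0
  have p : Cj ι (ι s * ((r * ι s)⁻¹ * g)) x (s * y * s⁻¹) :=
    Cj.comp (show Cj ι ((r * ι s)⁻¹ * g) x y by rw [Cj, ← e]; group) (Cj.of s y)
  rw [show ι s * ((r * ι s)⁻¹ * g) = ι s * (ι s)⁻¹ * (r⁻¹ * g) by group, mul_inv_cancel, one_mul] at p
  set w := s * y * s⁻¹
  have hw : w ∈ Bs := mul_mem (mul_mem (hP hs) (hP hy)) (inv_mem (hP hs))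
  have k1 : π ⟨r, Oc_le _ hr⟩ = 1 := (ker _).2 (mem_sup_left hr)
  have k2 : w * x⁻¹ ∈ F0 := (F.memJ hF (mul_mem hw (inv_mem hx))).1 (by
    rw [map_mul, map_inv, ← p.eq]
    refine (ker ((⟨r, Oc_le _ hr⟩⁻¹ * g) * ⟨ι x, h⟩ * (⟨r, Oc_le _ hr⟩⁻¹ * g)⁻¹ * ⟨ι x, h⟩⁻¹)).1 ?_
    simp only [map_mul, map_inv, k1, inv_one, one_mul, c]; group)
  obtain ⟨s', hs', e'⟩ := hf _ k2 (by rw [inv_mul_cancel_right]; exact F.sq p x2)
    (by rw [inv_mul_cancel_right]; exact (F.ty_iff p).symm)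
  rw [inv_mul_cancel_right] at e'
  have m' := F.bs_le (mem_map_of_mem ι (hF hs'))
  refine ⟨⟨ι s', m'⟩ * (⟨r, Oc_le _ hr⟩⁻¹ * g), (p.comp (Cj.of' e')).cent, ?_⟩
  rw [map_mul, map_mul, map_inv, k1, (ker ⟨ι s', m'⟩).2 (mem_sup_right (mem_map_of_mem ι hs'))]
  group

/-- the centraliser of the image of `u` -/
theorem lift_u {Γ : Type*} [Group Γ] {π : 𝐂[ι t] →* Γ}
    (ker : ∀ g : 𝐂[ι t], π g = 1 ↔ (g : X) ∈ Oc (ι t) ⊔ F0.map ι) (h : ι u ∈ 𝐂[ι t]) {g : 𝐂[ι t]}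
    (c : π g * π ⟨ι u, h⟩ = π ⟨ι u, h⟩ * π g) : ∃ g' : 𝐂[ι t], (g' : X) ∈ 𝐂[ι u] ∧ π g' = π g :=
  F.lift ker (by decide +kernel) (by decide +kernel) (by decide +kernel) h c

end Fr

end H1.A10
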