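import Cfsg.Agent.Lib.A10.S
import Cfsg.Agent.Lib.A10.Lift

/-! # Groups with a Sylow 2-subgroup of type `Ly`: vocabulary -/

set_option autoImplicit false
set_option maxRecDepth 100000

namespace H1.A10

open Subgroup Cfsg H69 H45 Gold S Equiv

universe v

variable {G : Type v} [Group G] {ι : S →* G}

/-- the fusion of involutions -/
structure Gf (ι : S →* G) : Prop extends Sy ι where
  sw : ∃ g, Cj ι g a z ∧ Cj ι g z a
  p5 : ∃ h ∈ 𝐂[ι z], Cj ι h y5 a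
  p2 : ∃ h ∈ 𝐂[ι z], Cj ι h y2 a

theorem mz (ι : S →* G) (x : S) : ι x ∈ 𝐂[ι z] := mem_c1 (z_comm x)

/-- `ι` with values in `C(z)` -/
def ιz (ι : S →* G) : S →* 𝐂[ι z] := ι.codRestrict _ (mz ι)

@[simp] theorem coe_ιz (x : S) : (ιz ι x : G) = ι x := rfl

/-- the centraliser of `z` modulo `O(C(z)) ⟨z⟩` is `A₁₀` or `A₁₁` -/
structure Gp (ι : S →* G) (m : ℕ) (π : 𝐂[ι z] →* Perm (Fin m)) : Prop extends Sy ι where
  deg : m = 10 ∨ m = 11
  sw : ∃ g, Cj ι g a z ∧ Cj ι g z a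
  rng : π.range = alternatingGroup (Fin m)
  ker : ∀ g : 𝐂[ι z], π g = 1 ↔ (g : G) ∈ Oc (ι z) ⊔ zpowers (ι z)
  s4 : ∀ x, T.be (ρ x) → (π (ιz ι x)).support.card = 4
  s8 : ∀ x, T.al (ρ x) → (π (ιz ι x)).support.card = 8

theorem Sy.sylz (s : Sy ι) : IsSylowIn 2 ((⊤ : Subgroup S).map ι) 𝐂[ι z] := s.sylIn (range_cent z_comm)

theorem zz (ι : S →* G) : ι z * ι z = 1 := by rw [← map_mul, z_sq, map_one]

end H1.A10
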