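import Cfsg.Agent.Lib.A10.GDef

/-! # A10, package GF1: fusion of involutions in a simple group with Sylow 2-subgroup `S` -/

set_option autoImplicit false
set_option maxRecDepth 100000

namespace H1.A10

open Subgroup Cfsg H69 H45 Gold S Equiv

universe v

variable {G : Type v} [Group G] [Finite G] {ι : S →* G} {m : ℕ} {π : 𝐂[ι z] →* Perm (Fin m)}

theorem Sy.extz (s : Sy ι) {g : G} {y : S} (p : Cj ι g y z) :
    ∃ k, Cj ι k y z ∧ ∀ c, c * y = y * c → ∃ c', Cj ι k c c' :=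
  (s.extZ (Y := ⊤) le_top z_comm trivial p).imp fun _ h => h.2

omit [Finite G] in
theorem cj_az : Cj ι (ι (of 1)) (a * z) a := Cj.of' w_facts.2.2.2.2.2.2.2.2.2.2.2.2

theorem Sy.gf_ab (s : Sy ι) {g : G} {y : S} (p : Cj ι g z y)
    (h : y = a ∨ y = a * z ∨ (y * a = a * y ∧ ∃ s, s * y * s⁻¹ = y * a)) : ∃ k, Cj ι k a z := by
  by_cases n : y = a
  · exact ⟨_, n ▸ p.symm⟩
  obtain rfl | ⟨c, r, e⟩ := h.resolve_left n
  · exact ⟨_, (p.comp cj_az).symm⟩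
  obtain ⟨k, q, h⟩ := s.extz p.symm
  obtain ⟨b, q'⟩ := h a c.symm
  obtain ⟨r', e'⟩ := f1 b (s.sq q' a_inv.1) (s.ne1 q' a_inv.2.1) (s.ne' q' q (Ne.symm n))
  exact ⟨_, (((q'.comp (Cj.of' e')).comp ((q.mul q').congr rfl (z_comm b).symm).symm).comp
    (Cj.of' e).symm).comp q⟩

theorem Sy.gf_tw (s : Sy ι) {g : G} {y w : S} (p : Cj ι g y z) (c : w * y = y * w) (e : w ^ 4 = z)
    (n : y ≠ z) : ∃ k, Cj ι k y z ∧ Cj ι k z a := by
  obtain ⟨k, q, h⟩ := s.extz p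
  obtain ⟨w', q'⟩ := h w c
  have r := (q'.pow 4).congr e rfl
  rcases f5 w' with d | d | d | d
  · exact absurd d (s.ne1 r z_ne)
  · exact absurd d (s.ne' r q n.symm)
  · exact ⟨k, q, r.congr rfl d⟩
  · exact ⟨_, q.comp (Cj.of_cent (mz ι (of 1))), (r.congr rfl d).comp cj_az⟩

theorem Sy.gf [IsSimpleGroup G] (s : Sy ι) : Gf ι := by
  have hG : ∀ N : Subgroup G, N.index ≠ 2 := fun N h => by
    rcases (normal_of_index_eq_two h).eq_bot_or_eq_top with rfl | rfl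
    · have := card_dvd_of_injective ι s.inj
      rw [card_eq, ← index_bot, h] at this
      exact absurd this (by decide)
    · rw [index_top] at h; exact absurd h (by decide)
  have hO : Od (⊤ : Subgroup G) = ⊥ :=
    (normalizer_eq_top_iff.1 (top_le_iff.1 (le_norm_Od ⊤))).eq_bot_or_eq_top.resolve_right fun e => by
      have := (Od_odd (⊤ : Subgroup G)).odd (e.ge (mem_top (ι z)))
      rw [s.ord2 z_sq z_ne] at this
      exact absurd this (by decide)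
  obtain ⟨g, y, p, n⟩ : ∃ g y, Cj ι g z y ∧ y ≠ z := by
    by_contra! h
    have hc : ∀ g, g * ι z = ι z * g := fun g => by
      obtain ⟨c, h1, o, h2, rfl⟩ := H13.PS.ZS' (H := ⊤) (v := ι z) trivial (zz ι) (s.ne z_ne) (fun g _ c => by
        obtain ⟨k, hk, x, -, e⟩ := s.into s.sylz (mem_cent1_iff.2 c) ((El2.of_mul_self (zz ι)).conj g)
        rw [h (k * g) x ((H13.PS.cj_cj' k g _).symm.trans e)] at e
        exact H13.PS.cj_inj' (e.trans (Cj.of_cent hk).eq.symm)) (g := g) trivial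
      rw [hO, mem_bot] at h2
      rw [h2, mul_one, h1]
    have : (zpowers (ι z)).Normal := ⟨fun x hx g => by
      rw [H13.PS.cjc.2 (mem_centralizer_iff.1 ((centralizer_zpowers _).ge (mem_cent1_iff.2 (hc g))) x hx).symm]
      exact hx⟩
    rcases this.eq_bot_or_eq_top with e | e
    · exact s.ne z_ne (zpowers_eq_bot.1 e)
    · rcases (mem_zpowers_of_mul_self (zz ι)).1 (e.ge (mem_top (ι a))) with d | d
      exacts [s.ne a_inv.2.1 d, a_inv.2.2 (s.inj d)]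
  obtain ⟨k, q⟩ : ∃ k, Cj ι k a z := by
    rcases f2 y (s.sq p z_sq) (s.ne1 p z_ne) n with h | h | h | ⟨w, c, e⟩
    exacts [s.gf_ab p (Or.inl h), s.gf_ab p (Or.inr (Or.inl h)), s.gf_ab p (Or.inr (Or.inr h)), by
      obtain ⟨k, q, h⟩ := s.extz p.symm
      obtain ⟨w', q'⟩ := h w c
      have r := (q'.mul q').congr e rfl
      exact s.gf_ab r (f3 w' _ rfl (s.sq r z_sq) (s.ne1 r z_ne) (s.ne' r q n.symm))]
  obtain ⟨l, l1, l2⟩ := s.gf_tw q w_facts.2.2.1 w_facts.1 a_inv.2.2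
  have key : ∀ y w : S, w * y = y * w → w ^ 4 = z → y * y = 1 → y ≠ 1 → y ≠ z →
      ∃ h ∈ 𝐂[ι z], Cj ι h y a := fun y w c e y2 y1 n => by
    obtain ⟨g, y', h1, p, -, h⟩ := s.thompson hG (sgn 𝐂[a] ca_mul) y2
    obtain ⟨w', q'⟩ := h w c
    obtain ⟨g', p'⟩ : ∃ g', Cj ι g' y z := by
      rcases f4 y' (s.sq p y2) (s.ne1 p y1) (mem_cent1_iff.1 (sgn_eq_one.1 h1)) w' (s.comm q' p c)
        (s.ne1 (q'.pow 4) (e ▸ z_ne)) with rfl | rfl | rfl
      exacts [⟨_, p⟩, ⟨_, p.comp l1⟩, ⟨_, (p.comp cj_az).comp l1⟩]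
    obtain ⟨k, k1, k2⟩ := s.gf_tw p' c e n
    exact ⟨_, (k2.comp l1).cent, k1.comp l2⟩
  obtain ⟨e2, e5, -, c2, c5, s2, s5, n2, n5, z2, z5, -⟩ := w_facts
  exact ⟨s, ⟨l, l1, l2⟩, key _ _ c5 e5 s5 n5 z5, key _ _ c2 e2 s2 n2 z2⟩

end H1.A10
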