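import Cfsg.Agent.Lib.A10.GDef
import Cfsg.Agent.Lib.A10.FUS

/-! # A10, package GF2: the quotient of `C(z)` by `O(C(z)) ⟨z⟩` -/

set_option autoImplicit false
set_option maxRecDepth 100000

namespace H1.A10

open Subgroup Cfsg H69 H45 Gold S Equiv

universe v

variable {G : Type v} [Group G] [Finite G] {ι : S →* G} {m : ℕ} {π : 𝐂[ι z] →* Perm (Fin m)}

theorem syl_z {v : G} (v2 : v * v = 1) {Y : Subgroup G} (hv : v ∈ Y)
    (h : ∀ g ∈ Y, El2 g → g ∈ Oc v ⊔ zpowers v) : IsSylowIn 2 (zpowers v) Y :=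
  ⟨zpowers_le.2 hv, (El2.of_mul_self v2).isPGroup, fun R h1 h2 h3 =>
    (syl_sup (Oc_odd v) (El2.of_mul_self v2).isPGroup
      ((zpowers_le.2 (mem_cent1_iff.2 rfl)).trans (cent_norm_Oc v))).max R h1
      (fun x hx => h x (h2 hx) (El2.of_mem h3 hx)) h3⟩

theorem pre_le {v : G} (v2 : v * v = 1) {Γ : Type*} [Group Γ] {π : 𝐂[v] →* Γ}
    (ker : ∀ g, π g = 1 ↔ (g : G) ∈ Oc v ⊔ zpowers v) {Y : Subgroup 𝐂[v]} (h1 : π.ker ≤ Y)
    (h : ∀ g ∈ Y, El2 g → π g = 1) : Y.map 𝐂[v].subtype ≤ Od (Y.map 𝐂[v].subtype) ⊔ zpowers v :=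
  H70.U52.burn2 v2 (syl_z v2
    ⟨⟨v, mem_cent1_iff.2 rfl⟩, h1 ((ker _).2 (mem_sup_right (mem_zpowers v))), rfl⟩ (by
      rintro _ ⟨g, hg, rfl⟩ e
      exact (ker g).1 (h g hg (e.imp fun _ e => Subtype.ext e)))) le_rfl le_normalizer (map_subtype_le Y)

theorem Gf.gp (F : Gf ι) (hm : ∀ {X : Type v} [Group X] [Finite X] {κ : T →* X}, Fr κ →
      Od (⊤ : Subgroup X) = ⊥ → (∀ N : Subgroup X, N.index ≠ 2) →
      ∃ m : ℕ, (m = 10 ∨ m = 11) ∧ ∃ e : X ≃* alternatingGroup (Fin m), ∀ x : T,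
        (T.be x → (e (κ x) : Perm (Fin m)).support.card = 4) ∧
        (T.al x → (e (κ x) : Perm (Fin m)).support.card = 8)) :
    ∃ (m : ℕ) (π : 𝐂[ι z] →* Perm (Fin m)), Gp ι m π := by
  have nz : zpowers (ι z) ≤ 𝐍(Oc (ι z)) := (zpowers_le.2 (mz ι z)).trans (cent_norm_Oc _)
  have : ((Oc (ι z) ⊔ zpowers (ι z)).subgroupOf 𝐂[ι z]).Normal := normal_subgroupOf_of_le_normalizer
    (H69.le_normalizer_sup (cent_norm_Oc _) (le_normalizer_of_le_centralizer (centralizer_zpowers _).ge))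
  let q := QuotientGroup.mk' ((Oc (ι z) ⊔ zpowers (ι z)).subgroupOf 𝐂[ι z])
  have sj : Function.Surjective q := QuotientGroup.mk'_surjective _
  have q1 : ∀ g, q g = 1 ↔ (g : G) ∈ Oc (ι z) ⊔ zpowers (ι z) := fun g => QuotientGroup.eq_one_iff g
  have kz : ∀ x : S, q (ιz ι x) = 1 ↔ ρ x = 1 := fun x => by
    rw [q1, ρ_one, ← F.inj.eq_iff, ← F.inj.eq_iff, map_one, ← mem_zpowers_of_mul_self (zz ι)]
    exact ⟨fun h => ((syl_z (zz ι) (mem_sup_right (mem_zpowers _)) fun _ h _ => h).max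
      (ι.range ⊓ (Oc (ι z) ⊔ zpowers (ι z))) (le_inf (zpowers_le.2 ⟨z, rfl⟩) le_sup_right) inf_le_right
      F.syl.isP.to_inf_left).le ⟨⟨x, rfl⟩, h⟩, mem_sup_right⟩
  let κ := ρ.liftOfRightInverse up ρ_up ⟨q.comp (ιz ι), fun x h => (kz x).2 h⟩
  have hκ : ∀ x, κ (ρ x) = q (ιz ι x) := fun x => ρ.liftOfRightInverse_comp_apply up ρ_up _ x
  have dn : ∀ {h x y} (hh : h ∈ 𝐂[ι z]), Cj ι h x y → Cj κ (q ⟨h, hh⟩) (ρ x) (ρ y) := fun hh p => by
    rw [Cj, hκ, hκ, ← map_inv, ← map_mul, ← map_mul]; exact congrArg q (Subtype.ext p)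
  have s : Sy κ := ⟨(injective_iff_map_eq_one _).2 fun x h => by
      obtain ⟨x, rfl⟩ := ρ_sj x
      exact (kz x).1 ((hκ x).symm.trans h), by
    have := F.sylz.subgroupOf_top.map q
    rw [map_top_of_surjective q sj] at this
    convert this
    refine le_antisymm ?_ ?_
    · rintro _ ⟨x, rfl⟩
      obtain ⟨x, rfl⟩ := ρ_sj x
      exact ⟨ιz ι x, ⟨x, trivial, rfl⟩, (hκ x).symm⟩
    · rintro _ ⟨g, ⟨x, -, e⟩, rfl⟩
      exact ⟨ρ x, (hκ x).trans (congrArg q (Subtype.ext e))⟩⟩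
  have fr : Fr κ := ⟨s, fun {g x y} p b => by
    by_contra n
    obtain ⟨h, rfl⟩ := sj g
    obtain ⟨x, rfl⟩ := ρ_sj x
    obtain ⟨y, rfl⟩ := ρ_sj y
    have y2 := ((sq_al y).1 ⟨s.sq p (T.be_inv _ b).1, s.ne1 p (T.be_inv _ b).2, n⟩).1
    obtain ⟨o, ho, c, hc, e⟩ := (mem_sup_of_le_normalizer_left nz).1
      ((q1 (h * ιz ι x * h⁻¹ * (ιz ι y)⁻¹)).1 (by
        rw [map_mul, map_mul, map_mul, map_inv, map_inv, ← hκ, ← hκ, p.eq, mul_inv_cancel]))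
    obtain ⟨w, w2, e'⟩ : ∃ w, w * w = 1 ∧ c * ι y = ι w := by
      rcases (mem_zpowers_of_mul_self (zz ι)).1 hc with rfl | rfl
      · exact ⟨y, y2, one_mul _⟩
      · exact ⟨z * y, by rw [mul_assoc, ← mul_assoc y, z_comm, mul_assoc, y2, mul_one, z_sq],
          (map_mul ι z y).symm⟩
    have e1 : (h : G) * ι x * (h : G)⁻¹ = o * ι w := by
      rw [← e', ← mul_assoc, ← e]; exact (inv_mul_cancel_right _ _).symm
    have e2 : ι z = o * (ι w * o * (ι w)⁻¹) := by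
      refine (Cj.of_cent h.2).eq.symm.trans ?_
      rw [show (h : G) * ι z * (h : G)⁻¹ = h * ι (x * x) * (h : G)⁻¹ by rw [sq_be x b], map_mul, ← conj_mul, e1,
        inv_eq_of_mul_eq_one_right (show ι w * ι w = 1 by rw [← map_mul, w2, map_one])]
      simp only [mul_assoc]
    exact F.ne z_ne ((Oc_odd (ι z)).eq_one ((congrArg (· ∈ Oc (ι z)) e2).mpr (mul_mem ho
      (conj_mem_of_mem_normalizer (cent_norm_Oc _ (mz ι w)) ho))) (El2.of_mul_self (zz ι)))⟩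
  obtain ⟨m, hm, e, he⟩ := hm fr (eq_bot_iff.2 fun x hx => by
      obtain ⟨y, rfl⟩ := sj x
      have n := (normal_iff_top_le_normalizer.2 (le_norm_Od ⊤)).comap q
      exact (q1 y).2 (sup_le_sup_right (Od_le_Od (map_subtype_le _) (normal_iff_le_normalizer_map.1 n)) _
        (pre_le (zz ι) q1 (Y := (Od ⊤).comap q) (ker_le_comap q _) (fun g hg e => (Od_odd ⊤).eq_one hg
          (e.imp fun _ e => by rw [← map_pow, e, map_one])) (mem_map_of_mem _ hx)))) (by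
    obtain ⟨g, hg, p⟩ := F.p5
    obtain ⟨k, hk, r⟩ := F.p2
    exact fr.no2 ((dn hg p).congr ρ_a.2.1 ρ_a.1) ((dn hk r).congr ρ_a.2.2 ρ_a.1))
  refine ⟨m, (alternatingGroup _).subtype.comp (e.toMonoidHom.comp q), F.toSy, hm, F.sw,
    le_antisymm ?_ ?_, fun g => ?_, fun x h => ?_, fun x h => ?_⟩
  · rintro _ ⟨g, rfl⟩; exact (e (q g)).2
  · intro p hp
    obtain ⟨g, hg⟩ := sj (e.symm ⟨p, hp⟩)
    exact ⟨g, congrArg Subtype.val ((congrArg e hg).trans (e.apply_symm_apply _))⟩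
  · rw [← q1, ← e.map_eq_one_iff, Subtype.ext_iff]; rfl
  · exact (hκ x ▸ (he _).1 h : (e (q (ιz ι x)) : Perm (Fin m)).support.card = 4)
  · exact (hκ x ▸ (he _).2 h : (e (q (ιz ι x)) : Perm (Fin m)).support.card = 8)

end H1.A10
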