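import Cfsg.Agent.Lib.A10.GDef

/-! # Involutions in the centraliser of `z` -/

set_option autoImplicit false
set_option maxRecDepth 100000

namespace H1.A10

open Subgroup Cfsg H69 H45 Gold S Equiv

universe v

/-- involutions with supports of the same size are conjugate -/
theorem isConj_inv {α : Type*} [Fintype α] [DecidableEq α] {p q : Perm α} (hp : p * p = 1)
    (hq : q * q = 1) (h : p.support.card = q.support.card) : IsConj p q := by
  have a := Perm.cycleType_of_pow_prime_eq_one (p := 2) (σ := p) (by rwa [pow_two])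
  have b := Perm.cycleType_of_pow_prime_eq_one (p := 2) (σ := q) (by rwa [pow_two])
  rw [← Perm.sum_cycleType, ← Perm.sum_cycleType, a, b, Multiset.sum_replicate,
    Multiset.sum_replicate, smul_eq_mul, smul_eq_mul] at h
  exact Perm.isConj_of_cycleType_eq (by rw [a, b, Nat.eq_of_mul_eq_mul_right two_pos h])

theorem alt_conj {m : ℕ} {p q : Perm (Fin m)} (ep : p ∈ alternatingGroup (Fin m))
    (eq : q ∈ alternatingGroup (Fin m)) (hp : p * p = 1) (hq : q * q = 1)
    (h : p.support.card = q.support.card) (hm : p.support.card + 2 ≤ m) :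
    ∃ r ∈ alternatingGroup (Fin m), r * p * r⁻¹ = q := by
  obtain ⟨r, e⟩ := isConj_iff.1 (alternatingGroup.isConj_of (σ := ⟨p, ep⟩) (τ := ⟨q, eq⟩)
    (isConj_inv hp hq h) (by rwa [Fintype.card_fin]))
  exact ⟨r, r.2, congrArg Subtype.val e⟩

/-- a permutation of odd order which commutes with the involution `b` of support four fixes the
support -/
theorem fix4 {α : Type*} [Fintype α] [DecidableEq α] {b y : Perm α} (hb : b * b = 1)
    (h4 : b.support.card = 4) (c : y * b = b * y) (ho : Odd (orderOf y)) {i : α} (hi : b i ≠ i) :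
    y i = i := by
  have bb : ∀ j, b (b j) = j := fun j => congr($hb j)
  have yb : ∀ j, y (b j) = b (y j) := fun j => congr($c j)
  have ms : ∀ {j}, b j ≠ j → b (y j) ≠ y j := fun h e => h (y.injective ((yb _).trans e))
  have k4 : (y ^ 4) i = i := by
    by_contra n
    have n' : y (y (y (y i))) ≠ i := n
    have n2 : y (y i) ≠ i := fun e => n' (by rw [e, e])
    have n1 : y i ≠ i := fun e => n2 (by rw [e, e])
    have n3 : y (y i) ≠ b i := fun e => n' (by rw [e, yb, yb, e, bb])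
    have n4 : y i ≠ b i := fun e => n2 (by rw [e, yb, e, bb])
    have n5 : y (y i) ≠ b (y i) := fun e => n4 (y.injective (e.trans (yb i).symm))
    have : ({i, b i, y i, b (y i), y (y i)} : Finset α) ⊆ b.support := by
      simp only [Finset.insert_subset_iff, Finset.singleton_subset_iff, Perm.mem_support, bb]
      exact ⟨hi, hi.symm, ms hi, (ms hi).symm, ms (ms hi)⟩
    have := Finset.card_le_card this
    rw [Finset.card_insert_of_notMem, Finset.card_insert_of_notMem, Finset.card_insert_of_notMem,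
      Finset.card_pair n5.symm] at this
    · omega
    · simp only [Finset.mem_insert, Finset.mem_singleton, not_or]
      exact ⟨(ms hi).symm, fun e => n1 (y.injective e).symm⟩
    · simpa using ⟨n4.symm, n1.symm, n3.symm⟩
    · simpa using ⟨hi.symm, n1.symm, fun e => n4 (by rw [e, bb, ← e]), n2.symm⟩
  obtain ⟨n, e⟩ := exists_pow_eq_self_of_coprime
    (Nat.Coprime.pow_left 2 (Nat.coprime_two_left.2 ho) : (2 ^ 2).Coprime (orderOf y))
  rw [← e]; exact Perm.pow_apply_eq_self_of_apply_eq_self k4 n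

/-- the core of the centraliser of an involution `c` with support eight fixes the support -/
theorem fix8 {α : Type*} [Fintype α] [DecidableEq α] {b c y : Perm α} (hb : b * b = 1) (hc : c * c = 1)
    (bc : b * c = c * b) (h4 : b.support.card = 4) (h4' : (b * c).support.card = 4)
    (h8 : c.support.card = 8) (yc : y * c = c * y) (ho : Odd (orderOf y))
    (ho' : Odd (orderOf (y * b * y⁻¹ * b))) {i : α} (hi : c i ≠ i) : y i = i := by
  have bb : ∀ j, b (b j) = j := fun j => congr($hb j)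
  have cc : ∀ j, c (c j) = j := fun j => congr($hc j)
  have h1 : c.support ⊆ b.support ∪ (b * c).support := by
    nth_rw 1 [show c = b * (b * c) by rw [← mul_assoc, hb, one_mul]]
    exact Perm.support_mul_le _ _
  have h2 := Finset.card_union_add_card_inter b.support (b * c).support
  have h3 := Finset.card_le_card h1
  have h5 : b.support ∩ (b * c).support = ∅ := Finset.card_eq_zero.1 (by omega)
  have k : ∀ j, b j = j ∨ b j = c j := fun j => or_iff_not_imp_left.2 fun n => by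
    have : j ∉ (b * c).support := fun h =>
      Finset.notMem_empty j (h5 ▸ Finset.mem_inter.2 ⟨Perm.mem_support.2 n, h⟩)
    exact b.injective ((bb j).trans (Perm.notMem_support.1 this).symm)
  have k' : ∀ j, (y * b * y⁻¹) j = j ∨ (y * b * y⁻¹) j = c j := fun j => (k (y⁻¹ j)).imp
    (fun e => by rw [Perm.mul_apply, Perm.mul_apply, e]; simp) fun e => by
      simp only [Perm.mul_apply, e]
      rw [← Perm.mul_apply y c, yc]; simp
  have sq : y * b * y⁻¹ * b * (y * b * y⁻¹ * b) = 1 := by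
    have s : ∀ j, (y * b * y⁻¹) ((y * b * y⁻¹) j) = j := fun j => by simp [bb]
    have bc' : ∀ j, b (c j) = c (b j) := fun j => congr($bc j)
    have yc' : ∀ j, (y * b * y⁻¹) (c j) = c ((y * b * y⁻¹) j) := fun j => by
      have : y * b * y⁻¹ * c = c * (y * b * y⁻¹) :=
        (((Commute.mul_left yc bc).mul_left (Commute.inv_left yc)) : Commute _ _)
      exact congr($this j)
    generalize y * b * y⁻¹ = d at k' s yc'
    ext j
    simp only [Perm.mul_apply, Perm.one_apply]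
    rcases k j with e | e <;> rcases k' j with e' | e'
    · rw [e, e', e, e']
    · rw [e, e', bc', e, yc', e', cc]
    · rw [e, yc', e', bc', e, cc, e']
    · rw [e, yc', e', cc, e, yc', e', cc]
  have yb : y * b = b * y := by
    have := (El2.of_mul_self sq).eq_one ho'
    rw [mul_eq_one_iff_eq_inv, inv_eq_of_mul_eq_one_right hb] at this
    exact mul_inv_eq_iff_eq_mul.1 this
  rcases Finset.mem_union.1 (h1 (Perm.mem_support.2 hi)) with e | e
  · exact fix4 hb h4 yb ho (Perm.mem_support.1 e)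
  · exact fix4 (by rw [mul_assoc, ← mul_assoc c, ← bc, mul_assoc, hc, mul_one, hb]) h4'
      (Commute.mul_right yb yc) ho (Perm.mem_support.1 e)

variable {G : Type v} [Group G] [Finite G] {ι : S →* G} {m : ℕ} {π : 𝐂[ι z] →* Perm (Fin m)}

omit [Finite G] in
theorem Gp.alt (P : Gp ι m π) (g : 𝐂[ι z]) : π g ∈ alternatingGroup (Fin m) := P.rng ▸ ⟨g, rfl⟩

/-- involutions of `C(z)` are conjugate into `S` -/
theorem Sy.intoz (P : Sy ι) {y : 𝐂[ι z]} (h : El2 y) : ∃ g x, g * y * g⁻¹ = ιz ι x := by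
  obtain ⟨g, hg, x, -, e⟩ := P.into P.sylz y.2 (h.imp fun _ e => congrArg Subtype.val e)
  exact ⟨⟨g, hg⟩, x, Subtype.ext e⟩

theorem Gp.cjS (P : Gp ι m π) {x : S} (hx : T.al (ρ x)) : ∃ h ∈ 𝐂[ι z], Cj ι h x a := by
  have ha : T.al (ρ a) := (sq_al a).2 a_inv
  have x2 := ((sq_al x).1 hx).1
  obtain ⟨r, hr, e⟩ := alt_conj (P.alt (ιz ι x)) (P.alt (ιz ι a))
    (by rw [← map_mul, ← map_mul, x2, map_one, map_one])
    (by rw [← map_mul, ← map_mul, a_inv.1, map_one, map_one]) ((P.s8 x hx).trans (P.s8 a ha).symm)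
    (by rw [P.s8 x hx]; rcases P.deg with rfl | rfl <;> omega)
  obtain ⟨g, rfl⟩ := P.rng.ge hr
  let U : Subgroup S := zpowers z ⊔ zpowers a
  have mU : ∀ {y}, y ∈ U ↔ y ∈ zpowers z ∨ y * a ∈ zpowers z := mem_sup_zpowers a_inv.1
    (centralizer_le_normalizer _ (by rw [centralizer_zpowers]; exact mem_cent1_iff.2 (z_comm a)))
  have hU : U.map ι ≤ 𝐂[ι z] := map_cent fun y _ => z_comm y
  have m0 : (g : G) * ι x * (g : G)⁻¹ * (ι a)⁻¹ ∈ Oc (ι z) ⊔ zpowers (ι z) :=
    (P.ker (g * ιz ι x * g⁻¹ * (ιz ι a)⁻¹)).1 (by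
      rw [map_mul, map_mul, map_mul, map_inv, map_inv, e, mul_inv_cancel])
  obtain ⟨l, hl, y, hy, e'⟩ := P.into (syl_sup (Oc_odd (ι z)) (P.two_map U) (hU.trans (cent_norm_Oc _)))
    (c := g * ι x * (g : G)⁻¹) (by
      simpa using mul_mem (sup_le_sup_left (zpowers_le.2 (mem_map_of_mem ι (mem_sup_left (mem_zpowers z))))
        _ m0) (mem_sup_right (mem_map_of_mem ι (mem_sup_right (mem_zpowers a)))))
    ((El2.of_mul_self (by rw [← map_mul, x2, map_one])).conj _)
  have hl' : l * g ∈ 𝐂[ι z] := mul_mem (sup_le (Oc_le _) hU hl) g.2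
  have p : Cj ι (l * g) x y := by rw [Cj, ← e']; group
  have y1 := P.ne1 p ((sq_al x).1 hx).2.1
  have yz := P.ne' p (Cj.of_cent hl') ((sq_al x).1 hx).2.2
  simp only [mU, mem_zpowers_of_mul_self z_sq] at hy
  rcases (by decide +kernel : ∀ y : S, y ≠ 1 → y ≠ z → (y = 1 ∨ y = z) ∨ y * a = 1 ∨ y * a = z →
    y = a ∨ y = a * z) y y1 yz hy with rfl | rfl
  · exact ⟨_, hl', p⟩
  · exact ⟨_, mul_mem (mz ι _) hl', p.comp (Cj.of' w_facts.2.2.2.2.2.2.2.2.2.2.2.2)⟩

omit [Finite G] in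
theorem Sy.alS (P : Sy ι) {g y : 𝐂[ι z]} {x : S} (e : g * y * g⁻¹ = ιz ι x) (y2 : y * y = 1) (y1 : y ≠ 1)
    (yz : (y : G) ≠ ι z) : T.al (ρ x) := by
  refine (sq_al x).2 ⟨P.inj ?_, fun h => y1 ?_, fun h => yz ?_⟩
  · rw [map_mul, map_one, ← coe_ιz, ← e, ← coe_mul, H13.PS.cj_sq g y2, coe_one]
  · rw [h, map_one] at e; simpa using e
  · rw [h] at e
    exact H13.PS.cj_inj' ((congrArg Subtype.val e).trans (Cj.of_cent g.2).eq.symm)

theorem Gp.cj (P : Gp ι m π) {y : G} (hy : y ∈ 𝐂[ι z]) (y2 : y * y = 1) (y1 : y ≠ 1) (yz : y ≠ ι z) :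
    ∃ h ∈ 𝐂[ι z], h * y * h⁻¹ = ι a := by
  obtain ⟨g, x, e⟩ := P.intoz (y := ⟨y, hy⟩) (El2.of_mul_self (Subtype.ext y2))
  obtain ⟨h, hh, p⟩ := P.cjS (P.alS e (Subtype.ext y2) (fun c => y1 (congrArg Subtype.val c)) yz)
  exact ⟨h * g, mul_mem hh g.2, by
    rw [← H13.PS.cj_cj', show (g : G) * y * (g : G)⁻¹ = ι x from congrArg Subtype.val e, p.eq]⟩

/-- one class of involutions -/
theorem Gp.cjz (P : Gp ι m π) {x : G} (x2 : x * x = 1) (x1 : x ≠ 1) : ∃ g, g * x * g⁻¹ = ι z := by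
  obtain ⟨g, -, y, -, e⟩ := P.into P.sylT (c := x) trivial (El2.of_mul_self x2)
  by_cases h : ι y = ι z
  · exact ⟨g, e.trans h⟩
  obtain ⟨k, -, e'⟩ := P.cj (mz ι y) (e ▸ H13.PS.cj_sq g x2) (fun c => x1 (by simpa [c] using e)) h
  obtain ⟨l, p, -⟩ := P.sw
  exact ⟨l * (k * g), by rw [← H13.PS.cj_cj', ← H13.PS.cj_cj', e, e', p.eq]⟩

theorem Gp.pair (P : Gp ι m π) {x y : G} (x2 : x * x = 1) (x1 : x ≠ 1) (y2 : y * y = 1) (y1 : y ≠ 1)
    (n : x ≠ y) (c : x * y = y * x) : ∃ g, g * x * g⁻¹ = ι z ∧ g * y * g⁻¹ = ι a := by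
  obtain ⟨g, e⟩ := P.cjz x2 x1
  obtain ⟨h, hh, e'⟩ := P.cj (y := g * y * g⁻¹)
    (mem_cent1_iff.2 (by rw [← e, conj_mul, conj_mul, c])) (H13.PS.cj_sq g y2)
    (fun c => y1 (by simpa using c)) fun c => n (H13.PS.cj_inj' (e.trans c.symm))
  exact ⟨h * g, by rw [← H13.PS.cj_cj', e, (Cj.of_cent hh).eq], by rw [← H13.PS.cj_cj', e']⟩

theorem Gp.supp (P : Gp ι m π) {y : 𝐂[ι z]} (y2 : y * y = 1) (y1 : y ≠ 1) (yz : (y : G) ≠ ι z) :
    (π y).support.card = 8 := by
  obtain ⟨g, x, e⟩ := P.intoz (El2.of_mul_self y2)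
  rw [← P.s8 x (P.alS e y2 y1 yz), ← e, map_mul, map_mul, map_inv, Perm.card_support_conj]

/-- the kernel meets `S` in `⟨z⟩` -/
theorem Gp.kerS (P : Gp ι m π) {x : S} : π (ιz ι x) = 1 ↔ ρ x = 1 := by
  have hz : IsPGroup 2 (zpowers (ι z)) := (El2.of_mul_self (zz ι)).isPGroup
  have hn := (zpowers_le.2 (mz ι z)).trans (cent_norm_Oc (ι z))
  rw [P.ker, ρ_one, ← P.inj.eq_iff, ← P.inj.eq_iff, map_one, ← mem_zpowers_of_mul_self (zz ι)]
  exact ⟨fun h => ((syl_sup (Oc_odd _) hz hn).max (ι.range ⊓ (Oc (ι z) ⊔ zpowers (ι z)))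
    (le_inf (zpowers_le.2 ⟨z, rfl⟩) le_sup_right) inf_le_right P.syl.isP.to_inf_left).le ⟨⟨x, rfl⟩, h⟩,
    mem_sup_right⟩

theorem Gp.el2 (P : Gp ι m π) {y : 𝐂[ι z]} (h : El2 y) (h2 : π y * π y = 1)
    (h8 : (π y).support.card = 8) : y * y = 1 := by
  obtain ⟨g, x, e⟩ := P.intoz h
  have k : (π (ιz ι x)).support.card = 8 := by
    rw [← e, map_mul, map_mul, map_inv, Perm.card_support_conj, h8]
  have k2 : ρ x * ρ x = 1 := by
    rw [← map_mul, ← P.kerS, map_mul, map_mul, ← e, map_mul, map_mul, map_inv, H13.PS.cj_sq _ h2]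
  have : x * x = 1 := ((sq_al x).1 ⟨k2, fun c => by simp [P.kerS.2 c] at k,
    fun c => by simp [P.s4 x c] at k⟩).1
  have := congrArg (ιz ι) this
  rw [map_mul, map_one, ← e, conj_mul] at this
  simpa using this

theorem Gp.fix (P : Gp ι m π) {c y : 𝐂[ι z]} (c2 : c * c = 1) (c1 : c ≠ 1) (cz : (c : G) ≠ ι z)
    (hy : (y : G) ∈ Oc (c : G)) {i : Fin m} (hi : π c i ≠ i) : π y i = i := by
  obtain ⟨h, hh, e⟩ := P.cj c.2 (congrArg Subtype.val c2) (fun k => c1 (Subtype.ext k)) cz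
  let g : 𝐂[ι z] := ⟨h, hh⟩
  have e' : ιz ι a = g * c * g⁻¹ := Subtype.ext e.symm
  let b : 𝐂[ι z] := g⁻¹ * ιz ι (of 4) * g
  have s : ∀ x, (π (g⁻¹ * ιz ι x * g)).support.card = (π (ιz ι x)).support.card := fun x => by
    rw [map_mul, map_mul, map_inv, ← Perm.card_support_conj (σ := π g)]; congr 2; group
  have bc : b * c = g⁻¹ * ιz ι (of 4 * a) * g := by rw [map_mul, e']; simp only [b]; group
  have cb : c * b = g⁻¹ * ιz ι (a * of 4) * g := by rw [map_mul, e']; simp only [b]; group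
  have k : b * c = c * b := by rw [bc, cb, (by decide +kernel : of 4 * a = a * of 4)]
  have od : ∀ {w : 𝐂[ι z]}, (w : G) ∈ Oc (c : G) → Odd (orderOf (π w)) := fun {w} h =>
    Odd.of_dvd_nat ((Oc_odd _).odd h) ((orderOf_map_dvd π w).trans (orderOf_coe w).symm.dvd)
  have bb : π b * π b = 1 := by
    rw [← map_mul, show b * b = g⁻¹ * ιz ι (of 4 * of 4) * g by rw [map_mul]; simp only [b]; group,
      map_mul, map_mul, P.kerS.2 (by decide +kernel), mul_one, ← map_mul, inv_mul_cancel, map_one]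
  refine fix8 bb (by rw [← map_mul, c2, map_one]) (by rw [← map_mul, k, map_mul])
    ((s _).trans (P.s4 _ (by decide +kernel))) (by rw [← map_mul, bc, s, P.s4 _ (by decide +kernel)])
    (P.supp c2 c1 cz) (by
      rw [← map_mul, ← map_mul]; exact congrArg π (Subtype.ext (mem_cent1_iff.1 (Oc_le _ hy)))) (od hy) ?_ hi
  rw [show π y * π b * (π y)⁻¹ * π b = π (y * (b * y⁻¹ * b⁻¹)) by
    rw [map_mul π y, map_mul π _ b⁻¹, map_mul π b, map_inv, map_inv π b, inv_eq_of_mul_eq_one_right bb]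
    simp only [mul_assoc]]
  exact od (mul_mem hy (conj_mem_of_mem_normalizer
    (cent_norm_Oc _ (mem_cent1_iff.2 (congrArg Subtype.val k))) (inv_mem hy)))

end H1.A10
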