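import Cfsg.Agent.Lib.A10.GK1
import Cfsg.Agent.Lib.A10.GF2

/-! # A10, package GK2: weak balance and the signalizer functor -/

set_option autoImplicit false
set_option maxRecDepth 100000

namespace H1.A10

open Subgroup Cfsg H69 H45 Gold S Equiv
open scoped commutatorElement

universe v

variable {G : Type v} [Group G] [Finite G] {ι : S →* G} {m : ℕ} {π : 𝐂[ι z] →* Perm (Fin m)}

theorem card_compl_le (hm : m ≤ 11) {p : Perm (Fin m)} (h8 : p.support.card = 8) {A : Finset (Fin m)}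
    (h : ∀ i ∈ A, p i = i) : A.card ≤ 3 := by
  have h1 : A ⊆ p.supportᶜ := fun i hi => Finset.mem_compl.2 (Perm.notMem_support.2 (h i hi))
  have := Finset.card_le_card h1
  rw [Finset.card_compl, Fintype.card_fin, h8] at this
  omega

theorem fix_four (hm : m ≤ 11) {p : Perm (Fin m)} (h8 : p.support.card = 8) {i j k l : Fin m} (hi : p i = i)
    (hj : p j = j) (hk : p k = k) (hl : p l = l) (ij : i ≠ j) (ik : i ≠ k) (il : i ≠ l) (jk : j ≠ k)
    (jl : j ≠ l) (kl : k ≠ l) : False := by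
  have := card_compl_le hm h8 (A := {i, j, k, l}) (by simp [hi, hj, hk, hl])
  rw [Finset.card_insert_of_notMem (by simp [ij, ik, il]), Finset.card_insert_of_notMem (by simp [jk, jl]),
    Finset.card_pair kl] at this
  omega

/-- pure lemma -/
theorem same_support (hm : m ≤ 11) {E : Subgroup (Perm (Fin m))} (h8 : 8 ≤ Nat.card E)
    (h : ∀ c ∈ E, c ≠ 1 → c * c = 1 ∧ c.support.card = 8) {c d : Perm (Fin m)} (hc : c ∈ E) (c1 : c ≠ 1)
    (hd : d ∈ E) (d1 : d ≠ 1) : c.support = d.support := by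
  have ea : IsElementaryAbelian 2 E := ea_of_sq fun x hx => by
    by_cases e : x = 1
    exacts [by rw [e, mul_one], (h x hx e).1]
  have cm : ∀ {x y}, x ∈ E → y ∈ E → ∀ i, x (y i) = y (x i) := fun hx hy i => congr($(ea_cent ea hy _ hx) i)
  have orb : ∀ {c d s}, c ∈ E → d ∈ E → d ≠ 1 → c s ≠ s → d s = s → ∀ e ∈ E, e s = s ∨ e s = c s :=
    fun {c d s} hc hd d1 n e x hx => by
      by_contra! k
      refine fix_four hm (h d hd d1).2 e (j := c s) (k := x s) (l := c (x s)) (by rw [cm hd hc, e])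
        (by rw [cm hd hx, e]) (by rw [cm hd hc, cm hd hx, e]) n.symm k.1.symm (fun f => k.2 ?_) k.2.symm
        (fun f => k.1 (c.injective f).symm) fun f => n (x.injective ((cm hx hc s).trans f.symm))
      nth_rw 2 [f]
      exact congr($(ea_sq ea hc) (x s)).symm
  by_contra n
  have hcd := (h c hc c1).2.trans (h d hd d1).2.symm
  obtain ⟨s, s1, s2⟩ := Finset.not_subset.1 fun k => n (Finset.eq_of_subset_of_card_le k hcd.ge)
  obtain ⟨q, q1, q2⟩ := Finset.not_subset.1 fun k => n (Finset.eq_of_subset_of_card_le k hcd.le).symm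
  rw [Perm.mem_support] at s1 q1
  rw [Perm.notMem_support] at s2 q2
  have := Fintype.ofFinite E
  obtain ⟨x, y, xy, e⟩ := Fintype.exists_ne_map_eq_of_card_lt
    (fun x : E => (decide (x.1 s = s), decide (x.1 q = q)))
    (by rw [← Nat.card_eq_fintype_card (α := E)]; exact lt_of_lt_of_le (by simp) h8)
  simp only [Prod.mk.injEq, decide_eq_decide] at e
  have k : ∀ {c d s}, c ∈ E → d ∈ E → d ≠ 1 → c s ≠ s → d s = s → (x.1 s = s ↔ y.1 s = s) →
      (x⁻¹ * y).1 s = s := fun hc hd d1 n e f => by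
    refine Perm.inv_eq_iff_eq.2 ?_
    rcases orb hc hd d1 n e x x.2 with a | a <;> rcases orb hc hd d1 n e y y.2 with b | b
    exacts [b.trans a.symm, (f.1 a).trans a.symm, b.trans (f.2 b).symm, b.trans a.symm]
  have ks := k hc hd d1 s1 s2 e.1
  have kq := k hd hc c1 q1 q2 e.2
  have q3 : c (d q) = d q := by rw [cm hc hd, q2]
  exact fix_four hm (h _ (x⁻¹ * y).2 fun f => xy (inv_mul_eq_one.1 (Subtype.ext f))).2 ks
    (j := c s) (by rw [cm (x⁻¹ * y).2 hc, ks]) kq (l := d q) (by rw [cm (x⁻¹ * y).2 hd, kq]) s1.symm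
    (fun f => s1 (f ▸ q2)) (fun f => s1 (f ▸ q3)) (fun f => s1 (c.injective (by rw [f, q2])))
    (fun f => s1 (c.injective (by rw [f, q3]))) q1.symm

theorem Gp.weak (P : Gp ι m π) {E : Subgroup G} (hE : IsElementaryAbelian 2 E) (h16 : 16 ≤ Nat.card E)
    (hz : ι z ∈ E) {c : G} (hc : c ∈ E) (c1 : c ≠ 1) : Oc c ⊓ 𝐂[ι z] ≤ Oc (ι z) ⊔ Od 𝐂(E) := by
  by_cases cz : c = ι z
  · exact cz ▸ inf_le_left.trans le_sup_left
  have hm : m ≤ 11 := by rcases P.deg with rfl | rfl <;> omega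
  have cE : ∀ {x}, x ∈ E → 𝐂(E) ≤ 𝐂[x] := fun hx g hg => mem_cent1_iff.2 (hg _ hx).symm
  have EH : E ≤ 𝐂[ι z] := (ea_cent hE).trans (cE hz)
  have z2 := (El2.of_mul_self (zz ι)).isPGroup
  have kE := (syl_z (zz ι) (mem_sup_right (mem_zpowers _)) fun _ h _ => h).max
    ((Oc (ι z) ⊔ zpowers (ι z)) ⊓ E) (le_inf le_sup_right (zpowers_le.2 hz)) inf_le_left (ea2 hE).to_inf_right
  have h8 : 8 ≤ Nat.card ((E.subgroupOf 𝐂[ι z]).map π) := by
    have := card_mul_index ((zpowers (ι z)).subgroupOf E)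
    rw [card_subgroupOf (zpowers_le.2 hz), Nat.card_zpowers, P.ord2 z_sq z_ne] at this
    rw [← relIndex_ker, show π.ker = (Oc (ι z) ⊔ zpowers (ι z)).subgroupOf _ from Subgroup.ext P.ker,
      relIndex_subgroupOf EH, ← inf_relIndex_right, kE, relIndex]
    omega
  have sp : ∀ e : 𝐂[ι z], (e : G) ∈ E → π e ≠ 1 → π e * π e = 1 ∧ (π e).support.card = 8 := fun e he n =>
    ⟨by rw [← map_mul, show e * e = 1 from Subtype.ext (ea_sq hE he), map_one],
      P.supp (Subtype.ext (ea_sq hE he)) (fun f => n (f ▸ map_one π))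
        fun f => n ((P.ker e).2 (mem_sup_right (mem_zpowers_iff.2 ⟨1, (zpow_one _).trans f.symm⟩)))⟩
  let c' : 𝐂[ι z] := ⟨c, EH hc⟩
  have pc : π c' ≠ 1 := fun f =>
    ((mem_zpowers_of_mul_self (zz ι)).1 (kE.le ⟨(P.ker c').1 f, hc⟩)).elim c1 cz
  have fx : ∀ e : 𝐂[ι z], (e : G) ∈ E → ∀ i, π c' i = i → π e i = i := fun e he i hi => by
    by_cases n : π e = 1
    · rw [n]; rfl
    · rwa [← Perm.notMem_support, same_support hm h8 (by rintro _ ⟨e, he, rfl⟩; exact sp e he)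
        (mem_map_of_mem π he) n (mem_map_of_mem π (show c' ∈ E.subgroupOf _ from hc)) pc, Perm.notMem_support]
  let Y := (fixingSubgroup (Perm (Fin m)) {i | π c' i ≠ i}).comap π
  have mY : ∀ g, g ∈ Y ↔ ∀ i, π c' i ≠ i → π g i = i := fun g => mem_fixingSubgroup_iff _
  have zY : zpowers (ι z) ≤ Y.map 𝐂[ι z].subtype := zpowers_le.2 ⟨ιz ι z, (mY _).2 fun i _ => by
    rw [P.kerS.2 ((ρ_one z).2 (Or.inr rfl))]; rfl, rfl⟩
  have h1 := pre_le (zz ι) P.ker (Y := Y) (ker_le_comap π _) fun g hg e => by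
    have e2 : El2 (π g) := e.imp fun _ e => by rw [← map_pow, e, map_one]
    have := card_compl_le hm (sp c' hc pc).2 (A := (π g).support) fun i hi =>
      by_contra fun n => Perm.mem_support.1 hi ((mY g).1 hg i n)
    have n1 := Perm.card_support_ne_one (π g)
    have n2 : (π g).support.card ≠ 2 := fun f => absurd
      ((Perm.card_support_eq_two.1 f).sign_eq.symm.trans (Perm.mem_alternatingGroup.1 (P.alt g))) (by decide)
    by_cases n3 : (π g).support.card = 3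
    · exact e2.eq_one (by rw [(card_support_eq_three_iff.1 n3).orderOf]; decide)
    · exact Perm.card_support_eq_zero.1 (by omega)
  have h2 : 𝐂(E) ≤ 𝐍(Od (Y.map 𝐂[ι z].subtype)) := (le_normalizer_of_cj_le fun g hg x hx => by
    obtain ⟨_, ⟨y, hy, rfl⟩, rfl⟩ := mem_cj'.1 hx
    let g' : 𝐂[ι z] := ⟨g, cE hz hg⟩
    have k : π c' * π g'⁻¹ = π g'⁻¹ * π c' := by
      rw [← map_mul, ← map_mul]; exact congrArg π (Subtype.ext (inv_mem hg _ hc))
    refine ⟨g' * y * g'⁻¹, (mY _).2 fun i hi => ?_, rfl⟩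
    rw [map_mul, map_mul, Perm.mul_apply, Perm.mul_apply, (mY y).1 hy _ fun f =>
      hi ((π g'⁻¹).injective (congr($k i).symm.trans f)), ← Perm.mul_apply, ← map_mul, mul_inv_cancel, map_one]
    rfl).trans (norm_Od _)
  have h3 := (ea_cent hE).trans h2
  refine le_trans (fun y hy => mem_of_odd z2 (zY.trans (le_norm_Od _)) (h1 ⟨⟨y, hy.2⟩, (mY _).2 fun i hi =>
    P.fix (Subtype.ext (ea_sq hE hc)) (fun f => c1 (congrArg Subtype.val f)) cz hy.1 hi, rfl⟩)
    ((Oc_odd c).odd hy.1)) ((comm_sup_cent (Od_odd _) (ea2 hE) h3).ge.trans (sup_le_sup ?_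
      (le_Od inf_le_right ((Od_odd _).mono inf_le_left) (H69.le_normalizer_inf h2 le_normalizer))))
  refine commutator_le.2 fun y hy e he => mem_of_odd z2 ((zpowers_le.2 (mz ι z)).trans (cent_norm_Oc _)) ?_
    ((Od_odd _).odd (commutator_le_left_of_le_normalizer h3 (commutator_mem_commutator hy he)))
  obtain ⟨y, hy', rfl⟩ := Od_le _ hy
  refine (P.ker ⁅y, ⟨e, EH he⟩⁆).1 ?_
  rw [map_commutatorElement, commutatorElement_eq_one_iff_commute]
  exact Perm.Disjoint.commute fun i => (em (π c' i = i)).elim (fun f => Or.inr (fx _ he i f))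
    fun f => Or.inl ((mY y).1 hy' i f)

theorem Gp.oddW (P : Gp ι m π) {x y : G} (x2 : x * x = 1) (x1 : x ≠ 1) (y2 : y * y = 1) (y1 : y ≠ 1)
    (n : x ≠ y) (c : x * y = y * x) : OddS (Oc x ⊔ Oc y : Subgroup G) := by
  let E := (T.E1.comap ρ).map ι
  have hE : IsElementaryAbelian 2 E := ea_map e16
  have h16 : 16 ≤ Nat.card E := by
    have a := card_mul_index (T.E1.comap ρ)
    have b := card_mul_index T.E1
    rw [T.card_eq, T.card_of, show T.cnt (· ∈ T.E1) = 8 by decide +kernel] at b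
    rw [card_eq, index_comap_of_surjective _ ρ_sj, show T.E1.index = 16 by omega] at a
    rw [P.card]; omega
  have cE : ∀ {x}, x ∈ E → Od 𝐂(E) ≤ 𝐂[x] := fun hx g hg => mem_cent1_iff.2 (Od_le _ hg _ hx).symm
  have od : ∀ a ∈ E, OddS (Od 𝐂(E) ⊔ Oc a : Subgroup G) := fun a ha =>
    sup_comm (Oc a) _ ▸ (Oc_odd a).sup (Od_odd _) ((cE ha).trans (cent_norm_Oc a))
  obtain ⟨h1, -⟩ := Cfsg.Agent.S0217.result (p := 2) E (fun a ha b hb => ea_cent hE hb a ha)
    (fun a ha => by rw [pow_two, ea_sq hE ha]) (le_trans (by decide) h16) (fun a => Od 𝐂(E) ⊔ Oc a)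
    (fun a ha _ => sup_le (cE ha) (Oc_le a)) (fun a ha _ => od a ha)
    (fun a ha _ b hb x hx => conj_mem_of_mem_normalizer
      (H69.le_normalizer_sup ((ea_cent hE).trans (le_norm_Od _))
        (fun b hb => cent_norm_Oc a (mem_cent1_iff.2 (ea_cent hE ha b hb))) hb) hx)
    (fun a ha _ => (od a ha).solv key_ft) fun a ha a1 b hb b1 => by
      rw [dedekind_right ((cE ha).trans (cent_norm_Oc a)) (cE hb)]
      obtain ⟨g, e⟩ := P.cjz (ea_sq hE hb) b1
      have := P.weak (Gold.ea_cj hE g) (by rwa [card_cj]) (e ▸ cj_mem g hb) (cj_mem g ha) (by simpa using a1)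
      rw [← e, ← Oc_cj, ← Oc_cj, ← cj_centralizer_singleton, ← cj_centralizer, ← Od_cj, ← cj_inf, ← cj_sup,
        cj_le_cj_iff, sup_comm] at this
      exact sup_le le_sup_left this
  obtain ⟨g, e1, e2⟩ := P.pair x2 x1 y2 y1 n c
  have k : ∀ w, ρ w ∈ T.E1 → w ≠ 1 → Oc (ι w) ≤ ⨆ a : {a : G // a ∈ E ∧ a ≠ 1}, Od 𝐂(E) ⊔ Oc (a : G) :=
    fun w h w1 => le_iSup_of_le ⟨ι w, mem_map_of_mem ι h, P.ne w1⟩ le_sup_right
  have := OddS.mono h1 (sup_le (k z (by decide +kernel) z_ne) (k a (by decide +kernel) a_inv.2.1))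
  rwa [← e1, ← e2, ← Oc_cj, ← Oc_cj, ← cj_sup, OddS, card_cj] at this

end H1.A10
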