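import Cfsg.Agent.Lib.A10.GK1

/-! # Balance -/

set_option autoImplicit false
set_option maxRecDepth 100000

namespace H1.A10

open Subgroup Cfsg H69 H45 Gold S Equiv

universe v

/-- an even permutation moving at most three points -/
theorem three_of {m : ℕ} {p : Perm (Fin m)} (e : p ∈ alternatingGroup (Fin m)) (h1 : p ≠ 1)
    (h : p.support.card ≤ 3) : p.IsThreeCycle := by
  have := Perm.two_le_card_support_of_ne_one h1
  refine card_support_eq_three_iff.1 (le_antisymm h (Nat.succ_le_of_lt (lt_of_le_of_ne this ?_)))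
  intro k
  have := (Perm.card_support_eq_two.1 k.symm).sign_eq
  rw [Perm.mem_alternatingGroup.1 e] at this
  exact absurd this (by decide)

theorem supp_le {m : ℕ} {p c : Perm (Fin m)} (h : ∀ i, c i ≠ i → p i = i) :
    p.support.card + c.support.card ≤ m := by
  rw [← Finset.card_union_of_disjoint (Finset.disjoint_left.2 fun i a b =>
    Perm.mem_support.1 a (h i (Perm.mem_support.1 b)))]
  exact (Finset.card_le_univ _).trans (Fintype.card_fin m).le

/-- a three-cycle on three given points -/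
theorem three_cases {p : Perm (Fin 11)} (h : p.IsThreeCycle) {i j k : Fin 11}
    (f : ∀ l, l ≠ i → l ≠ j → l ≠ k → p l = l) (ij : i ≠ j) (ik : i ≠ k) (jk : j ≠ k) :
    p = swap i j * swap j k ∨ p = (swap i j * swap j k)⁻¹ := by
  have s : p.support = {i, j, k} := Finset.eq_of_subset_of_card_le (fun l hl => by
      by_contra n
      simp only [Finset.mem_insert, Finset.mem_singleton, not_or] at n
      exact Perm.mem_support.1 hl (f l n.1 n.2.1 n.2.2))
    (h.card_support ▸ Finset.card_le_three)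
  have m : ∀ l, p l ≠ l ↔ l = i ∨ l = j ∨ l = k := fun l => by
    rw [← Perm.mem_support, s]; simp
  have m' : ∀ l, p l ≠ l → p l = i ∨ p l = j ∨ p l = k := fun l hl =>
    (m _).1 fun e => hl (p.injective e)
  have hi := (m i).2 (.inl rfl)
  have hj := (m j).2 (.inr (.inl rfl))
  have hk := (m k).2 (.inr (.inr rfl))
  have n : ∀ {a b}, a ≠ b → p a ≠ p b := fun e e' => e (p.injective e')
  have key : ∀ {q : Perm (Fin 11)}, p i = q i → p j = q j → p k = q k →
      (∀ l, l ≠ i → l ≠ j → l ≠ k → q l = l) → p = q := fun a b c d => Equiv.ext fun l => by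
    by_cases e1 : l = i
    · rw [e1, a]
    by_cases e2 : l = j
    · rw [e2, b]
    by_cases e3 : l = k
    · rw [e3, c]
    rw [f l e1 e2 e3, d l e1 e2 e3]
  have := n ij
  have := n ik
  have := n jk
  have : (p i = j ∧ p j = k ∧ p k = i) ∨ (p i = k ∧ p j = i ∧ p k = j) := by
    have := m' i hi
    have := m' j hj
    have := m' k hk
    omega
  rcases this with ⟨a, b, c⟩ | ⟨a, b, c⟩
  · exact .inl (key (by simp [a, swap_apply_of_ne_of_ne, ij, ik])
      (by simp [b, swap_apply_of_ne_of_ne, ik.symm, jk.symm])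
      (by simp [c]) fun l a b c => by simp [swap_apply_of_ne_of_ne, *])
  · exact .inr (key (by simp [a]) (by simp [b, swap_apply_of_ne_of_ne, ij, ik])
      (by simp [c, swap_apply_of_ne_of_ne, ik.symm, jk.symm])
      fun l a b c => by simp [swap_apply_of_ne_of_ne, *])

variable {G : Type v} [Group G] [Finite G] {ι : S →* G} {m : ℕ} {π : 𝐂[ι z] →* Perm (Fin m)}

theorem Gp.bal (P : Gp ι m π) (hW : ∀ x y : G, x * x = 1 → x ≠ 1 → y * y = 1 → y ≠ 1 → x ≠ y →
    x * y = y * x → OddS (Oc x ⊔ Oc y : Subgroup G)) : Oc (ι a) ⊓ 𝐂[ι z] ≤ Oc (ι z) := fun y hy => by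
  by_cases h1 : π ⟨y, hy.2⟩ = 1
  · exact mem_of_odd (El2.of_mul_self (zz ι)).isPGroup ((zpowers_le.2 (mz ι z)).trans (cent_norm_Oc _))
      ((P.ker _).1 h1) ((Oc_odd _).odd hy.1)
  exfalso
  have k : ∀ c : 𝐂[ι z], c * c = 1 → (π c).support.card = 8 → ∃ w : 𝐂[ι z], (w : G) ∈ Oc (c : G) ∧
      (π w).IsThreeCycle ∧ ∀ i, π c i ≠ i → π w i = i := fun c c2 c8 => by
    have c1 : c ≠ 1 := fun e => by simp [e] at c8
    have cz : (c : G) ≠ ι z := fun e => by
      simp [(P.ker c).2 (mem_sup_right (by rw [e]; exact mem_zpowers _))] at c8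
    obtain ⟨h, hh, e⟩ := P.cj c.2 (congrArg Subtype.val c2) (fun k => c1 (Subtype.ext k)) cz
    have m : ((⟨h, hh⟩⁻¹ * ⟨y, hy.2⟩ * ⟨h, hh⟩ : 𝐂[ι z]) : G) ∈ Oc (c : G) := by
      have : y ∈ Oc (ι a) := hy.1
      rw [← e, ← Oc_cj, mem_cj] at this
      exact this
    have := supp_le fun i => P.fix c2 c1 cz m (i := i)
    refine ⟨_, m, three_of (P.alt _) (fun e => h1 ?_) (by have := P.deg; omega), fun i => P.fix c2 c1 cz m⟩
    rwa [map_mul, map_mul, map_inv, mul_assoc, inv_mul_eq_one, eq_comm, mul_eq_right] at e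
  obtain rfl : m = 11 := by
    obtain ⟨w, -, a, b⟩ := k (ιz ι a) (by rw [← map_mul, a_inv.1, map_one]) (P.s8 _ ((sq_al _).2 a_inv))
    have := supp_le b
    rw [a.card_support, P.s8 _ ((sq_al _).2 a_inv)] at this
    have := P.deg
    omega
  let d1 : Perm (Fin 11) := swap 0 1 * swap 2 3 * (swap 4 5 * swap 6 7)
  let d2 : Perm (Fin 11) := swap 0 2 * swap 1 3 * (swap 4 5 * swap 8 9)
  have q1 : d1 * d1 = 1 := by decide +kernel
  have q2 : d2 * d2 = 1 := by decide +kernel
  have q3 : d1 * d2 = d2 * d1 := by decide +kernel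
  let L := zpowers d1 ⊔ zpowers d2
  have hL : IsElementaryAbelian 2 L := ea_sup (ea_zpowers q1) (ea_zpowers q2) (by
    rw [zpowers_le, centralizer_zpowers]; exact mem_cent1_iff.2 q3.symm)
  obtain ⟨Q, hQ⟩ := exists_isSylowIn 2 (L.comap π)
  have hQ' := hQ.map π
  rw [map_comap_eq, P.rng, inf_eq_right.2 (sup_le (zpowers_le.2 (by simp [d1])) (zpowers_le.2 (by simp [d2])))]
    at hQ'
  have e := hQ'.max L hQ'.le le_rfl (ea2 hL)
  obtain ⟨c1, m1, e1⟩ := e.le (mem_sup_left (mem_zpowers d1))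
  obtain ⟨c2, m2, e2⟩ := e.le (mem_sup_right (mem_zpowers d2))
  have s1 : (π c1).support.card = 8 := by rw [e1]; decide +kernel
  have s2 : (π c2).support.card = 8 := by rw [e2]; decide +kernel
  have r1 := P.el2 (El2.of_mem hQ.isP m1) (by rw [e1, q1]) s1
  have r2 := P.el2 (El2.of_mem hQ.isP m2) (by rw [e2, q2]) s2
  have r3 := P.el2 (El2.of_mem hQ.isP (mul_mem m1 m2)) (by rw [map_mul, e1, e2]; decide +kernel)
    (by rw [map_mul, e1, e2]; decide +kernel)
  have ho := hW c1 c2 (congrArg Subtype.val r1) (fun e => by simp [show c1 = 1 from Subtype.ext e] at s1)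
    (congrArg Subtype.val r2) (fun e => by simp [show c2 = 1 from Subtype.ext e] at s2)
    (fun e => absurd (e1.symm.trans (Subtype.ext e ▸ e2)) (by decide +kernel)) (congrArg Subtype.val (by
      rw [← inv_eq_of_mul_eq_one_right r3, mul_inv_rev, inv_eq_of_mul_eq_one_right r1,
        inv_eq_of_mul_eq_one_right r2] : c1 * c2 = c2 * c1))
  obtain ⟨w1, a1, b1, f1⟩ := k c1 r1 s1
  obtain ⟨w2, a2, b2, f2⟩ := k c2 r2 s2
  have o : Odd (orderOf (π (w1 * w2 * w1 * w2⁻¹))) := Odd.of_dvd_nat (ho.odd (mul_mem (mul_mem (mul_mem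
    (mem_sup_left a1) (mem_sup_right a2)) (mem_sup_left a1)) (inv_mem (mem_sup_right a2))))
    ((orderOf_map_dvd π _).trans (orderOf_coe (w1 * w2 * w1 * w2⁻¹)).symm.dvd)
  have t1 := three_cases b1 (i := 8) (j := 9) (k := 10) (fun l a b c => f1 l (by
    rw [e1]; revert l; decide +kernel)) (by decide) (by decide) (by decide)
  have t2 := three_cases b2 (i := 6) (j := 7) (k := 10) (fun l a b c => f2 l (by
    rw [e2]; revert l; decide +kernel)) (by decide) (by decide) (by decide)
  rw [map_mul, map_mul, map_mul, map_inv] at o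
  rcases t1 with t1 | t1 <;> rcases t2 with t2 | t2 <;> rw [t1, t2] at o <;>
    exact absurd ((El2.of_mul_self (by decide +kernel)).eq_one o) (by decide +kernel)

end H1.A10
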