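import Cfsg.Agent.Lib.A10.Lift

/-! # A10, package ISO: the centraliser of `t` is the centraliser of a double transposition -/

set_option autoImplicit false
set_option maxRecDepth 100000

namespace H1.A10

open Subgroup Cfsg H69 H45 Gold T Equiv
open scoped commutatorElement

universe v

/-- transfer: a central involution outside the derived group of a Sylow subgroup -/
theorem not_mem_comm {G : Type*} [Group G] [Finite G] {N P J : Subgroup G} (hP : IsSylowIn 2 P N) {y : G}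
    (hy : y ∈ P) (hN : N ≤ 𝐂[y]) (y2 : y * y = 1) (hJ : ∀ p ∈ P, ∀ q ∈ P, ⁅p, q⁆ ∈ J) (hn : y ∉ J) :
    y ∉ ⁅N, N⁆ := fun H => by
  let τ := MonoidHom.transfer (Abelianization.of (G := P.subgroupOf N))
  have h1 : ⁅N, N⁆ ≤ τ.ker.map N.subtype :=
    Subgroup.map_subtype_commutator N ▸ Subgroup.map_mono (Abelianization.commutator_subset_ker τ)
  obtain ⟨⟨y, hy'⟩, h2, rfl⟩ := h1 H
  have h3 := MonoidHom.transfer_eq_pow (Abelianization.of (G := P.subgroupOf N)) ⟨y, hy'⟩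
    fun m g _ => by
      rw [mul_assoc, inv_mul_eq_iff_eq_mul]
      exact (Commute.pow_left (Subtype.ext (mem_cent1_iff.1 (hN g.2)).symm) m).eq
  have h4 := (QuotientGroup.eq_one_iff _).1 (h3.symm.trans h2)
  have h5 : commutator (P.subgroupOf N) ≤ (J.comap N.subtype).comap (P.subgroupOf N).subtype :=
    commutator_le.2 fun p _ q _ => hJ _ p.2 _ q.2
  obtain ⟨m, hm⟩ := Nat.odd_iff.2 (Nat.two_dvd_ne_zero.1 hP.not_dvd_relIndex)
  have h6 : y ^ (P.subgroupOf N).index ∈ J := h5 h4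
  rw [show (P.subgroupOf N).index = 2 * m + 1 from hm, pow_succ, pow_mul, pow_two] at h6
  exact hn (by simpa [show y * y = 1 from y2] using h6)

/-- the double transposition -/
def dt : Perm (Fin 4) := swap 0 1 * swap 2 3

theorem iso_of {C : Type*} [Group C] {k : ℕ} (ψ : C →* Perm (Fin 4)) (π : C →* Perm (Fin k))
    (sj : Function.Surjective π) (sg : ∀ g, Perm.sign (ψ g) = Perm.sign (π g))
    (inj : ∀ g, ψ g = 1 → π g = 1 → g = 1) {c : C} (hc : ∀ g, g * c = c * g) (c1 : ψ c = dt) (c2 : π c = 1)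
    (on : ∀ d : Perm (Fin 4), Perm.sign d = 1 → d * dt = dt * d → ∃ g, ψ g = d ∧ π g = 1) :
    ∃ zt : alternatingGroup (Fin (4 + k)), orderOf zt = 2 ∧ Nonempty (C ≃* 𝐂[zt]) := by
  let e := (finSumFinEquiv (m := 4) (n := k)).permCongrHom
  let Φ0 : C →* Perm (Fin 4 ⊕ Fin k) := (Perm.sumCongrHom _ _).comp (ψ.prod π)
  have h0 : ∀ g, Φ0 g = Perm.sumCongr (ψ g) (π g) := fun _ => rfl
  have se : ∀ p, Perm.sign (e p) = Perm.sign p := fun p => Perm.sign_permCongr _ p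
  let Φ : C →* alternatingGroup (Fin (4 + k)) := (e.toMonoidHom.comp Φ0).codRestrict _ fun g =>
    Perm.mem_alternatingGroup.2 ((se _).trans (by rw [h0, Perm.sign_sumCongr, sg, Int.units_mul_self]))
  have hΦ : ∀ g, (Φ g : Perm (Fin (4 + k))) = e (Φ0 g) := fun _ => rfl
  have iΦ : Function.Injective Φ := (injective_iff_map_eq_one _).2 fun g hg => by
    have h1 : Φ0 g = 1 := e.injective (((hΦ g).symm.trans (congrArg Subtype.val hg)).trans (map_one e).symm)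
    have h2 := Perm.sumCongrHom_injective (h1.trans (map_one _).symm)
    exact inj g (congrArg Prod.fst h2) (congrArg Prod.snd h2)
  refine ⟨Φ c, ?_, ⟨(MonoidHom.ofInjective iΦ).trans (MulEquiv.subgroupCongr (le_antisymm ?_ ?_))⟩⟩
  · rw [orderOf_injective Φ iΦ]
    exact H13.PS.ord2 (inj _ (by rw [map_mul, c1]; decide) (by rw [map_mul, c2, one_mul]))
      fun h => absurd (c1.symm.trans (h ▸ map_one ψ)) (by decide)
  · rintro _ ⟨g, rfl⟩
    exact mem_cent1_iff.2 (by rw [← map_mul, ← map_mul, hc])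
  · intro p hp
    have h1 : e.symm p * Φ0 c = Φ0 c * e.symm p := e.injective (by
      rw [map_mul, map_mul, e.apply_symm_apply, ← hΦ]
      exact congrArg Subtype.val (mem_cent1_iff.1 hp))
    rw [h0, c1, c2] at h1
    obtain ⟨⟨d, s⟩, h2⟩ := Perm.mem_sumCongrHom_range_of_perm_mapsTo_inl (σ := e.symm p) (by
      rintro _ ⟨i, rfl⟩
      have h3 := congrArg (· (Sum.inl i)) h1
      simp only [Perm.mul_apply] at h3
      rcases h4 : e.symm p (Sum.inl i) with j | j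
      · exact ⟨j, rfl⟩
      · rw [h4] at h3
        have h5 := (e.symm p : Perm _).injective (h3.trans h4.symm)
        exact absurd (Sum.inl_injective h5) ((by decide : ∀ i, dt i ≠ i) i))
    have h3 : Perm.sumCongr d s = e.symm p := h2
    obtain ⟨g, rfl⟩ := sj s
    have h4 : d * dt = dt * d := by
      rw [← h3, Perm.sumCongr_mul, Perm.sumCongr_mul] at h1
      exact congrArg Prod.fst (Perm.sumCongrHom_injective (a₁ := (_, _)) (a₂ := (_, _)) h1)
    have h5 : ψ g * dt = dt * ψ g := by rw [← c1, ← map_mul, ← map_mul, hc]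
    have h6 : Perm.sign d * Perm.sign (π g) = 1 := by
      rw [← Perm.sign_sumCongr, h3, ← se, e.apply_symm_apply]; exact Perm.mem_alternatingGroup.1 p.2
    obtain ⟨x, x1, x2⟩ := on (d * (ψ g)⁻¹) (by rw [map_mul, Perm.sign_inv, sg, h6])
      (Commute.mul_left h4 (Commute.inv_left h5))
    refine ⟨x * g, Subtype.ext ?_⟩
    rw [hΦ, h0, map_mul, map_mul, x1, x2, inv_mul_cancel_right, one_mul, h3, e.apply_symm_apply]

/-- the action of the first dihedral factor on four points -/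
def δ0 (x : T) : Perm (Fin 4) := swap 0 1 ^ (x.n % 2) * (swap 0 2 * swap 1 3) ^ (x.n / 2 % 2) * dt ^ (x.n / 4 % 2)

/-- the action of the first dihedral factor on four points -/
def δ : T.Dl →* Perm (Fin 4) := MonoidHom.mk' (fun x => δ0 x) fun x y =>
  (by decide +kernel : ∀ x ∈ T.Dl, ∀ y ∈ T.Dl, δ0 (x * y) = δ0 x * δ0 y) x x.2 y y.2

variable {X : Type v} [Group X] [Finite X] {ι : T →* X}

theorem Fr.iso (F : Fr ι) {k : ℕ} {π : 𝐂[ι t] →* Perm (Fin k)} (P : Pi ι k π) (hO : Oc (ι t) = ⊥) :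
    ∃ zt : alternatingGroup (Fin (4 + k)), orderOf zt = 2 ∧ Nonempty (𝐂[ι t] ≃* 𝐂[zt]) := by
  have ker : ∀ g : 𝐂[ι t], π g = 1 ↔ (g : X) ∈ F0.map ι := fun g => by rw [P.ker, hO, bot_sup_eq]
  have FD : F0 ≤ T.Dl := (by decide +kernel : ∀ x ∈ F0, x ∈ T.Dl)
  let j : T.Dl →* 𝐂[ι t] := (ι.comp T.Dl.subtype).codRestrict _ fun x =>
    mem_c1 ((by decide +kernel : ∀ x ∈ T.Dl, x * t = t * x) x x.2)
  have hj : ∀ x, (j x : X) = ι x := fun _ => rfl
  have k1 : ∀ g, π g = 1 → ∃ x : T.Dl, x.1 ∈ F0 ∧ j x = g := fun g h =>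
    ((ker g).1 h).elim fun x e => ⟨⟨x, FD e.1⟩, e.1, Subtype.ext e.2⟩
  have k2 : ∀ x : T.Dl, x.1 ∈ F0 → π (j x) = 1 := fun x h => (ker _).2 (mem_map_of_mem ι h)
  have cjF : ∀ g ∈ 𝐂[ι t], ∀ x ∈ F0, ∃ y ∈ F0, Cj ι g x y := fun g hg x hx =>
    ((ker (⟨g, hg⟩ * j ⟨x, FD hx⟩ * ⟨g, hg⟩⁻¹)).1 (by
      rw [map_mul, map_mul, k2 _ hx, mul_one, ← map_mul, mul_inv_cancel, map_one])).imp
      fun _ e => ⟨e.1, e.2.symm⟩
  have nF : 𝐂[ι t] ≤ 𝐍(F0.map ι) := fun g hg => norm_of (cjF g hg)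
  have cF : ∀ g ∈ 𝐂[ι t], g ∈ 𝐂(F0.map ι) ↔ Cj ι g f f := fun g hg =>
    ⟨fun h => Cj.of_cent (mem_cent1_iff.2 (h _ (mem_map_of_mem ι (by decide +kernel))).symm), fun p => by
      rintro _ ⟨x, hx, rfl⟩
      have q := Cj.of_cent hg
      refine (mem_cent1_iff.1 (Cj.cent ?_)).symm
      rcases (by decide +kernel : ∀ x ∈ F0, x = 1 ∨ x = f ∨ x = t ∨ x = f * t) x hx with rfl | rfl | rfl | rfl
      exacts [Cj.one g, p, q, p.mul q]⟩
  let Y : Subgroup 𝐂[ι t] := 𝐂(F0.map ι).subgroupOf 𝐂[ι t]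
  have mY : ∀ g : 𝐂[ι t], g ∈ Y ↔ Cj ι g f f := fun g => cF g g.2
  let uu : T.Dl := ⟨u, by decide +kernel⟩
  have iY : Y.index = 2 := index_eq_two_iff.2 ⟨j uu, fun b => by
    have q : Cj ι b t t := Cj.of_cent b.2
    have r : Cj ι (ι u) f (f * t) := Cj.of' (by decide +kernel)
    rw [mY, mY]
    obtain ⟨y, hy, p⟩ := cjF b b.2 f (by decide +kernel)
    rcases (by decide +kernel : ∀ y ∈ F0, y ≠ 1 → y ≠ t → y = f ∨ y = f * t) y hy
      (F.ne1 p (by decide +kernel)) (F.ne' p q (by decide +kernel)) with rfl | rfl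
    · exact Or.inr ⟨p, fun e => absurd (F.right e (r.comp (p.mul q))) (by decide +kernel)⟩
    · exact Or.inl ⟨(r.comp (p.mul q)).congr rfl (by decide +kernel),
        fun e => absurd (F.right e p) (by decide +kernel)⟩⟩
  have : Y.Normal := normal_of_index_eq_two iY
  have πY : Y.map π = alternatingGroup _ := Perm.eq_alternatingGroup_of_index_eq_two
    ((index_map_eq _ P.sj fun g hg => by
      obtain ⟨x, hx, rfl⟩ := k1 g hg
      exact (mY _).2 (Cj.of' ((by decide +kernel : ∀ x ∈ F0, x * f * x⁻¹ = f) x hx))).trans iY)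
  have πK : ⁅Y, Y⁆.map π = alternatingGroup _ := by
    rw [map_commutator, πY]
    exact commutator_alternatingGroup_eq_self (by rcases P.deg with rfl | rfl <;> simp)
  have KD : ∀ x : T.Dl, j x ∈ ⁅Y, Y⁆ → x = 1 := fun x h => by
    have hx : x.1 ∈ F0 := (by decide +kernel : ∀ x ∈ T.Dl, x * f = f * x → x ∈ F0) x x.2
      (F.cent_iff.1 ((mY _).1 (commutator_le_left Y Y h)).cent)
    have h1 := mem_map_of_mem 𝐂[ι t].subtype h
    rw [map_commutator, subgroupOf_map_subtype, inf_comm] at h1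
    by_contra n
    have hS := F.sylt.inf_normal (N := 𝐂[ι t] ⊓ 𝐂(F0.map ι)) inf_le_left
      (H69.le_normalizer_inf le_normalizer (le_normalizer_centralizer nF))
    rw [← inf_assoc, inf_eq_left.2 F.bs_le] at hS
    refine not_mem_comm (J := Dr.map ι) hS (y := ι x)
      ⟨mem_map_of_mem ι ((by decide +kernel : ∀ x ∈ F0, x ∈ Bs) x hx), ?_⟩
      (fun g hg => mem_cent1_iff.2 (hg.2 _ (mem_map_of_mem ι hx)).symm) ?_ ?_ ?_ h1
    · rintro _ ⟨y, hy, rfl⟩
      rw [← map_mul, ← map_mul, (by decide +kernel : ∀ x ∈ F0, ∀ y ∈ F0, y * x = x * y) x hx y hy]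
    · rw [← map_mul, (by decide +kernel : ∀ x ∈ F0, x * x = 1) x hx, map_one]
    · rintro _ ⟨⟨p, hp, rfl⟩, p2⟩ _ ⟨⟨q, hq, rfl⟩, q2⟩
      have m : ι f ∈ F0.map ι := mem_map_of_mem ι (by decide +kernel)
      rw [← map_commutatorElement]
      exact mem_map_of_mem ι ((by decide +kernel : ∀ p ∈ Bs, p * f = f * p → ∀ q ∈ Bs, q * f = f * q →
        p * q * p⁻¹ * q⁻¹ ∈ Dr) p hp (F.cent_iff.1 (mem_cent1_iff.2 (p2 _ m).symm)) q hq
        (F.cent_iff.1 (mem_cent1_iff.2 (q2 _ m).symm)))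
    · exact fun e => n (Subtype.ext
        ((by decide +kernel : ∀ x ∈ F0, x ∈ Dr → x = 1) x hx (F.mem_map.1 e)))
  have su : Perm.sign (π (j uu)) = -1 := (P.sw _).sign_eq
  have ex0 : ∀ g, Perm.sign (π g) = 1 → ∃ c ∈ ⁅Y, Y⁆, ∃ x, g = c * j x := fun g h => by
    obtain ⟨c, hc, e⟩ := πK.ge (Perm.mem_alternatingGroup.2 h)
    obtain ⟨x, -, e'⟩ := k1 (c⁻¹ * g) (by rw [map_mul, map_inv, e, inv_mul_cancel])
    exact ⟨c, hc, x, by rw [e', mul_inv_cancel_left]⟩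
  have ex : ∀ g, ∃ c ∈ ⁅Y, Y⁆, ∃ x, g = c * j x := fun g =>
    (Int.units_eq_one_or (Perm.sign (π g))).elim (ex0 g) fun h => by
      obtain ⟨c, hc, x, e⟩ := ex0 (g * (j uu)⁻¹) (by rw [map_mul, map_mul, map_inv, Perm.sign_inv, h, su]; rfl)
      exact ⟨c, hc, x * uu, by rw [map_mul, ← mul_assoc, ← e, inv_mul_cancel_right]⟩
  let q := QuotientGroup.mk' ⁅Y, Y⁆
  have q1 : ∀ c ∈ ⁅Y, Y⁆, q c = 1 := fun c h => (QuotientGroup.eq_one_iff c).2 h
  let e := MulEquiv.ofBijective (q.comp j) ⟨(injective_iff_map_eq_one _).2 fun x h =>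
    KD x ((QuotientGroup.eq_one_iff _).1 h), fun y => by
      obtain ⟨g, rfl⟩ := QuotientGroup.mk'_surjective _ y
      obtain ⟨c, hc, x, rfl⟩ := ex g
      exact ⟨x, by rw [map_mul, q1 c hc, one_mul]; rfl⟩⟩
  let ψ := δ.comp (e.symm.toMonoidHom.comp q)
  have p1 : ∀ x, ψ (j x) = δ0 x := fun x => congrArg δ (e.symm_apply_apply x)
  have p2 : ∀ c ∈ ⁅Y, Y⁆, ψ c = 1 := fun c h => by
    simp only [ψ, MonoidHom.comp_apply, q1 c h, map_one]
  refine iso_of ψ π P.sj (fun g => ?_) (fun g a b => ?_) (c := j ⟨t, by decide +kernel⟩)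
    (fun g => Subtype.ext (mem_cent1_iff.1 g.2)) ((p1 _).trans (by decide +kernel))
    (k2 _ (by decide +kernel)) fun d a b => ?_
  · obtain ⟨c, hc, x, rfl⟩ := ex g
    rw [map_mul, map_mul π, p2 c hc, one_mul, p1, map_mul,
      Perm.mem_alternatingGroup.1 (πK.le (mem_map_of_mem π hc)), one_mul]
    rcases (by decide +kernel : ∀ x ∈ T.Dl, x ∈ F0 ∧ Perm.sign (δ0 x) = 1 ∨
      x * u⁻¹ ∈ F0 ∧ Perm.sign (δ0 x) = -1) x x.2 with h | h
    · rw [h.2, k2 x h.1, map_one]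
    · have := k2 (x * uu⁻¹) h.1
      rw [map_mul, map_mul, map_inv, map_inv, mul_inv_eq_one] at this
      rw [h.2, this, su]
  · obtain ⟨x, hx, rfl⟩ := k1 g b
    rw [show x = 1 from Subtype.ext ((by decide +kernel : ∀ x ∈ F0, δ0 x = 1 → x = 1) x hx
      ((p1 x).symm.trans a)), map_one]
  · obtain ⟨x, hx, e⟩ := (by decide +kernel : ∀ d : Perm (Fin 4), Perm.sign d = 1 → d * dt = dt * d →
      ∃ x, x ∈ F0 ∧ δ0 x = d) d a b
    exact ⟨j ⟨x, FD hx⟩, (p1 _).trans e, k2 _ hx⟩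

end H1.A10
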