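import Cfsg.Agent.Lib.A10.Lift
import Cfsg.Agent.S1299

/-! # A10, package SG1: the 2-balanced signalizer functor on `A1` -/

set_option autoImplicit false
set_option maxRecDepth 100000

namespace H1.A10

section
open Cfsg H45 H69 H79.SG Subgroup

/-- the `k`-balanced functor, with balance assumed only inside `A` -/
theorem sg1_functor {G : Type*} [Group G] [Finite G] (p k : ℕ) [Fact p.Prime] (A : Subgroup G)
    (hA : IsElementaryAbelian p A) (hAk : p ^ (k + 2) ≤ Nat.card A)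
    (hb : ∀ B, B ≤ A → p ^ k ≤ Nat.card B → ∀ b ∈ A, b ≠ 1 →
      signalizerDelta p B ⊓ Subgroup.centralizer {b} ≤ H44.coreOf p (Subgroup.centralizer {b}))
    (hsolv : ∀ a ∈ A, a ≠ 1 → Group.IsSolvable (centralizerPPrimeCore p a)) :
    IsSignalizerFunctor p A (fun a => ⨆ D : {D : Subgroup G // D ≤ A ∧ Nat.card D = p ^ k},
      signalizerDelta p (D : Subgroup G) ⊓ Subgroup.centralizer {a}) := by
  have hp : p.Prime := Fact.out
  set θ : G → Subgroup G := fun a => ⨆ D : {D : Subgroup G // D ≤ A ∧ Nat.card ↥D = p ^ k},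
    Cfsg.signalizerDelta p (D : Subgroup G) ⊓ Subgroup.centralizer {a} with hθ
  have hΔ : ∀ B F, B ≤ A → p ^ k ≤ Nat.card B → F ≤ A →
      signalizerDelta p B ⊓ 𝐂(F) ≤ signalizerDelta p F := by
    intro B F hB hc hF
    rw [H44.le_signalizerDelta_iff]
    intro f hf h1
    exact (inf_le_inf_left _ (cent_le_cent1 hf)).trans (hb B hB hc f (hF hf) h1)
  have hθO : ∀ a ∈ A, a ≠ 1 → θ a ≤ H44.coreOf p (Subgroup.centralizer {a}) := fun a ha h1 =>
    iSup_le fun D => hb D.1 D.2.1 D.2.2.ge a ha h1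
  have hAΔ : ∀ B, B ≤ A → A ≤ 𝐍(signalizerDelta p B) := fun B hB =>
    (H43.ea_le_centralizer hA hB).trans (H44.centralizer_le_normalizer_signalizerDelta B)
  have hAθ : ∀ a ∈ A, A ≤ 𝐍(θ a) := fun a ha => le_norm_iSup fun D =>
    le_normalizer_inf (hAΔ _ D.2.1) (H43.ea_le_normalizer_centralizer_singleton hA ha)
  have hnd : ∀ a ∈ A, a ≠ 1 → ∀ Z, Z ≤ θ a → ¬ p ∣ Nat.card Z := fun a ha h1 Z hZ =>
    (Nat.Prime.coprime_iff_not_dvd hp).1 (H44.coprime_of_le_coreOf (hZ.trans (hθO a ha h1))).symm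
  have hAne : A ≠ ⊥ := H43.ne_bot_of_pow_le (by omega) hAk
  have hAab : IsMulCommutative A := abelian_iff_le_centralizer.2 (H43.ea_le_centralizer hA le_rfl)
  refine ⟨fun a ha h1 => (hθO a ha h1).trans (H44.coreOf_le _ _), fun a ha h1 => hnd a ha h1 _ le_rfl,
    fun a ha h1 b hb x hx => conj_mem_of_mem_normalizer (hAθ a ha hb) hx, fun a ha h1 b hbA hb1 => ?_⟩
  have hF1 : ∀ F, H43.Hyp p A F → p ^ (k + 1) ≤ Nat.card F := fun F hF => hF.pow_le hAk
  have hpk : p ^ k ≤ p ^ (k + 1) := Nat.pow_le_pow_right hp.pos (by omega)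
  have hFF : ∀ F F', H43.Hyp p A F → H43.Hyp p A F' → p ^ k ≤ Nat.card (F ⊓ F' : Subgroup G) := by
    intro F F' hF hF'
    rcases H43.Hyp.inf hA hF hF'.le with h | h
    · rw [inf_eq_right.2 h]; exact hpk.trans (hF1 _ hF')
    · exact h.pow_le (hF1 _ hF')
  have main := bal_aux (ι := {F : Subgroup G // H43.Hyp p A F}) _ (A := A) (X := θ a) (fun i => i.1)
    (fun i => signalizerDelta p i.1 ⊓ θ a) (fun i j => i.1 ⊓ j.1)
    (fun i j => signalizerDelta p (i.1 ⊓ j.1) ⊓ θ a) rfl hAab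
    (solvableS (hsolv a ha h1) (hθO a ha h1)) (hAθ a ha) (H43.ea_coprime hA (hnd a ha h1 _ le_rfl))
    (fun i => i.2.le) ?_ (fun i => inf_le_left.trans (Cfsg.Agent.S1299.delta_le_cent p _)) (fun i j => inf_le_left)
    (fun i j => inf_le_inf_right _ (H44.signalizerDelta_anti inf_le_right))
    (fun i j => le_inf inf_le_right (inf_le_left.trans (Cfsg.Agent.S1299.delta_le_cent p _)))
    (fun i j => le_normalizer_inf (inf_le_right.trans (H44.centralizer_le_normalizer_signalizerDelta _))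
      (inf_le_left.trans le_normalizer))
    (fun i j => le_normalizer_inf (hAΔ _ (inf_le_left.trans i.2.le)) (hAθ a ha))
    (fun i j => le_inf ((inf_le_inf_right _ inf_le_left).trans
      (hΔ _ _ (inf_le_left.trans i.2.le) (hFF _ _ i.2 j.2) i.2.le)) (inf_le_left.trans inf_le_right)) ?_
  · refine H43.le_of_forall_hyp hA hAne
      (le_normalizer_inf (hAθ a ha) (H43.ea_le_normalizer_centralizer_singleton hA hbA))
      (hnd a ha h1 _ inf_le_left) fun F hF => ?_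
    obtain ⟨B₀, h0, hc0⟩ := H43.ea_exists_card_eq (H43.ea_of_le hA hF.le) (hpk.trans (hF1 F hF))
    refine le_iSup_of_le ⟨B₀, h0.trans hF.le, hc0⟩ (le_inf ?_ (inf_le_left.trans inf_le_right))
    exact ((inf_le_inf_right _ inf_le_left).trans ((main ⟨F, hF⟩).trans inf_le_left)).trans
      (H44.signalizerDelta_anti h0)
  · intro A₀ h0
    rcases (Nat.dvd_prime hp).1 (H43.ea_relIndex_dvd_of_cocyclic hA h0.1 h0.2) with h | h
    · obtain ⟨F, hF⟩ := H43.exists_hyp hA hAne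
      exact ⟨⟨F, hF⟩, hF.le.trans (Subgroup.relIndex_eq_one.1 h)⟩
    · exact ⟨⟨A₀, h0.1, h⟩, le_rfl⟩
  · refine iSup_le fun D => ?_
    have hle : signalizerDelta p D.1 ⊓ Subgroup.centralizer {a} ≤ θ a :=
      le_iSup (fun D : {D : Subgroup G // D ≤ A ∧ Nat.card ↥D = p ^ k} =>
        Cfsg.signalizerDelta p (D : Subgroup G) ⊓ Subgroup.centralizer {a}) D
    refine H43.le_of_forall_hyp hA hAne
      (le_normalizer_inf (hAΔ _ D.2.1) (H43.ea_le_normalizer_centralizer_singleton hA ha))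
      (hnd a ha h1 _ hle) fun F hF => ?_
    exact le_iSup_of_le ⟨F, hF⟩ (le_inf ((inf_le_inf_right _ inf_le_left).trans
      (hΔ _ _ D.2.1 D.2.2.ge hF.le)) (inf_le_left.trans hle))

end

open Subgroup Cfsg H69 H45 Gold T Equiv

universe v

variable {X : Type v} [Group X] [Finite X] {ι : T →* X}

theorem Fu.sg1 (F : Fu ι) (hs : Group.IsSolvable 𝐂[ι a])
    (hb : ∀ x ∈ A1, ∀ y ∈ A1, be x → be y → Oc (ι y) ⊓ 𝐂[ι x] ≤ Oc (ι x)) :
    OddS (WW ι) ∧ ∀ y ∈ A1, be y → WW ι ⊓ 𝐂[ι y] ≤ Oc (ι y) := by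
  have sq : ∀ x ∈ A1, x * x = 1 := by decide +kernel
  have hA : IsElementaryAbelian 2 (A1.map ι) := ea_map sq
  have hc : Nat.card (A1.map ι) = 16 := by rw [F.card, card_of]; decide +kernel
  have star : ∀ y ∈ A1, be y → ∀ b ∈ A1.map ι, b ≠ 1 → Oc (ι y) ⊓ 𝐂[b] ≤ Oc b := by
    rintro y hy by' _ ⟨x, hx, rfl⟩ h1
    by_cases bx : be x
    · exact hb x hx y hy bx by'
    · exact Cfsg.Agent.S1958.aux 2 (ι y) (ι x) (F.ord2 (sq y hy) (be_inv y by').2)
        (F.cent_iff.1 (mem_c1 ((by decide +kernel : ∀ c ∈ A1, ∀ y ∈ A1, c * y = y * c) y hy x hx)) ▸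
          (map_mul ι y x).symm |>.trans (map_mul ι x y))
        (F.solv_al hs ⟨sq x hx, fun e => h1 (by rw [e, map_one]), bx⟩)
  have bal : ∀ B, B ≤ A1.map ι → 2 ^ 2 ≤ Nat.card B → ∀ b ∈ A1.map ι, b ≠ 1 →
      signalizerDelta 2 B ⊓ 𝐂[b] ≤ Oc b := fun B hB h4 b hb b1 => by
    obtain ⟨y, hy, by', m⟩ : ∃ y ∈ A1, be y ∧ ι y ∈ B := by
      obtain ⟨c, hc, c1⟩ := exists_ne_one (H43.ne_bot_of_pow_le (by omega) h4)
      obtain ⟨x, hx, rfl⟩ := hB hc
      have x1 : x ≠ 1 := fun e => c1 (by rw [e, map_one])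
      obtain ⟨d, hd, n⟩ : ∃ d ∈ B, d ∉ zpowers (ι x) := by
        by_contra! H
        have := card_le_of_le (show B ≤ zpowers (ι x) from H)
        rw [Nat.card_zpowers, F.ord2 (sq x hx) x1] at this
        omega
      obtain ⟨y, hy, rfl⟩ := hB hd
      rcases (by decide +kernel : ∀ x ∈ A1, ∀ y ∈ A1, x ≠ 1 → y ≠ 1 → y ≠ x → be x ∨ be y ∨ be (x * y))
        x hx y hy x1 (fun e => n (by rw [e, map_one]; exact one_mem _))
        (fun e => n (e ▸ mem_zpowers _)) with e | e | e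
      exacts [⟨x, hx, e, hc⟩, ⟨y, hy, e, hd⟩, ⟨_, mul_mem hx hy, e, map_mul ι x y ▸ mul_mem hc hd⟩]
    exact (inf_le_inf_right _ (H44.signalizerDelta_le m (F.ne (be_inv y by').2))).trans (star y hy by' b hb b1)
  obtain ⟨f1, f2, f3, f4⟩ := sg1_functor 2 2 (A1.map ι) hA hc.ge bal
    fun b _ _ => H70.TM.solv_odd (Oc_odd b)
  have le : ∀ b ∈ A1.map ι, b ≠ 1 → (⨆ D : {D : Subgroup X // D ≤ A1.map ι ∧ Nat.card D = 2 ^ 2},
      signalizerDelta 2 (D : Subgroup X) ⊓ 𝐂[b]) ≤ Oc b := fun b hb b1 =>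
    iSup_le fun D => bal D.1 D.2.1 D.2.2.ge b hb b1
  obtain ⟨h1, h2⟩ := Cfsg.Agent.S0217.result (p := 2) (A1.map ι) (fun a ha b hb => ea_cent hA hb a ha)
    (fun a ha => by rw [pow_two, ea_sq hA ha]) (by rw [hc]; omega) _ f1 f2 f3
    (fun b hb b1 => H70.TM.solv_odd (f2 b hb b1)) f4
  have hW : WW ι ≤ _ := iSup_le fun y => le_iSup_of_le (f := fun b : {b : X // b ∈ A1.map ι ∧ b ≠ 1} =>
      ⨆ D : {D : Subgroup X // D ≤ A1.map ι ∧ Nat.card D = 2 ^ 2},
        signalizerDelta 2 (D : Subgroup X) ⊓ 𝐂[(b : X)])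
    ⟨ι y, mem_map_of_mem ι y.2.1, F.ne (be_inv _ y.2.2).2⟩ (H43.le_of_forall_hyp hA
      (H43.ne_bot_of_pow_le (p := 2) (k := 4) (by omega) hc.ge)
      ((H43.ea_le_centralizer_singleton hA (mem_map_of_mem ι y.2.1)).trans (cent_norm_Oc _)) (Oc_odd _)
      fun B hB => by
        obtain ⟨B₀, h0, hc0⟩ := H43.ea_exists_card_eq (k := 2) (H43.ea_of_le hA hB.le)
          (le_trans (by omega) (hB.pow_le (k := 3) hc.ge))
        refine le_iSup_of_le ⟨B₀, h0.trans hB.le, hc0⟩ (le_inf (H44.le_signalizerDelta_iff.2 fun c hc c1 => ?_)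
          (inf_le_left.trans (Oc_le _)))
        exact (inf_le_inf_left _ (cent_le_cent1 (h0 hc))).trans (star _ y.2.1 y.2.2 c (hB.le (h0 hc)) c1))
  exact ⟨OddS.mono h1 hW, fun y hy by' => (inf_le_inf_right _ hW).trans
    ((h2 _ (mem_map_of_mem ι hy) (F.ne (be_inv y by').2)).le.trans
      (le _ (mem_map_of_mem ι hy) (F.ne (be_inv y by').2)))⟩

end H1.A10
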