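import Cfsg.Agent.Lib.A10.Lift

/-! # A10, package SG2: the normaliser of the completion is everything -/

set_option autoImplicit false
set_option maxRecDepth 100000

namespace H1.A10

open Subgroup Cfsg H69 H45 Gold T Equiv

universe v

theorem sg2_dis {α : Type*} [DecidableEq α] {p q r : α} (h1 : p ≠ q) (h2 : p ≠ r)
    (c : swap p q * swap p r = swap p r * swap p q) : q = r := by
  by_contra n
  have := congrArg (· p) c
  simp only [Perm.mul_apply, swap_apply_left] at this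
  rw [swap_apply_of_ne_of_ne h2.symm (Ne.symm n), swap_apply_of_ne_of_ne h1.symm n] at this
  exact n this.symm

/-- the centralisers of two commuting transpositions generate the symmetric group -/
theorem sg2_gen {k : ℕ} (hk : 4 < k) {τ ρ : Perm (Fin k)} (h1 : τ.IsSwap) (h2 : ρ.IsSwap)
    (c : τ * ρ = ρ * τ) (n : τ ≠ ρ) {H : Subgroup (Perm (Fin k))} (a1 : ∀ g, g * τ = τ * g → g ∈ H)
    (a2 : ∀ g, g * ρ = ρ * g → g ∈ H) : H = ⊤ := by
  obtain ⟨p, q, pq, rfl⟩ := h1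
  obtain ⟨r, s, rs, rfl⟩ := h2
  have d : ∀ x, swap p q x = x ∨ swap r s x = x := fun x => by
    by_contra! hx
    rcases eq_or_eq_of_swap_apply_ne_self hx.1 with e | e <;>
      rcases eq_or_eq_of_swap_apply_ne_self hx.2 with e' | e' <;> subst e <;> subst e'
    · exact n (by rw [sg2_dis pq rs c])
    · rw [swap_comm r] at c n; exact n (by rw [sg2_dis pq rs.symm c])
    · rw [swap_comm p] at c n; exact n (by rw [sg2_dis pq.symm rs c])
    · rw [swap_comm p, swap_comm r] at c n; exact n (by rw [sg2_dis pq.symm rs.symm c])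
  obtain ⟨e, -, he⟩ := Finset.exists_mem_notMem_of_card_lt_card (s := {p, q, r, s}) (t := Finset.univ)
    (by rw [Finset.card_univ, Fintype.card_fin]; exact Finset.card_le_four.trans_lt hk)
  simp only [Finset.mem_insert, Finset.mem_singleton, not_or] at he
  have cm : ∀ {g : Perm (Fin k)} {x y}, g x = x → g y = y → swap x y * g = g * swap x y :=
    fun {g x y} e1 e2 => by rw [mul_swap_eq_swap_mul, e1, e2]
  have m : ∀ x, swap x e ∈ H := fun x => (d x).elim
    (fun h => a1 _ (cm h (swap_apply_of_ne_of_ne he.1 he.2.1)))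
    fun h => a2 _ (cm h (swap_apply_of_ne_of_ne he.2.2.1 he.2.2.2))
  rw [eq_top_iff, ← Perm.closure_isSwap, closure_le]
  rintro _ ⟨x, y, -, rfl⟩
  exact SubmonoidClass.swap_mem_trans H (m x) (swap_comm y e ▸ m y)

variable {X : Type v} [Group X] [Finite X] {ι : T →* X}

theorem sg2_pair (F : Fu ι) (h1 : OddS (WW ι)) (h2 : ∀ y ∈ A1, be y → WW ι ⊓ 𝐂[ι y] ≤ Oc (ι y))
    {x y : T} (hx : x ∈ A1) (hy : y ∈ A1) (bx : be x) (by' : be y) (b : be (x * y)) {g : X}
    (gx : g ∈ 𝐂[ι x]) (gy : g ∈ 𝐂[ι y]) : g ∈ 𝐍(WW ι) := by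
  have nT : ∀ z, ι z ∈ 𝐍(WW ι) := fun z => F.norm_WW (F.nA1 ⟨z, rfl⟩)
  have sq : ∀ {z}, be z → ι z * ι z = 1 := fun hz => by rw [← map_mul, (be_inv _ hz).1, map_one]
  have e : WW ι = Oc (ι x) ⊔ Oc (ι y) ⊔ Oc (ι (x * y)) := le_antisymm
    (H13.PS.gen4 (sq bx) (sq by') (F.ne (be_inv _ bx).2) (F.ne (be_inv _ by').2)
      (fun e => F.ne (be_inv _ b).2 (by rw [map_mul, e, sq bx]))
      (by rw [← map_mul, ← map_mul, (by decide +kernel : ∀ x ∈ A1, ∀ y ∈ A1, x * y = y * x) x hx y hy])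
      h1 (nT x) (nT y) ((h2 x hx bx).trans (le_sup_left.trans le_sup_left))
      ((h2 y hy by').trans (le_sup_right.trans le_sup_left))
      (map_mul ι x y ▸ (h2 _ (mul_mem hx hy) b).trans le_sup_right))
    (sup_le (sup_le (le_WW hx bx) (le_WW hy by')) (le_WW (mul_mem hx hy) b))
  rw [e]
  exact normalizer_inf_normalizer_le_normalizer_sup _ _ ⟨normalizer_inf_normalizer_le_normalizer_sup _ _
    ⟨cent_norm_Oc _ gx, cent_norm_Oc _ gy⟩, cent_norm_Oc _ ((Cj.of_cent gx).mul (Cj.of_cent gy)).cent⟩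

theorem sg2_cj {M : Subgroup X} {x y : T} (h : 𝐂[ι y] ≤ M) {m : X} (hm : m ∈ M) (p : Cj ι m x y) :
    𝐂[ι x] ≤ M := fun _ hg =>
  (M.mul_mem_cancel_right (inv_mem hm)).1 ((M.mul_mem_cancel_left hm).1
    (h ((p.symm.comp (Cj.of_cent hg)).comp p).cent))

theorem Fu.sg2 (F : Fu ι) (hO : Od (⊤ : Subgroup X) = ⊥) (ha : 𝐂[ι a] ≤ Oc (ι a) ⊔ 𝐍(A1.map ι))
    {k : ℕ} {π : 𝐂[ι t] →* Perm (Fin k)} (P : Pi ι k π) (h1 : OddS (WW ι))
    (h2 : ∀ y ∈ A1, be y → WW ι ⊓ 𝐂[ι y] ≤ Oc (ι y)) : Oc (ι t) = ⊥ := by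
  obtain ⟨h, p⟩ := F.h1
  obtain ⟨j, q⟩ := F.h2
  have hT : ι.range ≤ 𝐍(WW ι) := F.nA1.trans F.norm_WW
  have hh : h ∈ 𝐍(WW ι) := F.norm_WW p.nA1
  have oW : Oc (ι t) ≤ WW ι := le_WW (by decide +kernel) be_t
  have sq : ∀ {z : T}, z * z = 1 → ι z * ι z = 1 := fun hz => by rw [← map_mul, hz, map_one]
  have ct : 𝐂[ι t] ≤ 𝐍(WW ι) := by
    have m1 : ι u ∈ 𝐂[ι t] := mem_c1 (by decide +kernel)
    have m2 : ι (u * u') ∈ 𝐂[ι t] := mem_c1 (by decide +kernel)
    have c1 : Cj ι (ι σ * (h * ι σ)) t t := p.c3.sig.congr (by decide +kernel) (by decide +kernel)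
    have c2 : Cj ι (ι σ * (h * ι σ)) u (u * u') := p.c5.sig.congr (by decide +kernel) (by decide +kernel)
    have s2 : (π ⟨_, m2⟩).IsSwap := by
      obtain ⟨x, y, n, e⟩ := P.sw m1
      refine ⟨π ⟨_, c1.cent⟩ x, π ⟨_, c1.cent⟩ y, fun e => n ((π _).injective e), ?_⟩
      rw [swap_apply_apply, ← e, ← map_inv, ← map_mul, ← map_mul]
      exact congrArg π (Subtype.ext c2.eq.symm)
    have top := sg2_gen (H := (𝐍(WW ι).subgroupOf 𝐂[ι t]).map π)
      (by rcases P.deg with e | e <;> omega) (P.sw m1) s2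
      (by
        rw [← map_mul, ← map_mul]
        exact congrArg π (Subtype.ext (mem_cent1_iff.1 (mem_c1 (ι := ι) (by decide +kernel)))))
      (fun e => by
        have := (P.ker _).1 (show π (⟨_, m1⟩⁻¹ * ⟨_, m2⟩) = 1 by rw [map_mul, map_inv, e, inv_mul_cancel])
        rw [show ((⟨_, m1⟩⁻¹ * ⟨_, m2⟩ : 𝐂[ι t]) : X) = ι u' by simp,
          F.memJ (by decide +kernel : ∀ x ∈ F0, x ∈ Bs) (by decide +kernel)] at this
        exact absurd this (by decide +kernel))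
      (fun g c => by
        obtain ⟨g, rfl⟩ := P.sj g
        obtain ⟨g', e1, e2⟩ := F.lift_u P.ker m1 c
        exact ⟨g', sg2_pair F h1 h2 (by decide +kernel) (by decide +kernel) (by decide +kernel) be_t
          (by decide +kernel) e1 g'.2, e2⟩)
      (fun g c => by
        obtain ⟨g, rfl⟩ := P.sj g
        obtain ⟨g', e1, e2⟩ := F.lift P.ker (by decide +kernel) (by decide +kernel) (by decide +kernel) m2 c
        exact ⟨g', sg2_pair F h1 h2 (by decide +kernel) (by decide +kernel) (by decide +kernel) be_t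
          (by decide +kernel) e1 g'.2, e2⟩)
    intro g hg
    obtain ⟨m, hm, e⟩ : π ⟨g, hg⟩ ∈ (𝐍(WW ι).subgroupOf 𝐂[ι t]).map π := top ▸ mem_top _
    exact (mul_mem_cancel_left (inv_mem (mem_subgroupOf.1 hm))).1
      (sup_le (oW.trans le_normalizer) ((map_le_range _ _).trans hT)
        ((P.ker (m⁻¹ * ⟨g, hg⟩)).1 (by rw [map_mul, map_inv, e, inv_mul_cancel])))
  have hj : j ∈ 𝐍(WW ι) := by
    obtain ⟨m, hm, e | e⟩ := p.inA1 hT hh (x := u') (by decide +kernel) (by decide +kernel)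
    · exact sg2_cj ct hm e.2 q.c3.cent
    · exact absurd e.1 (by decide +kernel)
  have cb : ∀ {x}, be x → 𝐂[ι x] ≤ 𝐍(WW ι) := fun hx => by
    obtain ⟨m, hm, e⟩ := p.be_cj hT hh q hj hx
    exact sg2_cj ct hm e
  have ca : 𝐂[ι a] ≤ 𝐍(WW ι) := ha.trans (sup_le
    (H13.PS.gen4 (v := ι u) (w := ι t) (sq (by decide +kernel)) (sq (by decide +kernel))
      (F.ne (by decide +kernel)) (F.ne (by decide +kernel))
      (fun e => absurd (F.inj e) (by decide +kernel))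
      (mem_cent1_iff.1 (mem_c1 (by decide +kernel))) (Oc_odd _)
      (cent_norm_Oc _ (F.ca ⟨_, rfl⟩)) (cent_norm_Oc _ (F.ca ⟨_, rfl⟩))
      (inf_le_right.trans (cb (by decide +kernel))) (inf_le_right.trans ct)
      (inf_le_right.trans (map_mul ι u t ▸ cb (by decide +kernel)))) F.norm_WW)
  have into : ∀ {c : X}, c ∈ 𝐍(WW ι) → c * c = 1 → ∃ m ∈ 𝐍(WW ι), ∃ x, m * c * m⁻¹ = ι x :=
    fun hc c2 => by
      obtain ⟨m, hm, x, -, e⟩ := F.into (F.sylIn hT) hc ⟨1, by rw [pow_one, pow_two, c2]⟩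
      exact ⟨m, hm, x, e⟩
  have all : ∀ g, g ∈ 𝐍(WW ι) := fun g => by
    have a2 : g⁻¹ * ι a * g * (g⁻¹ * ι a * g) = 1 := by
      rw [show g⁻¹ * ι a * g * (g⁻¹ * ι a * g) = g⁻¹ * (ι a * ι a) * g by group,
        sq (by decide +kernel), mul_one, inv_mul_cancel]
    obtain ⟨c, o, c1, c2, -⟩ := H70.U52.dih (sq (be_inv _ be_t).1) a2
      (H9.even_orderOf_mul_of_not_isConj (sq (be_inv _ be_t).1) a2 fun e => by
        obtain ⟨r, e⟩ := isConj_iff.1 e
        exact F.not_ta (g := g * r) (by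
          change g * r * ι t * (g * r)⁻¹ = ι a
          rw [show g * r * ι t * (g * r)⁻¹ = g * (r * ι t * r⁻¹) * g⁻¹ by group, e]; group))
    have cc : c * c = 1 := by rw [← pow_two, ← o, pow_orderOf_eq_one]
    obtain ⟨m, hm, x, e⟩ := into (ct (mem_cent1_iff.2 c1)) cc
    have cx : 𝐂[ι x] ≤ 𝐍(WW ι) := by
      by_cases b : be x
      · exact cb b
      · obtain ⟨n, hn, r⟩ := F.al_in p q hh hj ca (x := x) ⟨F.inj (by
          rw [map_mul, map_one, ← e, show m * c * m⁻¹ * (m * c * m⁻¹) = m * (c * c) * m⁻¹ by group, cc,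
            mul_one, mul_inv_cancel]), fun e' => by
          rw [e', map_one, conj_eq_one_iff] at e
          rw [e, orderOf_one] at o
          omega, b⟩
        exact sg2_cj ca hn r
    have m3 : g⁻¹ * ι a * g ∈ 𝐍(WW ι) :=
      (mul_mem_cancel_left hm).1 ((mul_mem_cancel_right (inv_mem hm)).1 (cx (mem_cent1_iff.2 (by
        rw [← e]
        calc _ = m * (g⁻¹ * ι a * g * c) * m⁻¹ := by group
          _ = _ := by rw [← c2]; group))))
    obtain ⟨m', hm', y, e'⟩ := into m3 a2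
    have r : Cj ι (m' * g⁻¹) a y := by
      change m' * g⁻¹ * ι a * (m' * g⁻¹)⁻¹ = ι y
      rw [← e']; group
    obtain ⟨n, hn, r'⟩ := F.al_in p q hh hj ca (F.ty' r al_a)
    exact inv_mem_iff.1 ((mul_mem_cancel_left hm').1 ((mul_mem_cancel_left hn).1 (ca (r.comp r').cent)))
  exact le_bot_iff.1 (oW.trans (hO ▸ le_Od le_top h1 fun g _ => all g))

end H1.A10
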