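import Cfsg.Agent.Lib.A10.Defs

/-! # Orbits on the involutions of `T` -/

set_option autoImplicit false
set_option maxRecDepth 100000

noncomputable section

namespace H1.A10

open Subgroup Cfsg H69 H45 Gold T

universe v

variable {X : Type v} [Group X] {ι : T →* X}

/-- the action of `h` on `A1` -/
def hA (x : T) : T := cond (x.n.testBit 0) t 1 * (cond (x.n.testBit 2) (u * t) 1 *
  (cond (x.n.testBit 3) (u * u') 1 * cond (x.n.testBit 5) t' 1))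

/-- the action of a word on `A1`: conjugate by `s`, apply `h`, and go on -/
def wA : List ℕ → T → T
  | [], x => x
  | s :: w, x => wA w (hA (T.of s * x * (T.of s)⁻¹))

/-- the word -/
def wX (ι : T →* X) (h : X) : List ℕ → X
  | [] => 1
  | s :: w => wX ι h w * (h * ι (T.of s))

theorem wX_mem {M : Subgroup X} (hT : ι.range ≤ M) {h : X} (hh : h ∈ M) : ∀ w, wX ι h w ∈ M
  | [] => one_mem M
  | _ :: w => mul_mem (wX_mem hT hh w) (mul_mem hh (hT ⟨_, rfl⟩))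

theorem Ha.cjA {h : X} (p : Ha ι h) {x : T} (hx : x ∈ A1) : Cj ι h x (hA x) := by
  have k : ∀ {y z : T}, Cj ι h y z → ∀ b : Bool, Cj ι h (cond b y 1) (cond b z 1) := fun q b => by
    cases b; exacts [Cj.one h, q]
  exact ((k p.c1 _).mul ((k p.c2 _).mul ((k p.c5 _).mul (k p.c3 _)))).congr
    ((by decide +kernel : ∀ x ∈ A1, cond (x.n.testBit 0) u 1 * (cond (x.n.testBit 2) t 1 *
      (cond (x.n.testBit 3) u' 1 * cond (x.n.testBit 5) t' 1)) = x) x hx) rfl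

theorem Ha.cjW {h : X} (p : Ha ι h) : ∀ (w : List ℕ) {x : T}, x ∈ A1 → Cj ι (wX ι h w) x (wA w x)
  | [], x, _ => Cj.refl x
  | s :: w, x, hx => by
    have h1 : T.of s * x * (T.of s)⁻¹ ∈ A1 :=
      (by decide +kernel : ∀ s, ∀ x ∈ A1, s * x * s⁻¹ ∈ A1) _ x hx
    exact ((Cj.of _ x).comp (p.cjA h1)).comp
      (p.cjW w ((by decide +kernel : ∀ x ∈ A1, hA x ∈ A1) _ h1))

/-- words -/
def WL : List (List ℕ) := [[], [0], [2], [64], [66], [0, 64], [0, 66], [2, 64], [2, 66], [64, 64],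
  [64, 66], [66, 64], [66, 66], [0, 64, 66], [0, 66, 66]]

/-- ordered pairs of distinct involutions of type `2²` in `A1`: two orbits -/
theorem Ha.pair {h : X} (p : Ha ι h) {M : Subgroup X} (hT : ι.range ≤ M) (hh : h ∈ M) {x y : T}
    (hx : x ∈ A1) (hy : y ∈ A1) (bx : be x) (by' : be y) (n : x ≠ y) :
    ∃ m ∈ M, Cj ι m x t ∧ (Cj ι m y u ∧ be (x * y) ∨ Cj ι m y t' ∧ al (x * y)) ∧
      ∀ c ∈ A1, ∃ c' ∈ A1, Cj ι m c c' := by
  obtain ⟨w, -, s, -, e1, e2⟩ := (by decide +kernel : ∀ x ∈ beL, x ∈ A1 → ∀ y ∈ beL, y ∈ A1 → x ≠ y →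
    ∃ w ∈ WL, ∃ s ∈ [1, f, σ, f * σ], s * wA w x * s⁻¹ = t ∧ (s * wA w y * s⁻¹ = u ∧ be (x * y) ∨
      s * wA w y * s⁻¹ = t' ∧ al (x * y))) x ((mem_beL x).1 bx) hx y ((mem_beL y).1 by') hy n
  have k : ∀ (w : List ℕ), ∀ c ∈ A1, wA w c ∈ A1 := fun w => by
    induction w with
    | nil => exact fun c h => h
    | cons s w ih => exact fun c h => ih _ ((by decide +kernel : ∀ s, ∀ x ∈ A1,
        hA (s * x * s⁻¹) ∈ A1) _ c h)
  exact ⟨_, mul_mem (hT ⟨s, rfl⟩) (wX_mem hT hh w), (p.cjW w hx).comp (Cj.of' e1),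
    e2.imp (fun e => ⟨(p.cjW w hy).comp (Cj.of' e.1), e.2⟩)
      fun e => ⟨(p.cjW w hy).comp (Cj.of' e.1), e.2⟩, fun c hc => ⟨_,
        (by decide +kernel : ∀ s, ∀ x ∈ A1, s * x * s⁻¹ ∈ A1) s _ (k w c hc),
        (p.cjW w hc).comp (Cj.of s _)⟩⟩

section
variable {h k : X} (p : Ha ι h) {M : Subgroup X} (hT : ι.range ≤ M) (hh : h ∈ M)
include p hT hh

/-- the involutions of `A1` -/
theorem Ha.inA1 {x : T} (hx : x ∈ A1) (h1 : x ≠ 1) :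
    ∃ m ∈ M, be x ∧ Cj ι m x t ∨ al x ∧ Cj ι m x a := by
  obtain ⟨w, -, s, -, e⟩ := (by decide +kernel : ∀ x ∈ A1, x ≠ 1 → ∃ w ∈ WL, ∃ s ∈ [1, σ],
    be x ∧ s * wA w x * s⁻¹ = t ∨ al x ∧ s * wA w x * s⁻¹ = a) x hx h1
  exact ⟨_, mul_mem (hT ⟨s, rfl⟩) (wX_mem hT hh w), e.imp
    (fun e => ⟨e.1, (p.cjW w hx).comp (Cj.of' e.2)⟩) fun e => ⟨e.1, (p.cjW w hx).comp (Cj.of' e.2)⟩⟩

theorem Ha.be_cj (q : Hb ι k) (hk : k ∈ M) {x : T} (hx : be x) : ∃ m ∈ M, Cj ι m x t := by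
  rcases (by decide +kernel : ∀ x, be x → x ∈ A1 ∨ ∃ s, s * x * s⁻¹ = f) x hx with e | ⟨s, e⟩
  · obtain ⟨m, hm, e⟩ := p.inA1 hT hh e (be_inv x hx).2
    exact ⟨m, hm, e.elim (·.2) fun e => absurd hx e.1.2.2⟩
  · exact ⟨_, mul_mem hk (hT ⟨s, rfl⟩), (Cj.of' e).comp q.c1⟩

theorem Ha.al_base (q : Hb ι k) (hk : k ∈ M) {x : T} (hb : x ∈ Bs) (hx : al x) :
    ∃ m ∈ M, Cj ι m x a := by
  have m : ∀ s, ι s ∈ M := fun s => hT ⟨s, rfl⟩
  have k1 : Cj ι (k * ι σ) (t * f') a :=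
    (Cj.of' (by decide +kernel)).comp ((q.c1.mul q.c6).congr rfl (by decide +kernel))
  rcases (by decide +kernel : ∀ x ∈ Bs, al x → x ∈ A1 ∨ ∃ s, s * x * s⁻¹ = t * f' ∨
    s * x * s⁻¹ = u * f' ∨ s * x * s⁻¹ = f * f') x hb hx with e | ⟨s, e | e | e⟩
  · obtain ⟨m, hm, e⟩ := p.inA1 hT hh e hx.2.1
    exact ⟨m, hm, e.elim (fun e => absurd e.1 hx.2.2) (·.2)⟩
  · exact ⟨_, mul_mem (mul_mem hk (m _)) (m s), (Cj.of' e).comp k1⟩
  · exact ⟨_, mul_mem (mul_mem hk (m _)) (mul_mem hh (m s)),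
      ((Cj.of' e).comp (p.c1.mul p.c4)).comp k1⟩
  · exact ⟨_, mul_mem (mul_mem hk (m _)) (mul_mem hk (m s)),
      ((Cj.of' e).comp (q.c1.mul q.c4)).comp k1⟩

end

theorem sig_cj {x : T} (hb : x ∉ Bs) (hx : x * x = 1) : ∃ s, s * x * s⁻¹ = σ :=
  (by decide +kernel : ∀ x ∉ Bs, x * x = 1 → ∃ s, s * x * s⁻¹ = σ) x hb hx

namespace Fu

variable (F : Fu ι) {x : T}
include F

theorem be_cj (hx : be x) : ∃ g, Cj ι g x t := by
  obtain ⟨h, p⟩ := F.h1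
  obtain ⟨k, q⟩ := F.h2
  exact (p.be_cj (M := ⊤) le_top trivial q trivial hx).imp fun _ e => e.2

theorem al_cj (hx : al x) : ∃ g, Cj ι g x a := by
  obtain ⟨h, p⟩ := F.h1
  obtain ⟨k, q⟩ := F.h2
  by_cases hb : x ∈ Bs
  · exact (p.al_base (M := ⊤) le_top trivial q trivial hb hx).imp fun _ e => e.2
  · obtain ⟨s, e⟩ := sig_cj hb hx.1
    obtain ⟨g, r⟩ := F.sg
    exact ⟨_, (Cj.of' e).comp r⟩

/-- fusion of the involutions of type `2⁴` inside a subgroup `M` containing `T`, `h`, `k`, `C(a)` -/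
theorem al_in [Finite X] {h k : X} (p : Ha ι h) (q : Hb ι k) {M : Subgroup X} (hh : h ∈ M) (hk : k ∈ M)
    (ha : 𝐂[ι a] ≤ M) (hx : al x) : ∃ m ∈ M, Cj ι m x a := by
  have hT : ι.range ≤ M := F.ca.trans ha
  by_cases hb : x ∈ Bs
  · exact p.al_base hT hh q hk hb hx
  obtain ⟨s, e⟩ := sig_cj hb hx.1
  obtain ⟨g, r⟩ := F.sg
  obtain ⟨g, -, r, r'⟩ := F.extZ (Y := ⊤) le_top a_comm trivial r
  obtain ⟨y, hy⟩ := r' (u * f * (u' * f')) (by decide +kernel)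
  have r2 : Cj ι g a (y * y) := (hy.mul hy).congr (by decide +kernel) rfl
  obtain ⟨m, hm, r3⟩ := p.al_base hT hh q hk ((by decide +kernel : ∀ y, y * y ∈ Bs) y)
    (F.ty' r2 al_a)
  exact ⟨_, mul_mem ((mul_mem_cancel_left hm).1 (ha (r2.comp r3).cent)) (hT ⟨s, rfl⟩),
    (Cj.of' e).comp r⟩

theorem solv_al (h : Group.IsSolvable 𝐂[ι a]) (hx : al x) : Group.IsSolvable 𝐂[ι x] := by
  obtain ⟨g, p⟩ := F.al_cj hx
  rw [← p.symm.cent_cj]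
  exact Group.isSolvable_of_surjective (f := ((MulAut.conj g⁻¹).subgroupMap _).toMonoidHom)
    (MulEquiv.surjective _)

end Fu

end H1.A10
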