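import Cfsg.Agent.Lib.A10.S
import Cfsg.Agent.Lib.NE8.T8

/-! # The model `S` is the Sylow 2-subgroup of the Lyons group -/

set_option autoImplicit false
set_option maxRecDepth 100000

namespace H1.A10

open Subgroup Cfsg H69 H45 H45.NE8

theorem S.ly : ∃ P : Sylow 2 Spor.Ly, Nonempty (S ≃* (P : Subgroup Spor.Ly)) := by
  have d := d8_of_sq (z := S.z) (a := S.of 64) (s := S.of 10) (t := S.of 38) (e := S.of 146)
    (u := S.of 36) S.z_sq (S.z_comm _).symm (S.z_comm _).symm (S.z_comm _).symm (by decide +kernel)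
    (by decide +kernel) (by decide +kernel) (by decide +kernel) (by decide +kernel)
    (by decide +kernel) (by decide +kernel) (by decide +kernel) (by decide +kernel)
    (by decide +kernel) (by decide +kernel)
  have h : pw S.z (S.z * S.of 36) H13.JT.F4.i ≠ 1 := by decide +kernel
  obtain ⟨P, ⟨e⟩⟩ := d.ly h
  exact ⟨P, ⟨(topEquiv.symm.trans (MulEquiv.subgroupCongr
    (eq_top_of_card_eq _ ((d.card h).trans S.card_eq.symm)).symm)).trans e⟩⟩

theorem exists_sy {G : Type*} [Group G] (Q : Sylow 2 G)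
    (h : ∃ P : Sylow 2 Spor.Ly, Nonempty ((Q : Subgroup G) ≃* (P : Subgroup Spor.Ly))) :
    ∃ ι : S →* G, Sy ι := by
  obtain ⟨P, ⟨e⟩⟩ := h
  obtain ⟨P', ⟨e'⟩⟩ := S.ly
  have := H54.Ly.finite
  let j : S ≃* Q := (e'.trans (P'.equiv P)).trans e.symm
  refine ⟨(Q : Subgroup G).subtype.comp j.toMonoidHom, Subtype.val_injective.comp j.injective, ?_⟩
  rw [MonoidHom.range_comp, MonoidHom.range_eq_top.2 j.surjective, ← MonoidHom.range_eq_map,
    range_subtype]
  exact isSylowIn_top Q

end H1.A10
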