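import Mathlib

/-! # A model of the wreath product of the dihedral group of order eight with a group of order two

The element with index `a + 8 b + 64 s` is `(a, b) σ^s`; in the dihedral group the index
`x + 2 y + 4 c` stands for `u^x f^y t^c` with `u = (1 2)`, `f = (1 3)(2 4)`, `t = (1 2)(3 4)`. -/

set_option autoImplicit false
set_option maxRecDepth 100000

noncomputable section

namespace H1.A10

/-- bounded quantifier -/
def allN (n : ℕ) (p : ℕ → Bool) : Bool := Nat.rec true (fun k r => Bool.rec false r (p k)) n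

theorem allN_iff {p : ℕ → Bool} : ∀ {n : ℕ}, allN n p = true ↔ ∀ k < n, p k = true
  | 0 => by simp [allN]
  | n + 1 => by
    have : allN (n + 1) p = Bool.rec false (allN n p) (p n) := rfl
    rw [this, Nat.forall_lt_succ_right, ← allN_iff]
    cases p n <;> simp

/-- bounded quantifier -/
def anyN (n : ℕ) (p : ℕ → Bool) : Bool := Nat.rec false (fun k r => Bool.rec r true (p k)) n

theorem anyN_iff {p : ℕ → Bool} : ∀ {n : ℕ}, anyN n p = true ↔ ∃ k < n, p k = true
  | 0 => by simp [anyN]
  | n + 1 => by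
    have : anyN (n + 1) p = Bool.rec (anyN n p) true (p n) := rfl
    rw [this, Nat.exists_lt_succ_right, ← anyN_iff]
    cases p n <;> simp

/-- counting -/
def cntN (n : ℕ) (p : ℕ → Bool) : ℕ := Nat.rec 0 (fun k r => Bool.rec r (Nat.succ r) (p k)) n

theorem cntN_eq (p : ℕ → Bool) : ∀ n, cntN n p = ((Finset.range n).filter (p · = true)).card
  | 0 => rfl
  | n + 1 => by
    have : cntN (n + 1) p = Bool.rec (cntN n p) (Nat.succ (cntN n p)) (p n) := rfl
    rw [this, Finset.range_add_one, Finset.filter_insert, cntN_eq p n]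
    cases p n <;> simp

/-- the dihedral group of order eight -/
def dm (a b : ℕ) : ℕ := Nat.mod (Nat.shiftRight 0x873157a3a31e4c1de5688fac15787331ea3ade54c1fac688
  (Nat.mul 3 (Nat.add (Nat.mul 8 a) b))) 8

/-- multiplication of indices -/
def tm (p q : ℕ) : ℕ := Bool.rec
  (Nat.add (Nat.add (dm (Nat.mod p 8) (Nat.mod (Nat.div q 8) 8))
    (Nat.mul 8 (dm (Nat.mod (Nat.div p 8) 8) (Nat.mod q 8)))) (Nat.mul 64 (Nat.sub 1 (Nat.div q 64))))
  (Nat.add (Nat.add (dm (Nat.mod p 8) (Nat.mod q 8))
    (Nat.mul 8 (dm (Nat.mod (Nat.div p 8) 8) (Nat.mod (Nat.div q 8) 8)))) (Nat.mul 64 (Nat.div q 64)))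
  (Nat.ble p 63)

/-- inversion of indices -/
def ti (p : ℕ) : ℕ := Nat.mod (Nat.shiftRight 0xb7cf5e3f74e5c3bddb766fd5a746bbd76e5fb566c5b9d3664f952644bfdf7e7ff5e7c7b5cb562f54a542b3c74e1f3464c1b1c3460f1424403678e9c3e68c9866d9ab46ec98b056b96ac5ea94a846992a44e890a076f9ebc7ee9cb82658a942e48890163868c1e2848806182840e08080 (Nat.mul 7 p)) 128

/-- the group `D₈ ≀ C₂` -/
@[ext] structure T where
  n : ℕ
  lt : n < 128

namespace T

/-- the element with a given index -/
def of (k : ℕ) : T := ⟨Nat.mod k 128, Nat.mod_lt _ (by decide)⟩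

theorem of_n (x : T) : of x.n = x := T.ext (Nat.mod_eq_of_lt x.lt)

instance : DecidableEq T := fun x y =>
  decidable_of_iff (Nat.beq x.n y.n = true) ⟨fun h => T.ext (Nat.eq_of_beq_eq_true h),
    fun h => h ▸ Nat.beq_refl _⟩

instance decAll (P : T → Prop) [DecidablePred P] : Decidable (∀ x, P x) :=
  decidable_of_iff (allN 128 (fun k => decide (P (of k))) = true) (by
    simp only [allN_iff, decide_eq_true_eq]
    exact ⟨fun h x => of_n x ▸ h x.n x.lt, fun h k _ => h _⟩)

instance decEx (P : T → Prop) [DecidablePred P] : Decidable (∃ x, P x) :=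
  decidable_of_iff (anyN 128 (fun k => decide (P (of k))) = true) (by
    simp only [anyN_iff, decide_eq_true_eq]
    exact ⟨fun ⟨k, _, h⟩ => ⟨_, h⟩, fun ⟨x, h⟩ => ⟨x.n, x.lt, (of_n x).symm ▸ h⟩⟩)

instance : Mul T := ⟨fun x y => of (tm x.n y.n)⟩
instance : One T := ⟨⟨0, by decide⟩⟩
instance : Inv T := ⟨fun x => of (ti x.n)⟩

/-- associativity in the middle argument -/
def L (g : T) : Prop := ∀ x y, x * g * y = x * (g * y)

theorem L.mul {g h : T} (a : L g) (b : L h) : L (g * h) := fun x y => by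
  rw [← a, b, a, b]

theorem L_gen : L (of 0) ∧ L (of 1) ∧ L (of 2) ∧ L (of 64) := by unfold L; decide +kernel

theorem nf : ∀ g : T, g = cond (g.n.testBit 0) (of 1) (of 0) * (cond (g.n.testBit 1) (of 2) (of 0) *
      (cond (g.n.testBit 2) (of 4) (of 0) * (cond (g.n.testBit 3) (of 8) (of 0) *
      (cond (g.n.testBit 4) (of 16) (of 0) * (cond (g.n.testBit 5) (of 32) (of 0) *
      cond (g.n.testBit 6) (of 64) (of 0)))))) := by decide +kernel

theorem nf' : of 1 * of 2 * (of 1 * of 2) = of 4 ∧ of 64 * of 1 * of 64 = of 8 ∧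
    of 64 * of 2 * of 64 = of 16 ∧ of 64 * of 4 * of 64 = of 32 := by decide +kernel

theorem ind {P : T → Prop} (m : ∀ {x y}, P x → P y → P (x * y)) (h0 : P (of 0)) (h1 : P (of 1))
    (h2 : P (of 2)) (h3 : P (of 64)) (g : T) : P g := by
  have h4 : P (of 4) := nf'.1 ▸ m (m h1 h2) (m h1 h2)
  have h8 : P (of 8) := nf'.2.1 ▸ m (m h3 h1) h3
  have h16 : P (of 16) := nf'.2.2.1 ▸ m (m h3 h2) h3
  have h32 : P (of 32) := nf'.2.2.2 ▸ m (m h3 h4) h3
  have p : ∀ {k}, P (of k) → ∀ b : Bool, P (cond b (of k) (of 0)) := fun h b => by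
    cases b; exacts [h0, h]
  rw [nf g]
  exact m (p h1 _) (m (p h2 _) (m (p h4 _) (m (p h8 _) (m (p h16 _) (m (p h32 _) (p h3 _))))))

theorem L_all (g : T) : L g :=
  ind (P := L) (fun a b => L.mul a b) L_gen.1 L_gen.2.1 L_gen.2.2.1 L_gen.2.2.2 g

instance : Group T := Group.ofLeftAxioms (fun x y z => L_all y x z)
  (by decide +kernel) (by decide +kernel)

instance : Fintype T := Fintype.ofEquiv (Fin 128) ⟨fun i => ⟨i.1, i.2⟩, fun x => ⟨x.n, x.lt⟩,
  fun _ => rfl, fun _ => rfl⟩

theorem card_eq : Nat.card T = 128 := by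
  rw [Nat.card_eq_fintype_card, Fintype.ofEquiv_card, Fintype.card_fin]

theorem two : IsPGroup 2 T := IsPGroup.of_card (n := 7) card_eq

/-- counting -/
def cnt (P : T → Prop) [DecidablePred P] : ℕ := cntN 128 fun k => decide (P (of k))

theorem cnt_eq (P : T → Prop) [DecidablePred P] : cnt P = {x | P x}.ncard := by
  rw [cnt, cntN_eq, ← Set.ncard_coe_finset, ← Set.ncard_image_of_injective _
    (fun x y h => T.ext h : Function.Injective T.n)]
  congr 1
  ext k
  simp only [Finset.coe_filter, Finset.mem_range, decide_eq_true_eq, Set.mem_ofPred_eq, Set.mem_image]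
  exact ⟨fun h => ⟨_, h.2, Nat.mod_eq_of_lt h.1⟩, fun ⟨x, h, e⟩ => e ▸ ⟨x.lt, (of_n x).symm ▸ h⟩⟩

theorem card_of (K : Subgroup T) [DecidablePred (· ∈ K)] : Nat.card K = cnt (· ∈ K) := by
  rw [cnt_eq]; rfl

/-- a subgroup given by a bit mask -/
def sub (m : ℕ) (h : Nat.testBit m 0 = true ∧ ∀ x : T, Nat.testBit m x.n = true →
    ∀ y : T, Nat.testBit m y.n = true → Nat.testBit m (x * y⁻¹).n = true) : Subgroup T :=
  Subgroup.ofDiv {x | Nat.testBit m x.n = true} ⟨1, h.1⟩ fun x hx y hy => h.2 x hx y hy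

/-- `(1 2)`, in `A₁₀` it is `(1 2)(9 10)` -/
def u : T := of 1
/-- `(1 3)(2 4)` -/
def f : T := of 2
/-- `(1 2)(3 4)` -/
def t : T := of 4
/-- `(5 6)`, in `A₁₀` it is `(5 6)(9 10)` -/
def u' : T := of 8
/-- `(5 7)(6 8)` -/
def f' : T := of 16
/-- `(5 6)(7 8)` -/
def t' : T := of 32
/-- the central involution `(1 2)(3 4)(5 6)(7 8)` -/
def a : T := of 36
/-- `(1 5)(2 6)(3 7)(4 8)` -/
def σ : T := of 64

/-- the fourteen involutions of type `2²` in `A₁₀` -/
def be (x : T) : Prop := Nat.testBit 0x1230100012376 x.n = true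
instance : DecidablePred be := fun x => inferInstanceAs (Decidable (Nat.testBit 0x1230100012376 x.n = true))
/-- the twenty-nine involutions of type `2⁴` in `A₁₀` -/
def al (x : T) : Prop := x * x = 1 ∧ x ≠ 1 ∧ ¬ be x
instance : DecidablePred al := fun x => inferInstanceAs (Decidable (x * x = 1 ∧ x ≠ 1 ∧ ¬ be x))
/-- the list of the involutions of type `2²` -/
def beL : List T := [of 1, of 2, of 4, of 5, of 6, of 8, of 9, of 13, of 16, of 32, of 40, of 41, of 45, of 48]
theorem mem_beL : ∀ x, be x ↔ x ∈ beL := by decide +kernel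
theorem be_inv : ∀ x, be x → x * x = 1 ∧ x ≠ 1 := by decide +kernel

/-- the base group `D × D'` -/
def Bs : Subgroup T := sub 0xffffffffffffffff (by decide +kernel)
instance (x : T) : Decidable (x ∈ Bs) := inferInstanceAs (Decidable (Nat.testBit 0xffffffffffffffff x.n = true))
/-- `⟨u, t, u', t'⟩` -/
def A1 : Subgroup T := sub 0x333300003333 (by decide +kernel)
instance (x : T) : Decidable (x ∈ A1) := inferInstanceAs (Decidable (Nat.testBit 0x333300003333 x.n = true))
/-- `⟨f, t, f', t'⟩` -/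
def A0 : Subgroup T := sub 0x55005500550055 (by decide +kernel)
instance (x : T) : Decidable (x ∈ A0) := inferInstanceAs (Decidable (Nat.testBit 0x55005500550055 x.n = true))
/-- `⟨f, t⟩` -/
def F0 : Subgroup T := sub 0x55 (by decide +kernel)
instance (x : T) : Decidable (x ∈ F0) := inferInstanceAs (Decidable (Nat.testBit 0x55 x.n = true))
/-- `⟨f', t'⟩` -/
def F1 : Subgroup T := sub 0x1000100010001 (by decide +kernel)
instance (x : T) : Decidable (x ∈ F1) := inferInstanceAs (Decidable (Nat.testBit 0x1000100010001 x.n = true))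
/-- `⟨u, t⟩` -/
def U0 : Subgroup T := sub 0x33 (by decide +kernel)
instance (x : T) : Decidable (x ∈ U0) := inferInstanceAs (Decidable (Nat.testBit 0x33 x.n = true))
/-- `⟨u', t'⟩` -/
def U1 : Subgroup T := sub 0x10100000101 (by decide +kernel)
instance (x : T) : Decidable (x ∈ U1) := inferInstanceAs (Decidable (Nat.testBit 0x10100000101 x.n = true))
/-- `U0 × D'`, the centraliser of `u` -/
def P1 : Subgroup T := sub 0x3333333333333333 (by decide +kernel)
instance (x : T) : Decidable (x ∈ P1) := inferInstanceAs (Decidable (Nat.testBit 0x3333333333333333 x.n = true))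
/-- `F0 × D'`, the centraliser of `f` -/
def P0 : Subgroup T := sub 0x5555555555555555 (by decide +kernel)
instance (x : T) : Decidable (x ∈ P0) := inferInstanceAs (Decidable (Nat.testBit 0x5555555555555555 x.n = true))
/-- the first factor `D = ⟨u, f⟩` -/
def Dl : Subgroup T := sub 0xff (by decide +kernel)
instance (x : T) : Decidable (x ∈ Dl) := inferInstanceAs (Decidable (Nat.testBit 0xff x.n = true))
/-- the second factor `D' = ⟨u', f'⟩` -/
def Dr : Subgroup T := sub 0x101010101010101 (by decide +kernel)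
instance (x : T) : Decidable (x ∈ Dr) := inferInstanceAs (Decidable (Nat.testBit 0x101010101010101 x.n = true))
/-- `⟨a, f f', σ⟩`, all its involutions have type `2⁴` -/
def E1 : Subgroup T := sub 0x400010000400010040001000040001 (by decide +kernel)
instance (x : T) : Decidable (x ∈ E1) := inferInstanceAs (Decidable (Nat.testBit 0x400010000400010040001000040001 x.n = true))
/-- the maximal subgroup containing `u` and `σ`, not `f` -/
def R1 : Subgroup T := sub 0xcccc3333cccc3333cccc3333cccc3333 (by decide +kernel)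
instance (x : T) : Decidable (x ∈ R1) := inferInstanceAs (Decidable (Nat.testBit 0xcccc3333cccc3333cccc3333cccc3333 x.n = true))
/-- the maximal subgroup containing `f` and `σ`, not `u` -/
def M1 : Subgroup T := sub 0xaa55aa55aa55aa55aa55aa55aa55aa55 (by decide +kernel)
instance (x : T) : Decidable (x ∈ M1) := inferInstanceAs (Decidable (Nat.testBit 0xaa55aa55aa55aa55aa55aa55aa55aa55 x.n = true))

theorem a_comm : ∀ x, x * a = a * x := by decide +kernel
theorem gen {K : Subgroup T} (h1 : u ∈ K) (h2 : f ∈ K) (h3 : σ ∈ K) (x : T) : x ∈ K :=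
  ind (P := (· ∈ K)) (fun a b => mul_mem a b) (one_mem K) h1 h2 h3 x

end T

end H1.A10
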